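import Groth.Agent.FlatmorThree.AmpleFamily
import Groth.Agent.PicAux.Hartogs
import Groth.Agent.PicAux.UFDExtend

/-!
Complements of affine opens in locally factorial Noetherian schemes.

The complement of a dense affine open has pure codimension one (Hartogs), so its reduced ideal is
invertible when the local rings are factorial; hence such schemes have ample families.
-/

universe u

open CategoryTheory CategoryTheory.Limits AlgebraicGeometry Opposite TopologicalSpace

set_option backward.isDefEq.respectTransparency.types false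

namespace Groth.FlatmorThree.AffineCompl

open Groth.PicAux Groth.PropsBasic.Ample

/-- A radical ideal of a factorial domain whose minimal primes have height one is principal. -/
theorem exists_span_of_minimalPrimes {A : Type u} [CommRing A] [IsDomain A] [UniqueFactorizationMonoid A]
    [IsNoetherianRing A] (I : Ideal A) (hI : I.IsRadical)
    (h : ∀ Q ∈ I.minimalPrimes, Q ≠ ⊥ ∧ Q.height ≤ 1) : ∃ g, g ≠ 0 ∧ I = Ideal.span {g} := by
  classical
  have hp : ∀ Q ∈ I.minimalPrimes, ∃ p : A, Prime p ∧ Q = Ideal.span {p} := fun Q hQ => by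
    have := hQ.isPrime
    obtain ⟨p, hpQ, hp⟩ := Ideal.IsPrime.exists_mem_prime_of_ne_bot ‹Q.IsPrime› (h Q hQ).1
    refine ⟨p, hp, ?_⟩
    have hpp : (Ideal.span {p}).IsPrime := (Ideal.span_singleton_prime hp.ne_zero).2 hp
    have hle : Ideal.span {p} ≤ Q := (Ideal.span_singleton_le_iff_mem _).2 hpQ
    by_contra hne
    have hlt : Ideal.span {p} < Q := lt_of_le_of_ne hle (Ne.symm hne)
    have h1 := Ideal.height_strict_mono_of_isPrime hlt
    have h0 : (⊥ : Ideal A) < Ideal.span {p} := bot_lt_iff_ne_bot.2 (by simpa using hp.ne_zero)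
    have h2 := Ideal.height_strict_mono_of_isPrime h0
    have := h1.trans_le (h Q hQ).2
    rw [ENat.lt_one_iff_eq_zero] at this
    rw [this] at h2
    exact not_lt_zero h2
  choose! p hpp hQp using hp
  let s := (I.finite_minimalPrimes_of_isNoetherianRing A).toFinset
  have key : ∀ t : Finset (Ideal A), t ⊆ s → (t.inf id = Ideal.span {∏ Q ∈ t, p Q}) := by
    intro t
    induction t using Finset.induction_on with
    | empty => intro _; simp
    | insert Q t hQt ih =>
      intro hs
      have hQ : Q ∈ I.minimalPrimes := (Set.Finite.mem_toFinset _).1 (hs (Finset.mem_insert_self _ _))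
      rw [Finset.inf_insert, ih ((Finset.subset_insert _ _).trans hs), Finset.prod_insert hQt, id_eq]
      refine le_antisymm (fun x hx => ?_) ?_
      · obtain ⟨hxQ, hxt⟩ := hx
        obtain ⟨c, rfl⟩ := Ideal.mem_span_singleton'.1 hxt
        rw [hQp Q hQ] at hxQ
        have hd : p Q ∣ c * ∏ R ∈ t, p R := Ideal.mem_span_singleton.1 hxQ
        rcases (hpp Q hQ).dvd_or_dvd hd with hc | hc
        · exact Ideal.mem_span_singleton.2 (mul_dvd_mul hc dvd_rfl)
        · exfalso
          obtain ⟨R, hRt, hR⟩ := ((hpp Q hQ).dvd_finsetProd_iff _).1 hc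
          have hR' : R ∈ I.minimalPrimes := (Set.Finite.mem_toFinset _).1 (hs (Finset.mem_insert_of_mem hRt))
          have hle : R ≤ Q := by
            rw [hQp R hR', hQp Q hQ, Ideal.span_singleton_le_span_singleton]
            exact hR
          exact hQt (le_antisymm (hQ.2 ⟨hR'.isPrime, hR'.le⟩ hle) hle ▸ hRt)
      · rw [Ideal.span_singleton_le_iff_mem]
        exact ⟨(hQp Q hQ).ge (Ideal.mem_span_singleton.2 (dvd_mul_right _ _)),
          Ideal.mem_span_singleton.2 (dvd_mul_left _ _)⟩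
  refine ⟨∏ Q ∈ s, p Q, Finset.prod_ne_zero_iff.2 fun Q hQ => (hpp Q ((Set.Finite.mem_toFinset _).1 hQ)).ne_zero, ?_⟩
  rw [← key s subset_rfl, Finset.inf_id_eq_sInf, Set.Finite.coe_toFinset, Ideal.sInf_minimalPrimes, hI.radical]

variable {X : Scheme.{u}}

/-- An affine open with the same functions as an affine scheme is the whole scheme. -/
theorem eq_top_of_bijective [IsAffine X] {U : X.Opens} (hU : IsAffineOpen U)
    (h : Function.Bijective (X.presheaf.map (homOfLE (le_top : U ≤ ⊤)).op)) : U = ⊤ := by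
  have : IsAffine U.toScheme := hU
  have h1 : IsIso U.ι.appTop := by
    have key : ∀ {U' : X.Opens}, U' = U → ∀ i : U' ⟶ ⊤, IsIso (X.presheaf.map i.op) := fun {U'} e i => by
      subst e
      exact (ConcreteCategory.isIso_iff_bijective _).2 h
    rw [Scheme.Opens.ι_appTop]
    exact key U.ι_image_top _
  have hi : IsIso U.ι :=
    ((HasAffineProperty.iff_of_isAffine (P := MorphismProperty.isomorphisms Scheme)).2 ⟨‹_›, h1⟩ :)
  have := Scheme.Hom.opensRange_of_isIso U.ι
  rwa [Scheme.Opens.opensRange_ι] at this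

/-- A point outside an affine open all whose generisations within an affine neighbourhood lie in it has codimension at most one. -/
theorem height_le_one {U V : X.Opens} [IsLocallyNoetherian X]
    (hX : ∀ x : X, IsDomain (X.presheaf.stalk x) ∧ IsIntegrallyClosed (X.presheaf.stalk x))
    (hV : IsAffineOpen V) (hUV : IsAffineOpen (V ⊓ U))
    {q : Ideal Γ(X, V)} (hq : q ∈ (Ideal.minimalPrimes ((Scheme.IdealSheafData.vanishingIdeal U.compl).ideal ⟨V, hV⟩))) :
    q.height ≤ 1 := by
  classical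
  haveI : IsNoetherianRing Γ(X, V) := IsLocallyNoetherian.component_noetherian ⟨V, hV⟩
  let I := (Scheme.IdealSheafData.vanishingIdeal U.compl).ideal ⟨V, hV⟩
  have := hq.isPrime
  by_contra hh
  rw [not_le] at hh
  let s := (I.finite_minimalPrimes_of_isNoetherianRing Γ(X, V)).toFinset.erase q
  obtain ⟨f, hfs, hfq⟩ : ∃ f, f ∈ s.inf id ∧ f ∉ q := SetLike.not_le_iff_exists.1 fun hle => by
    obtain ⟨R, hR, hRq⟩ := (Ideal.IsPrime.inf_le' ‹q.IsPrime›).1 hle
    obtain ⟨hne, hR'⟩ := Finset.mem_erase.1 hR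
    rw [Set.Finite.mem_toFinset] at hR'
    exact hne (le_antisymm hRq (hq.2 ⟨hR'.isPrime, hR'.le⟩ hRq))
  let Y := (X.basicOpen f).toScheme
  have hYa : IsAffine Y := hV.basicOpen f
  have : IsNoetherianRing Γ(X, X.basicOpen f) := IsLocallyNoetherian.component_noetherian ⟨_, hV.basicOpen f⟩
  have : NoetherianSpace Y := noetherianSpace_of_isAffineOpen _ (hV.basicOpen f)
  have : IsLocallyNoetherian Y := isLocallyNoetherian_of_isOpenImmersion (X.basicOpen f).ι
  let W : Y.Opens := (X.basicOpen f).ι ⁻¹ᵁ U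
  have hdim : ∀ y : Y, y ∉ W → (2 : WithBot ℕ∞) ≤ ringKrullDim (Y.presheaf.stalk y) := fun y hy => by
    rw [ringKrullDim_eq_of_ringEquiv ((X.basicOpen f).stalkIso y).commRingCatIsoToRingEquiv]
    have hyV : (y.1 : X) ∈ V := X.basicOpen_le f y.2
    let _ := X.presheaf.algebra_section_stalk ⟨y.1, hyV⟩
    haveI := hV.isLocalization_stalk ⟨y.1, hyV⟩
    rw [IsLocalization.AtPrime.ringKrullDim_eq_height (hV.primeIdealOf ⟨y.1, hyV⟩).asIdeal (X.presheaf.stalk y.1)]
    have hIy : I ≤ (hV.primeIdealOf ⟨y.1, hyV⟩).asIdeal := fun a ha => by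
      have ha' : a ∈ PrimeSpectrum.vanishingIdeal (hV.fromSpec ⁻¹' (U.compl : Set X)) := ha
      refine (PrimeSpectrum.mem_vanishingIdeal _ _).1 ha' _ ?_
      show hV.fromSpec _ ∈ (U.compl : Set X)
      rw [hV.fromSpec_primeIdealOf]
      exact hy
    obtain ⟨R, hR, hRle⟩ := Ideal.exists_minimalPrimes_le hIy
    have hRq : R = q := by
      by_contra hne
      have hfR : f ∈ R := (Finset.inf_le (f := id) (Finset.mem_erase.2 ⟨hne, (Set.Finite.mem_toFinset _).2 hR⟩)) hfs
      have := (Scheme.mem_basicOpen X f y.1 hyV).1 y.2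
      exact (IsLocalization.AtPrime.isUnit_to_map_iff (X.presheaf.stalk y.1) (hV.primeIdealOf ⟨y.1, hyV⟩).asIdeal f).1
        this (hRle hfR)
    have h2 : (2 : ℕ∞) ≤ (hV.primeIdealOf ⟨y.1, hyV⟩).asIdeal.height :=
      (Order.add_one_le_of_lt hh).trans (Ideal.height_mono (hRq ▸ hRle))
    exact WithBot.coe_le_coe.2 h2
  have hYX : ∀ y : Y, IsDomain (Y.presheaf.stalk y) ∧ IsIntegrallyClosed (Y.presheaf.stalk y) := fun y => by
    let e := ((X.basicOpen f).stalkIso y).commRingCatIsoToRingEquiv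
    haveI := (hX y.1).1
    haveI := (hX y.1).2
    exact ⟨MulEquiv.isDomain _ e.toMulEquiv, IsIntegrallyClosed.of_equiv e.symm⟩
  have hbij : Function.Bijective (Y.presheaf.map (homOfLE (le_top : W ≤ ⊤)).op) :=
    Misc7.DepthTwo.bijective_restrict (fun z hz => by
      have := (hYX z).1
      have := (hYX z).2
      exact exists_regular_pair (RefRank.two_le_depth_of_normal (hdim z hz)))
      (isAffineOpen_top Y) (top_inf_eq W).symm _
  have hWa : IsAffineOpen W := by
    rw [← (X.basicOpen f).ι.isAffineOpen_iff_of_isOpenImmersion, Scheme.Hom.image_preimage_eq_opensRange_inf,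
      Scheme.Opens.opensRange_ι]
    have h := hUV.basicOpen (X.presheaf.map (homOfLE (inf_le_left : V ⊓ U ≤ V)).op f)
    rw [Scheme.basicOpen_res] at h
    rwa [show X.basicOpen f ⊓ U = V ⊓ U ⊓ X.basicOpen f by
      rw [inf_assoc, inf_comm U, ← inf_assoc, inf_eq_right.2 (X.basicOpen_le f)]]
  have htop := eq_top_of_bijective hWa hbij
  -- the point of `q` lies in `X_f ∖ U`
  let y₀ : X := hV.fromSpec ⟨q, inferInstance⟩
  have hy₀ : y₀ ∈ X.basicOpen f := by
    have : (⟨q, inferInstance⟩ : PrimeSpectrum Γ(X, V)) ∈ hV.fromSpec ⁻¹ᵁ X.basicOpen f := by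
      rw [hV.fromSpec_preimage_basicOpen]
      exact hfq
    exact this
  have hy₀U : y₀ ∈ U := (htop.ge (show (⟨y₀, hy₀⟩ : Y) ∈ (⊤ : Y.Opens) from trivial) :)
  let Z : Set (PrimeSpectrum Γ(X, V)) := hV.fromSpec ⁻¹' (U.compl : Set X)
  have hZc : IsClosed Z := U.compl.isClosed.preimage hV.fromSpec.continuous
  have hqZ : (⟨q, inferInstance⟩ : PrimeSpectrum Γ(X, V)) ∈ closure Z := by
    rw [← PrimeSpectrum.zeroLocus_vanishingIdeal_eq_closure]
    exact hq.1.2
  rw [hZc.closure_eq] at hqZ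
  exact hqZ hy₀U

/-- The reduced complement of a dense affine open is an effective Cartier divisor. -/
theorem isEffCartierIdeal_compl [IsLocallyNoetherian X]
    (hfact : ∀ x : X, ∃ _ : IsDomain (X.presheaf.stalk x), UniqueFactorizationMonoid (X.presheaf.stalk x))
    (hdiag : ∀ U V : X.Opens, IsAffineOpen U → IsAffineOpen V → IsAffineOpen (U ⊓ V))
    {U : X.Opens} (hU : IsAffineOpen U) (hd : Dense (U : Set X)) :
    BlowUp.IsEffCartierIdeal (Scheme.IdealSheafData.vanishingIdeal U.compl) := by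
  classical
  intro x
  have hX : ∀ x : X, IsDomain (X.presheaf.stalk x) ∧ IsIntegrallyClosed (X.presheaf.stalk x) := fun x => by
    obtain ⟨_, _⟩ := hfact x
    exact ⟨‹_›, inferInstance⟩
  obtain ⟨_, _⟩ := hfact x
  obtain ⟨W, hxW, hWint, -⟩ := exists_integral_nhd x
  obtain ⟨⟨V, hV⟩, hxV, hVW⟩ := Divisors.exists_affine_le x W hxW
  haveI : Nonempty V.toScheme := ⟨⟨x, hxV⟩⟩
  haveI : IsIntegral V.toScheme := isIntegral_of_isOpenImmersion (X.homOfLE hVW)
  haveI : IsDomain Γ(X, V) := MulEquiv.isDomain Γ(V.toScheme, ⊤)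
    V.topIso.symm.commRingCatIsoToRingEquiv.toMulEquiv
  haveI : IsNoetherianRing Γ(X, V) := IsLocallyNoetherian.component_noetherian ⟨V, hV⟩
  let I := (Scheme.IdealSheafData.vanishingIdeal U.compl).ideal ⟨V, hV⟩
  have hIrad : I.IsRadical := PrimeSpectrum.isRadical_vanishingIdeal (hV.fromSpec ⁻¹' (U.compl : Set X))
  have hI0 : I ≠ ⊥ := fun h0 => by
    obtain ⟨y, hyV, hyU⟩ := hd.inter_open_nonempty (V : Set X) V.isOpen ⟨x, hxV⟩
    let Z : Set (PrimeSpectrum Γ(X, V)) := hV.fromSpec ⁻¹' (U.compl : Set X)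
    have hZc : IsClosed Z := U.compl.isClosed.preimage hV.fromSpec.continuous
    have h1 : hV.primeIdealOf ⟨y, hyV⟩ ∈ closure Z := by
      rw [← PrimeSpectrum.zeroLocus_vanishingIdeal_eq_closure]
      intro a ha
      have ha' : a ∈ I := ha
      rw [h0, Ideal.mem_bot] at ha'
      rw [ha']
      exact zero_mem _
    rw [hZc.closure_eq] at h1
    have h2 : hV.fromSpec (hV.primeIdealOf ⟨y, hyV⟩) ∈ (U.compl : Set X) := h1
    rw [hV.fromSpec_primeIdealOf] at h2
    exact h2 hyU
  let _ := X.presheaf.algebra_section_stalk ⟨x, hxV⟩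
  haveI := hV.isLocalization_stalk ⟨x, hxV⟩
  let P := (hV.primeIdealOf ⟨x, hxV⟩).asIdeal
  let A := X.presheaf.stalk x
  haveI : IsNoetherianRing A := inferInstance
  obtain ⟨g, hg0, hg⟩ := exists_span_of_minimalPrimes (A := A) (I.map (algebraMap Γ(X, V) A)) (by
      rw [← Ideal.radical_eq_iff, ← IsLocalization.map_radical P.primeCompl, hIrad.radical]) fun Q hQ => by
    rw [IsLocalization.minimalPrimes_map P.primeCompl A I] at hQ
    have hq : Q.comap (algebraMap Γ(X, V) A) ∈ I.minimalPrimes := hQ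
    refine ⟨fun hQ0 => hI0 (le_bot_iff.1 ?_), ?_⟩
    · have hinj : Function.Injective (algebraMap Γ(X, V) A) :=
        IsLocalization.injective A P.primeCompl_le_nonZeroDivisors
      refine hq.1.2.trans (le_of_eq ?_)
      rw [hQ0, Ideal.comap_bot_of_injective _ hinj]
    · rw [← IsLocalization.height_under P.primeCompl Q]
      exact height_le_one hX hV (hdiag _ _ hV hU) hq
  obtain ⟨⟨a, t⟩, hat⟩ := IsLocalization.surj P.primeCompl g
  have htu : IsUnit (algebraMap Γ(X, V) A t) := IsLocalization.map_units A t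
  have hspan : I.map (algebraMap Γ(X, V) A) = Ideal.span {algebraMap Γ(X, V) A a} := by
    rw [← hat, Ideal.span_singleton_mul_right_unit htu, hg]
  obtain ⟨t₀, ht₀, ha₀⟩ := (IsLocalization.algebraMap_mem_map_algebraMap_iff P.primeCompl A I a).1
    (hspan ▸ Ideal.mem_span_singleton_self _)
  obtain ⟨G, hG⟩ := IsNoetherian.noetherian I
  have hb : ∀ b : G, ∃ s ∈ P.primeCompl, s * b.1 ∈ Ideal.span {t₀ * a} := fun b => by
    refine (IsLocalization.algebraMap_mem_map_algebraMap_iff P.primeCompl A _ _).1 ?_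
    rw [Ideal.map_span, Set.image_singleton, map_mul,
      Ideal.span_singleton_mul_left_unit (IsLocalization.map_units A (⟨t₀, ht₀⟩ : P.primeCompl)), ← hspan]
    exact Ideal.mem_map_of_mem _ (hG ▸ Submodule.subset_span b.2)
  choose σ hσ hσb using hb
  let f := ∏ b : G, σ b
  have hf : f ∈ P.primeCompl := prod_mem fun b _ => hσ b
  have hfI : ∀ b ∈ I, f * b ∈ Ideal.span {t₀ * a} := fun b hb => by
    rw [← hG] at hb
    induction hb using Submodule.span_induction with
    | mem b hb =>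
      rw [show f = (∏ c ∈ Finset.univ.erase (⟨b, hb⟩ : G), σ c) * σ ⟨b, hb⟩ from
        (Finset.prod_erase_mul _ _ (Finset.mem_univ _)).symm, mul_assoc]
      exact Ideal.mul_mem_left _ _ (hσb ⟨b, hb⟩)
    | zero => simp
    | add p q _ _ hp hq => rw [mul_add]; exact add_mem hp hq
    | smul c p _ hp => rw [smul_eq_mul, mul_left_comm]; exact Ideal.mul_mem_left _ _ hp
  have hxf : x ∈ X.basicOpen f := (Scheme.mem_basicOpen X f x hxV).2 (IsLocalization.map_units A (⟨f, hf⟩ : P.primeCompl))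
  let F := (X.presheaf.map (homOfLE (X.basicOpen_le f)).op).hom
  let O : X.affineOpens := X.affineBasicOpen (U := ⟨V, hV⟩) f
  have hFu : IsUnit (F f) := RingedSpace.isUnit_res_basicOpen _ f
  haveI : Nonempty (X.basicOpen f).toScheme := ⟨⟨x, hxf⟩⟩
  haveI : IsIntegral (X.basicOpen f).toScheme :=
    isIntegral_of_isOpenImmersion (X.homOfLE (X.basicOpen_le f))
  haveI : IsDomain Γ(X, O.1) := MulEquiv.isDomain Γ((X.basicOpen f).toScheme, ⊤)
    (X.basicOpen f).topIso.symm.commRingCatIsoToRingEquiv.toMulEquiv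
  refine ⟨O, hxf, F (t₀ * a), mem_nonZeroDivisors_of_ne_zero fun h0 => hg0 ?_ , ?_⟩
  · have h1 : algebraMap Γ(X, V) A (t₀ * a) = 0 := by
      have := (congrArg (X.presheaf.germ (X.basicOpen f) x hxf) h0).trans (map_zero (X.presheaf.germ (X.basicOpen f) x hxf).hom)
      exact (X.presheaf.germ_res_apply (homOfLE (X.basicOpen_le f)) x hxf _).symm.trans this
    rw [map_mul, (IsLocalization.map_units A (⟨t₀, ht₀⟩ : P.primeCompl)).mul_right_eq_zero, ← hat] at h1
    exact htu.mul_left_eq_zero.1 h1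
  · rw [← (Scheme.IdealSheafData.vanishingIdeal U.compl).map_ideal_basicOpen ⟨V, hV⟩ f]
    refine le_antisymm (Ideal.map_le_iff_le_comap.2 fun b hb => ?_) ?_
    · obtain ⟨c, hc⟩ := Ideal.mem_span_singleton'.1 (hfI b hb)
      obtain ⟨u, hu⟩ := hFu
      have e : (↑u⁻¹ * F c) * F (t₀ * a) = F b := by
        rw [mul_assoc, ← map_mul, hc, map_mul, ← hu, Units.inv_mul_cancel_left]
      exact Ideal.mem_span_singleton'.2 ⟨_, e⟩
    · rw [Ideal.span_singleton_le_iff_mem]
      exact Ideal.mem_map_of_mem _ ha₀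

/-- A dense affine open around a point. -/
theorem exists_dense_affine [NoetherianSpace X] (x : X) :
    ∃ U : X.Opens, IsAffineOpen U ∧ x ∈ U ∧ Dense (U : Set X) := by
  obtain ⟨W, hxW, -⟩ := Divisors.exists_affine_le x ⊤ trivial
  obtain ⟨U, ⟨hU, hxU⟩, hmax⟩ := (wellFounded_gt (α := X.Opens)).has_min {U | IsAffineOpen U ∧ x ∈ U} ⟨W.1, W.2, hxW⟩
  refine ⟨U, hU, hxU, dense_iff_inter_open.2 fun O hO hne => ?_⟩
  by_contra hOU
  rw [Set.not_nonempty_iff_eq_empty] at hOU
  obtain ⟨y, hy⟩ := hne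
  obtain ⟨A, hyA, hA⟩ := Divisors.exists_affine_le y ⟨O, hO⟩ hy
  have hdis : Disjoint A.1 U := by
    rw [disjoint_iff, eq_bot_iff]
    exact fun z hz => (Set.eq_empty_iff_forall_notMem.1 hOU z ⟨hA hz.1, hz.2⟩).elim
  refine hmax (U ⊔ A.1) ⟨?_, Or.inl hxU⟩ (lt_of_le_of_ne le_sup_left fun he =>
    Set.eq_empty_iff_forall_notMem.1 hOU y ⟨hy, he.ge (Or.inr hyA)⟩)
  rw [show U ⊔ A.1 = ⨆ i : Bool, cond i U A.1 from (iSup_bool_eq (f := fun i => cond i U A.1)).symm]
  refine IsAffineOpen.iSup_of_disjoint (fun i => by cases i; exacts [A.2, hU]) fun i j hij => ?_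
  cases i <;> cases j <;> simp_all [Function.onFun, hdis, hdis.symm]

/-- Locally factorial quasi-compact schemes with affine diagonal have ample families. -/
theorem hasAmpleFamily_of_factorial [IsLocallyNoetherian X] [CompactSpace X]
    (hfact : ∀ x : X, ∃ _ : IsDomain (X.presheaf.stalk x), UniqueFactorizationMonoid (X.presheaf.stalk x))
    (hdiag : ∀ U V : X.Opens, IsAffineOpen U → IsAffineOpen V → IsAffineOpen (U ⊓ V)) :
    MoreMor.HasAmpleFamily X := by
  haveI : IsNoetherian X := ⟨⟩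
  refine AmpleFam.hasAmpleFamily_of_loci fun x => ?_
  obtain ⟨U, hU, hxU, hd⟩ := exists_dense_affine x
  obtain ⟨P, T, hP, hT⟩ := AmpleFam.exists_canonical (isEffCartierIdeal_compl hfact hdiag hU hd)
  have hT' : gloc T = U := by
    rw [hT]
    ext z
    simp
  exact ⟨P, T, hP, hT' ▸ hxU, hT' ▸ hU⟩

end Groth.FlatmorThree.AffineCompl
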