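import Groth.Agent.VarietyBC.TensorGeom
import Mathlib.AlgebraicGeometry.Geometrically.Irreducible
import Mathlib.AlgebraicGeometry.Pullbacks

/-! Geometric irreducibility of `Spec L → Spec k`. -/

set_option autoImplicit false

universe u

open CategoryTheory Limits AlgebraicGeometry TensorProduct

namespace Groth.FlatmorThree

theorem geometricallyIrreducible_specMap_iff (k L : Type u) [Field k] [CommRing L] [Algebra k L] :
    GeometricallyIrreducible (Spec.map (CommRingCat.ofHom (algebraMap k L))) ↔
      ∀ (F : Type u) [Field F] [Algebra k F], (nilradical (L ⊗[k] F)).IsPrime := by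
  rw [GeometricallyIrreducible.eq_geometrically,
    geometrically_iff_of_commRing_of_isClosedUnderIsomorphisms]
  refine forall_congr' fun F => forall_congr' fun _ => forall_congr' fun _ => ?_
  rw [← PrimeSpectrum.irreducibleSpace_iff_isPrime_nilradical]
  exact (pullbackSpecIso k L F).hom.homeomorph.irreducibleSpace_iff

theorem geometricallyIrreducible_specMap_of_sepClosedIn (k L : Type u) [Field k] [Field L]
    [Algebra k L] (hL : ∀ x : L, IsSeparable k x → x ∈ Set.range (algebraMap k L)) :
    GeometricallyIrreducible (Spec.map (CommRingCat.ofHom (algebraMap k L))) :=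
  (geometricallyIrreducible_specMap_iff k L).mpr fun F _ _ =>
    Groth.VarietyBC.nilradical_isPrime_tensor_of_sepClosedIn hL F

end Groth.FlatmorThree
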