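import Groth.Agent.Calg1.ProjDescent
import Mathlib.RingTheory.Flat.FaithfullyFlat.Algebra
import Mathlib.RingTheory.Flat.Localization
import Mathlib.LinearAlgebra.DFinsupp
import Mathlib.Data.Finsupp.ToDFinsupp

/-!
# Projectivity is Zariski local

Deduced from faithfully flat descent of projectivity.
-/

universe u
open TensorProduct

namespace Groth.FlatmorThree

lemma projective_trans (S : Type u) {B : Type u} [CommRing S] [CommRing B] [Algebra S B]
    (P : Type u) [AddCommGroup P] [Module B P] [Module S P] [IsScalarTower S B P]
    [Module.Projective S B] [Module.Projective B P] : Module.Projective S P := by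
  classical
  obtain ⟨σ, hσ⟩ := Module.projective_def'.mp ‹Module.Projective B P›
  have : Module.Projective S (P →₀ B) := Module.Projective.of_equiv' (finsuppLequivDFinsupp S).symm
  exact Module.Projective.of_split (σ.restrictScalars S)
    ((Finsupp.linearCombination B (id : P → P)).restrictScalars S)
    (LinearMap.ext fun x => LinearMap.congr_fun hσ x)

set_option backward.isDefEq.respectTransparency false in
/-- A module which is projective after inverting each element of a set spanning the unit ideal is
projective. -/
theorem projective_of_localized_span {R : Type u} [CommRing R] (M : Type u) [AddCommGroup M]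
    [Module R M] (s : Set R) (hs : Ideal.span s = ⊤)
    (h : ∀ g : s, Module.Projective (Localization (Submonoid.powers g.1))
      (LocalizedModule (Submonoid.powers g.1) M)) :
    Module.Projective R M := by
  classical
  obtain ⟨t, hts, ht⟩ := (Ideal.span_eq_top_iff_finite s).mp hs
  let B : t → Type u := fun g => Localization (Submonoid.powers g.1)
  let S : Type u := (g : t) → B g
  have : Module.Flat R S := Module.Flat.of_linearEquiv
    (DFinsupp.linearEquivFunOnFintype (R := R) (M := B)).symm
  have : Module.FaithfullyFlat R S := by
    refine Module.FaithfullyFlat.of_comap_surjective fun p => ?_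
    obtain ⟨g, hg, hgp⟩ : ∃ g ∈ t, g ∉ p.asIdeal := by
      by_contra hne
      refine p.isPrime.ne_top ?_
      rw [← top_le_iff, ← ht, Ideal.span_le]
      exact fun g hg => not_not.mp fun h' => hne ⟨g, hg, h'⟩
    have hp : p ∈ Set.range (PrimeSpectrum.comap (algebraMap R (B ⟨g, hg⟩))) := by
      rw [PrimeSpectrum.localization_away_comap_range (B ⟨g, hg⟩) g]
      exact hgp
    obtain ⟨q, hq⟩ := hp
    exact ⟨PrimeSpectrum.comap (Pi.evalRingHom B ⟨g, hg⟩) q, hq⟩
  have hproj : ∀ g : t, Module.Projective (B g) (B g ⊗[R] M) := fun g => by
    have := h ⟨g.1, hts g.2⟩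
    exact Module.Projective.of_equiv'
      (IsLocalizedModule.isBaseChange (Submonoid.powers g.1) (B g)
        (LocalizedModule.mkLinearMap (Submonoid.powers g.1) M)).equiv.symm
  let alg : ∀ g : t, Algebra S (B g) := fun g => (Pi.evalRingHom B g).toAlgebra
  have : ∀ g : t, IsScalarTower R S (B g) := fun g => .of_algebraMap_eq fun _ => rfl
  let ι : ∀ g : t, B g →ₗ[S] S := fun g =>
    { toFun := Pi.single g
      map_add' := fun x y => Pi.single_add (f := B) g x y
      map_smul' := fun c x => by
        refine funext fun j => ?_
        by_cases hj : j = g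
        · subst hj
          show Pi.single j (c j * x) j = c j * Pi.single j x j
          rw [Pi.single_eq_same, Pi.single_eq_same]
        · show Pi.single g (c g * x) j = c j * Pi.single g x j
          rw [Pi.single_eq_of_ne hj, Pi.single_eq_of_ne hj, mul_zero] }
  let π : ∀ g : t, S →ₗ[S] B g := fun g => Algebra.linearMap S (B g)
  have hBS : ∀ g : t, Module.Projective S (B g) := fun g =>
    Module.Projective.of_split (ι g) (π g) (LinearMap.ext fun x => Pi.single_eq_same g x)
  have hBM : ∀ g : t, Module.Projective S (B g ⊗[R] M) := fun g => by
    have := hBS g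
    have := hproj g
    exact projective_trans S (B := B g) (B g ⊗[R] M)
  have : Module.Projective S (S ⊗[R] M) := by
    refine Module.Projective.of_split (M := Π₀ g : t, B g ⊗[R] M)
      ((DFinsupp.linearEquivFunOnFintype (R := S) (M := fun g : t => B g ⊗[R] M)).symm.toLinearMap
        ∘ₗ LinearMap.pi fun g => AlgebraTensorModule.rTensor R M (π g))
      ((LinearMap.lsum S (fun g : t => B g ⊗[R] M) S fun g =>
          AlgebraTensorModule.rTensor R M (ι g)) ∘ₗ
        (DFinsupp.linearEquivFunOnFintype (R := S) (M := fun g : t => B g ⊗[R] M)).toLinearMap) ?_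
    refine LinearMap.ext fun z => ?_
    induction z with
    | zero => simp only [map_zero]
    | tmul x m =>
      simp only [LinearMap.comp_apply, LinearEquiv.coe_coe, LinearEquiv.apply_symm_apply,
        LinearMap.lsum_apply, LinearMap.coe_sum, Finset.sum_apply, LinearMap.proj_apply,
        LinearMap.pi_apply, AlgebraTensorModule.rTensor_tmul, LinearMap.id_apply]
      rw [← TensorProduct.sum_tmul]
      congr 1
      exact Finset.univ_sum_single (f := x)
    | add a b ha hb => simp only [map_add, ha, hb]
  exact Groth.Calg1.projective_descent (S := S) M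

end Groth.FlatmorThree
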