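import Mathlib.Algebra.TrivSqZeroExt.Ideal
import Mathlib.Algebra.Module.Projective
import Mathlib.Algebra.Module.Torsion.Basic
import Mathlib.RingTheory.Ideal.Quotient.Operations
import Mathlib.Tactic.LinearCombination
import Mathlib.Tactic.Abel

/-!
# Retractions of square zero thickenings

Given an `A`-algebra `C` with a map `π : C →ₐ[A] A ⧸ I` whose kernel squares to zero, the cokernel
`P` of `A → C` is an `A ⧸ I`-module, ring maps from `C` into trivial square zero extensions compatible
with `π` correspond to linear maps out of `P`, and if `A → C` is injective and `P` is projective then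
`π` lifts to an algebra retraction `C → A`.
-/

universe u v w

namespace Groth.FlatmorThree

/-- An `A`-algebra `C` thickening `A ⧸ I`. -/
structure Thick {A : Type u} [CommRing A] (I : Ideal A) (C : Type v) [CommRing C] [Algebra A C]
    where
  π : C →ₐ[A] A ⧸ I
  sq : RingHom.ker π.toRingHom ^ 2 = ⊥

namespace Thick

variable {A : Type u} [CommRing A] {I : Ideal A} {C : Type v} [CommRing C] [Algebra A C]
  (T : Thick I C)

lemma π_surjective : Function.Surjective T.π := fun x => by
  obtain ⟨a, rfl⟩ := Ideal.Quotient.mk_surjective x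
  exact ⟨algebraMap A C a, T.π.commutes a⟩

lemma mul_eq_zero {x y : C} (hx : T.π x = 0) (hy : T.π y = 0) : x * y = 0 := by
  have := Ideal.mul_mem_mul (show x ∈ RingHom.ker T.π.toRingHom from hx)
    (show y ∈ RingHom.ker T.π.toRingHom from hy)
  rwa [← pow_two, T.sq] at this

lemma π_algebraMap (a : A) : T.π (algebraMap A C a) = Ideal.Quotient.mk I a := T.π.commutes a

/-- The cokernel of `A → C`. -/
def Coker (_ : Thick I C) : Type v := C ⧸ LinearMap.range (Algebra.linearMap A C)

instance : AddCommGroup T.Coker :=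
  inferInstanceAs (AddCommGroup (C ⧸ LinearMap.range (Algebra.linearMap A C)))

instance : Module A T.Coker :=
  inferInstanceAs (Module A (C ⧸ LinearMap.range (Algebra.linearMap A C)))

/-- The projection to the cokernel. -/
def cls : C →ₗ[A] T.Coker := (LinearMap.range (Algebra.linearMap A C)).mkQ

lemma cls_surjective : Function.Surjective T.cls := Submodule.mkQ_surjective _

lemma cls_algebraMap (a : A) : T.cls (algebraMap A C a) = 0 :=
  (Submodule.Quotient.mk_eq_zero _).mpr ⟨a, rfl⟩

lemma cls_eq_zero {c : C} : T.cls c = 0 ↔ ∃ a : A, algebraMap A C a = c :=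
  Submodule.Quotient.mk_eq_zero _

lemma exists_rep (c : C) : ∃ a : A, T.π (c - algebraMap A C a) = 0 ∧
    T.cls (c - algebraMap A C a) = T.cls c := by
  obtain ⟨a, ha⟩ := Ideal.Quotient.mk_surjective (T.π c)
  exact ⟨a, by rw [map_sub, T.π_algebraMap, ha, sub_self],
    by rw [map_sub, T.cls_algebraMap, sub_zero]⟩

lemma isTorsion : Module.IsTorsionBySet A T.Coker I := by
  rintro x ⟨i, hi⟩
  obtain ⟨c, rfl⟩ := T.cls_surjective x
  obtain ⟨a, ha, hmk⟩ := T.exists_rep c
  rw [← hmk]
  show i • T.cls _ = 0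
  rw [← map_smul, Algebra.smul_def, T.mul_eq_zero ?_ ha, map_zero]
  rw [T.π_algebraMap, Ideal.Quotient.eq_zero_iff_mem]
  exact hi

instance : Module (A ⧸ I) T.Coker := T.isTorsion.module

instance : IsScalarTower A (A ⧸ I) T.Coker := Module.IsTorsionBySet.isScalarTower T.isTorsion

/-- The product rule for the projection to the cokernel. -/
lemma cls_mul (c c' : C) : T.cls (c * c') = T.π c • T.cls c' + T.π c' • T.cls c := by
  obtain ⟨a, ha, hmk⟩ := T.exists_rep c
  obtain ⟨a', ha', hmk'⟩ := T.exists_rep c'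
  have e1 : T.π c = Ideal.Quotient.mk I a := by
    rwa [map_sub, T.π_algebraMap, sub_eq_zero] at ha
  have e2 : T.π c' = Ideal.Quotient.mk I a' := by
    rwa [map_sub, T.π_algebraMap, sub_eq_zero] at ha'
  have key : c * c' = algebraMap A C (a * a') + a • (c' - algebraMap A C a') +
      a' • (c - algebraMap A C a) := by
    have h0 := T.mul_eq_zero ha ha'
    simp only [map_mul, Algebra.smul_def]
    linear_combination h0
  rw [key, map_add, map_add, T.cls_algebraMap, zero_add, map_smul, map_smul, hmk, hmk', e1, e2,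
    ← Ideal.Quotient.algebraMap_eq, algebraMap_smul, algebraMap_smul]

lemma cls_one : T.cls 1 = 0 := by
  rw [← map_one (algebraMap A C), T.cls_algebraMap]

section Triv

open TrivSqZeroExt

variable {B : Type u} [CommRing B] [Algebra (A ⧸ I) B] {M : Type w} [AddCommGroup M]
  [Module (A ⧸ I) M] [Module B M] [IsScalarTower (A ⧸ I) B M] [Module Bᵐᵒᵖ M]
  [IsCentralScalar B M]

/-- The ring map into a trivial extension attached to a linear map on the cokernel. -/
def toTriv (h : T.Coker →ₗ[A ⧸ I] M) : C →+* TrivSqZeroExt B M where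
  toFun c := inl (algebraMap (A ⧸ I) B (T.π c)) + inr (h (T.cls c))
  map_one' := by
    rw [T.cls_one, map_zero, inr_zero, add_zero, map_one, map_one, inl_one]
  map_mul' c c' := by
    refine TrivSqZeroExt.ext ?_ ?_
    · simp
    · simp only [T.cls_mul, map_add, map_smul, snd_add, snd_inl, snd_inr, zero_add, snd_mul,
        fst_add, fst_inl, fst_inr, add_zero, op_smul_eq_smul, algebraMap_smul]
  map_zero' := by simp
  map_add' c c' := by
    refine TrivSqZeroExt.ext ?_ ?_ <;> simp

@[simp]
lemma fst_toTriv (h : T.Coker →ₗ[A ⧸ I] M) (c : C) :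
    fst (T.toTriv (B := B) h c) = algebraMap (A ⧸ I) B (T.π c) := by
  simp [toTriv]

@[simp]
lemma snd_toTriv (h : T.Coker →ₗ[A ⧸ I] M) (c : C) :
    snd (T.toTriv (B := B) h c) = h (T.cls c) := by
  simp [toTriv]

lemma toTriv_algebraMap (h : T.Coker →ₗ[A ⧸ I] M) (a : A) :
    T.toTriv (B := B) h (algebraMap A C a) =
      inl (algebraMap (A ⧸ I) B (Ideal.Quotient.mk I a)) := by
  refine TrivSqZeroExt.ext ?_ ?_
  · rw [fst_toTriv, T.π_algebraMap, fst_inl]
  · rw [snd_toTriv, T.cls_algebraMap, map_zero, snd_inl]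

/-- Every compatible ring map into a trivial extension comes from a linear map. -/
lemma exists_linear (ψ : C →+* TrivSqZeroExt B M)
    (hfst : ∀ c, fst (ψ c) = algebraMap (A ⧸ I) B (T.π c))
    (halg : ∀ a, snd (ψ (algebraMap A C a)) = 0) :
    ∃ h : T.Coker →ₗ[A ⧸ I] M, T.toTriv h = ψ := by
  have hwd : ∀ c c', T.cls c = T.cls c' → snd (ψ c) = snd (ψ c') := by
    intro c c' h
    rw [← sub_eq_zero, ← map_sub, T.cls_eq_zero] at h
    obtain ⟨a, ha⟩ := h
    rw [← sub_eq_zero, ← snd_sub, ← map_sub, ← ha, halg]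
  choose r hr using T.cls_surjective
  refine ⟨{ toFun := fun x => snd (ψ (r x)), map_add' := fun x y => ?_, map_smul' := fun s x => ?_ },
    RingHom.ext fun c => TrivSqZeroExt.ext (by rw [fst_toTriv, hfst])
      (by rw [snd_toTriv]; exact hwd _ _ (hr _))⟩
  · rw [← snd_add, ← map_add]
    exact hwd _ _ (by rw [hr, map_add, hr, hr])
  · obtain ⟨a, rfl⟩ := Ideal.Quotient.mk_surjective s
    rw [RingHom.id_apply, hwd (r (Ideal.Quotient.mk I a • x)) (algebraMap A C a * r x) (by
      rw [hr, ← Algebra.smul_def, map_smul, hr, ← Ideal.Quotient.algebraMap_eq, algebraMap_smul])]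
    rw [map_mul, snd_mul, halg, hfst, T.π_algebraMap, smul_zero, add_zero, algebraMap_smul]

end Triv

/-- If `A → C` is injective with projective cokernel then `π` lifts to a retraction. -/
theorem exists_retraction (hinj : Function.Injective (algebraMap A C))
    [hP : Module.Projective (A ⧸ I) T.Coker] :
    ∃ φ : C →ₐ[A] A, ∀ c, Ideal.Quotient.mk I (φ c) = T.π c := by
  let K : Submodule A C := LinearMap.ker T.π.toLinearMap
  have hK : Module.IsTorsionBySet A K I := by
    rintro ⟨x, hx⟩ ⟨i, hi⟩
    refine Subtype.ext ?_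
    show i • x = 0
    rw [Algebra.smul_def]
    exact T.mul_eq_zero (by rw [T.π_algebraMap, Ideal.Quotient.eq_zero_iff_mem]; exact hi) hx
  let := hK.module
  have : IsScalarTower A (A ⧸ I) K := Module.IsTorsionBySet.isScalarTower hK
  let q : K →ₗ[A ⧸ I] T.Coker :=
    { toFun := fun x => T.cls x.1
      map_add' := fun x y => map_add _ _ _
      map_smul' := fun s x => by
        obtain ⟨a, rfl⟩ := Ideal.Quotient.mk_surjective s
        rw [RingHom.id_apply, ← Ideal.Quotient.algebraMap_eq, algebraMap_smul, algebraMap_smul]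
        exact map_smul _ _ _ }
  have hq : Function.Surjective q := fun x => by
    obtain ⟨c, rfl⟩ := T.cls_surjective x
    obtain ⟨a, ha, hmk⟩ := T.exists_rep c
    exact ⟨⟨_, ha⟩, hmk⟩
  obtain ⟨σ, hσ⟩ := Module.projective_lifting_property q LinearMap.id hq
  let σ' : C →ₗ[A] C := K.subtype ∘ₗ (σ.restrictScalars A) ∘ₗ T.cls
  have hσ1 : ∀ c, T.cls (σ' c) = T.cls c := fun c => DFunLike.congr_fun hσ (T.cls c)
  have hσ2 : ∀ c, T.π (σ' c) = 0 := fun c => (σ (T.cls c)).2
  have hmem : ∀ c, ∃ a : A, algebraMap A C a = c - σ' c := fun c =>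
    T.cls_eq_zero.mp (by rw [map_sub, hσ1, sub_self])
  choose ret hret using hmem
  have hone : σ' 1 = 0 := by
    show ((σ (T.cls 1)) : C) = 0
    rw [T.cls_one, map_zero]
    rfl
  have hσalg : ∀ a, σ' (algebraMap A C a) = 0 := fun a => by
    rw [Algebra.algebraMap_eq_smul_one, map_smul, hone, smul_zero]
  have hmul : ∀ c c', σ' (c * c') = c * σ' c' + c' * σ' c := by
    intro c c'
    obtain ⟨a, ha, -⟩ := T.exists_rep c
    obtain ⟨a', ha', -⟩ := T.exists_rep c'
    have e1 : T.π c = Ideal.Quotient.mk I a := by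
      rwa [map_sub, T.π_algebraMap, sub_eq_zero] at ha
    have e2 : T.π c' = Ideal.Quotient.mk I a' := by
      rwa [map_sub, T.π_algebraMap, sub_eq_zero] at ha'
    have f1 : c * σ' c' = algebraMap A C a * σ' c' := by
      rw [← sub_eq_zero, ← sub_mul]
      exact T.mul_eq_zero ha (hσ2 _)
    have f2 : c' * σ' c = algebraMap A C a' * σ' c := by
      rw [← sub_eq_zero, ← sub_mul]
      exact T.mul_eq_zero ha' (hσ2 _)
    rw [f1, f2, ← Algebra.smul_def, ← Algebra.smul_def]
    show ((σ (T.cls (c * c'))) : C) = _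
    rw [T.cls_mul, map_add, map_smul, map_smul, e1, e2, ← Ideal.Quotient.algebraMap_eq,
      algebraMap_smul, algebraMap_smul]
    rfl
  refine ⟨{ toFun := ret, map_one' := hinj ?_, map_mul' := fun c c' => hinj ?_,
            map_zero' := hinj ?_, map_add' := fun c c' => hinj ?_,
            commutes' := fun a => hinj ?_ }, fun c => ?_⟩
  · rw [hret, hone, sub_zero, map_one]
  · rw [map_mul, hret, hret, hret, hmul]
    linear_combination -(T.mul_eq_zero (hσ2 c) (hσ2 c'))
  · rw [hret, map_zero, map_zero, sub_zero]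
  · rw [map_add, hret, hret, hret, map_add]
    abel
  · show algebraMap A C (ret (algebraMap A C a)) = algebraMap A C (algebraMap A A a)
    rw [hret, hσalg, sub_zero, Algebra.algebraMap_self, RingHom.id_apply]
  · show Ideal.Quotient.mk I (ret c) = T.π c
    rw [← T.π_algebraMap, hret, map_sub, hσ2, sub_zero]

end Thick

end Groth.FlatmorThree
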