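import Groth.Agent.FlatmorThree.FormalLift
import Groth.Agent.FlatmorThree.SqZeroRetraction
import Groth.Agent.FlatMor2.AffineThickening
import Mathlib.AlgebraicGeometry.Morphisms.Immersion
import Mathlib.RingTheory.LocalProperties.FinitePresentation
import Mathlib.RingTheory.LocalProperties.Projective
import Mathlib.RingTheory.Flat.Localization
import Mathlib.AlgebraicGeometry.Morphisms.Smooth
import Mathlib.RingTheory.Spectrum.Prime.FreeLocus

/-!
# Lifting against affine first order thickenings from formally smooth charts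

For `f : X ⟶ Y`, `a : Spec (A ⧸ I) ⟶ X` and `b : Spec A ⟶ Y`, the square zero neighbourhood of the
section of `X ×_Y Spec A` over `Spec (A ⧸ I)` is `Spec C` for a thickening `C` of `A ⧸ I`, and lifts
correspond to retractions `C → A`.
-/

universe u
open CategoryTheory AlgebraicGeometry Limits TopologicalSpace

namespace Groth.FlatmorThree.SmoothLift

noncomputable section

/-- `Spec.map` of an unbundled ring map. -/
abbrev sp {R S : Type u} [CommRing R] [CommRing S] (φ : R →+* S) :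
    Spec (CommRingCat.of S) ⟶ Spec (CommRingCat.of R) :=
  Spec.map (CommRingCat.ofHom φ)

lemma sp_comp {R S T : Type u} [CommRing R] [CommRing S] [CommRing T] (φ : R →+* S)
    (ψ : S →+* T) : sp (ψ.comp φ) = sp ψ ≫ sp φ := by
  rw [sp, CommRingCat.ofHom_comp, Spec.map_comp]

lemma sp_injective {R S : Type u} [CommRing R] [CommRing S] {φ ψ : R →+* S}
    (h : sp φ = sp ψ) : φ = ψ :=
  congrArg CommRingCat.Hom.hom (Spec.map_injective h)

lemma exists_sp {R S : Type u} [CommRing R] [CommRing S]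
    (g : Spec (CommRingCat.of S) ⟶ Spec (CommRingCat.of R)) : ∃ φ : R →+* S, sp φ = g :=
  ⟨(Spec.preimage g).hom, by rw [sp, CommRingCat.ofHom_hom, Spec.map_preimage]⟩

/-- A ring surjection with square zero kernel gives a first order thickening. -/
lemma isFirstOrder_sp {D D₀ : Type u} [CommRing D] [CommRing D₀] (p : D →+* D₀)
    (hp : Function.Surjective p) (hsq : RingHom.ker p ^ 2 = ⊥) :
    IsClosedImmersion (sp p) ∧ Function.Surjective (sp p).base ∧ (sp p).ker * (sp p).ker = ⊥ := by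
  let e := RingHom.quotientKerEquivOfSurjective hp
  have hpe : p = e.toRingHom.comp (Ideal.Quotient.mk (RingHom.ker p)) :=
    RingHom.ext fun x => (RingHom.quotientKerEquivOfSurjective_apply_mk hp x).symm
  have : IsIso (sp e.toRingHom) := by
    refine ⟨sp e.symm.toRingHom, ?_, ?_⟩
    · rw [← sp_comp, show e.toRingHom.comp e.symm.toRingHom = RingHom.id _ from
        RingHom.ext fun x => e.apply_symm_apply x]
      exact Spec.map_id _
    · rw [← sp_comp, show e.symm.toRingHom.comp e.toRingHom = RingHom.id _ from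
        RingHom.ext fun x => e.symm_apply_apply x]
      exact Spec.map_id _
  obtain ⟨⟨h1, h2⟩, h3⟩ := FormalLift.isFirstOrderThickening_specMap_mk _ hsq
  have h4 : sp p = sp e.toRingHom ≫ sp (Ideal.Quotient.mk (RingHom.ker p)) := by
    rw [← sp_comp, ← hpe]
  refine ⟨?_, ?_, ?_⟩
  · rw [h4]
    have := h1
    infer_instance
  · rw [h4]
    intro x
    obtain ⟨y, hy⟩ := (sp (Ideal.Quotient.mk (RingHom.ker p))).surjective x
    obtain ⟨z, rfl⟩ := (sp e.toRingHom).surjective y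
    exact ⟨z, by rw [Scheme.Hom.comp_apply]; exact hy⟩
  · rw [h4, Scheme.Hom.ker_comp_of_isIso]
    exact h3

lemma range_subset {D D₀ : Type u} [CommRing D] [CommRing D₀] (p : D →+* D₀)
    (hp : Function.Surjective p) (hsq : RingHom.ker p ^ 2 = ⊥) {X : Scheme.{u}}
    (q : Spec (CommRingCat.of D) ⟶ X) {U : Set X}
    (h : Set.range (sp p ≫ q).base ⊆ U) : Set.range q.base ⊆ U := by
  rintro _ ⟨x, rfl⟩
  obtain ⟨y, rfl⟩ := (isFirstOrder_sp p hp hsq).2.1 x
  exact h ⟨y, Scheme.Hom.comp_apply _ _ _⟩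

variable {X Y : Scheme.{u}}

/-- Lifting against a square zero surjection of rings inside a formally smooth chart. -/
lemma exists_lift_chart (f : X ⟶ Y) {U : X.Opens} {V : Y.Opens} (hU : IsAffineOpen U)
    (hV : IsAffineOpen V) (e : U ≤ f ⁻¹ᵁ V) (hφ : (f.appLE V U e).hom.FormallySmooth)
    {D D₀ : Type u} [CommRing D] [CommRing D₀] (p : D →+* D₀) (hp : Function.Surjective p)
    (hsq : RingHom.ker p ^ 2 = ⊥) (a' : Spec (CommRingCat.of D₀) ⟶ X)
    (b' : Spec (CommRingCat.of D) ⟶ Y) (ha : Set.range a'.base ⊆ U)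
    (w : sp p ≫ b' = a' ≫ f) :
    ∃ l : Spec (CommRingCat.of D) ⟶ X, sp p ≫ l = a' ∧ l ≫ f = b' := by
  have hb : Set.range b'.base ⊆ V := range_subset p hp hsq b' (by
    rw [w]
    rintro _ ⟨x, rfl⟩
    rw [Scheme.Hom.comp_apply]
    exact e (ha ⟨x, rfl⟩))
  obtain ⟨bR, hbR⟩ := exists_sp (R := Γ(Y, V))
    (IsOpenImmersion.lift hV.fromSpec b' (by rwa [hV.range_fromSpec]))
  obtain ⟨aS, haS⟩ := exists_sp (R := Γ(X, U))
    (IsOpenImmersion.lift hU.fromSpec a' (by rwa [hU.range_fromSpec]))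
  have hb' : sp bR ≫ hV.fromSpec = b' := by rw [hbR, IsOpenImmersion.lift_fac]
  have ha' : sp aS ≫ hU.fromSpec = a' := by rw [haS, IsOpenImmersion.lift_fac]
  have hUV : sp (f.appLE V U e).hom ≫ hV.fromSpec = hU.fromSpec ≫ f := by
    rw [sp, CommRingCat.ofHom_hom]
    exact hV.SpecMap_appLE_fromSpec f hU e
  obtain ⟨h, h1, h2⟩ := FormalLift.exists_lift_ring (f.appLE V U e).hom hφ p hp hsq bR aS (by
    refine sp_injective ?_
    rw [← cancel_mono hV.fromSpec, sp_comp, sp_comp, Category.assoc, hb', Category.assoc, hUV,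
      ← Category.assoc, ha', w])
  refine ⟨sp h ≫ hU.fromSpec, ?_, ?_⟩
  · rw [← Category.assoc, ← sp_comp, h1, ha']
  · rw [Category.assoc, ← hUV, ← Category.assoc, ← sp_comp, h2, hb']

/-- A morphism whose restriction to a first order thickening factors through a closed subscheme
factors through its square zero neighbourhood. -/
lemma sq_ker_le {W W₀ Z U : Scheme.{u}} (i : W₀ ⟶ W) [QuasiCompact i] (hi : i.ker * i.ker = ⊥)
    (j : Z ⟶ U) [QuasiCompact j] (q : W ⟶ U) (r : W₀ ⟶ Z) (h : i ≫ q = r ≫ j) :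
    j.ker * j.ker ≤ q.ker := by
  refine Scheme.IdealSheafData.le_ofIdeals_iff.mpr fun V => ?_
  rw [Scheme.IdealSheafData.ideal_mul, Pi.mul_apply, Ideal.mul_le]
  intro x hx y hy
  rw [RingHom.mem_ker]
  apply W.IsSheaf.section_ext
  intro p hp
  obtain ⟨W', hW', hpW', hle⟩ := TopologicalSpace.Opens.isBasis_iff_nbhd.mp W.isBasis_affineOpens hp
  refine ⟨W', hle, hpW', ?_⟩
  have hmem : ∀ z ∈ j.ker.ideal V, (q.appLE V W' hle).hom z ∈ i.ker.ideal ⟨W', hW'⟩ := by
    intro z hz
    rw [Scheme.Hom.ker_apply, RingHom.mem_ker] at hz ⊢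
    have h1 : (q.appLE V W' hle ≫ i.app W') = j.app V ≫ r.appLE (j ⁻¹ᵁ V) (i ⁻¹ᵁ W') (by
        intro x hx
        show j (r x) ∈ V.1
        rw [← Scheme.Hom.comp_apply, ← h, Scheme.Hom.comp_apply]
        exact hle hx) := by
      rw [Scheme.Hom.app_eq_appLE, Scheme.Hom.appLE_comp_appLE, Scheme.Hom.app_eq_appLE,
        Scheme.Hom.appLE_comp_appLE]
      congr 1
    have := congr(($h1).hom z)
    simp only [CommRingCat.hom_comp, RingHom.comp_apply] at this
    rw [this, hz, map_zero]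
  have h2 := congr(($hi).ideal ⟨W', hW'⟩)
  rw [Scheme.IdealSheafData.ideal_mul, Pi.mul_apply] at h2
  have h3 := Ideal.mul_mem_mul (hmem x hx) (hmem y hy)
  rw [h2] at h3
  rw [← map_mul] at h3
  simp only [map_zero]
  exact h3

variable (f : X ⟶ Y) {A : Type u} [CommRing A] {I : Ideal A}
  (a : Spec (CommRingCat.of (A ⧸ I)) ⟶ X) (b : Spec (CommRingCat.of A) ⟶ Y)
  (w : sp (Ideal.Quotient.mk I) ≫ b = a ≫ f)

/-- The square zero neighbourhood of the section given by `a`. -/
structure Data where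
  C : Type u
  [commRing : CommRing C]
  [algebra : Algebra A C]
  T : Thick I C
  z : Spec (CommRingCat.of C) ⟶ pullback f b
  [mono : Mono z]
  z_snd : z ≫ pullback.snd f b = sp (algebraMap A C)
  π_z : sp T.π.toRingHom ≫ z = pullback.lift a (sp (Ideal.Quotient.mk I)) w.symm
  factor : ∀ (D D₀ : Type u) [CommRing D] [CommRing D₀] (p : D →+* D₀),
    Function.Surjective p → RingHom.ker p ^ 2 = ⊥ → ∀ (ρ : A ⧸ I →+* D₀)
      (q : Spec (CommRingCat.of D) ⟶ pullback f b),
      sp p ≫ q = sp ρ ≫ pullback.lift a (sp (Ideal.Quotient.mk I)) w.symm →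
      ∃ χ : C →+* D, sp χ ≫ z = q

attribute [instance] Data.commRing Data.algebra Data.mono

include w in
theorem nonempty_data : Nonempty (Data f a b w) := by
  let s₀ := pullback.lift a (sp (Ideal.Quotient.mk I)) w.symm
  have hct : IsClosedImmersion (sp (Ideal.Quotient.mk I)) :=
    IsClosedImmersion.spec_of_surjective _ Ideal.Quotient.mk_surjective
  have : IsImmersion (s₀ ≫ pullback.snd f b) := by
    rw [pullback.lift_snd]
    infer_instance
  have : IsImmersion s₀ := IsImmersion.of_comp s₀ (pullback.snd f b)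
  let j := s₀.liftCoborder
  let K := j.ker
  have hKle : K * K ≤ K := fun V => by
    rw [Scheme.IdealSheafData.ideal_mul, Pi.mul_apply]
    exact Ideal.mul_le_left
  let Z := (K * K).subscheme
  let ι : Z ⟶ (s₀.coborderRange : Scheme.{u}) := (K * K).subschemeι
  let e : Spec (CommRingCat.of (A ⧸ I)) ⟶ Z := j.toImage ≫ Scheme.IdealSheafData.inclusion hKle
  have he : e ≫ ι = j := by
    rw [Category.assoc, Scheme.IdealSheafData.inclusion_subschemeι]
    exact j.toImage_imageι
  have : IsClosedImmersion (e ≫ ι) := by rw [he]; infer_instance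
  have : IsClosedImmersion e := IsClosedImmersion.of_comp e ι
  have : Surjective e := by
    refine ⟨fun x => ?_⟩
    have h1 : ι x ∈ ((K * K).support : Set (s₀.coborderRange : Scheme.{u})) := by
      rw [← (K * K).range_subschemeι]
      exact ⟨x, rfl⟩
    have h2 : (K * K).support = K.support := by
      rw [← pow_two]
      exact K.support_pow 2 two_ne_zero
    rw [h2, Scheme.Hom.support_ker, j.isClosedEmbedding.isClosed_range.closure_eq] at h1
    obtain ⟨y, hy⟩ := h1
    exact ⟨y, ι.isClosedEmbedding.injective (by rw [← Scheme.Hom.comp_apply, he]; exact hy)⟩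
  have : IsAffine Z := Groth.FlatMor2.isAffine_of_surjective_closedImmersion e
  obtain ⟨R, _, ⟨iso⟩⟩ : ∃ (R : Type u) (_ : CommRing R),
      Nonempty (Z ≅ Spec (CommRingCat.of R)) := ⟨Γ(Z, ⊤), inferInstance, ⟨Z.isoSpec⟩⟩
  let z₀ : Spec (CommRingCat.of R) ⟶ pullback f b := iso.inv ≫ ι ≫ s₀.coborderRange.ι
  have : Mono z₀ := by
    simp only [z₀, ι]
    infer_instance
  obtain ⟨σ, hσ⟩ := exists_sp (R := A) (S := R) (z₀ ≫ pullback.snd f b)
  obtain ⟨π₀, hπ₀⟩ := exists_sp (R := R) (S := A ⧸ I) (e ≫ iso.hom)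
  have hπz : sp π₀ ≫ z₀ = s₀ := by
    rw [hπ₀]
    simp only [z₀, Category.assoc, Iso.hom_inv_id_assoc]
    rw [← Category.assoc, he]
    exact s₀.liftCoborder_ι
  let J : Ideal R := RingHom.ker π₀ ^ 2
  let π₁ : R ⧸ J →+* A ⧸ I := Ideal.Quotient.lift J π₀ fun x hx =>
    Ideal.pow_le_self two_ne_zero hx
  let alg : Algebra A (R ⧸ J) := ((Ideal.Quotient.mk J).comp σ).toAlgebra
  have hπσ : π₀.comp σ = Ideal.Quotient.mk I := sp_injective (by
    rw [sp_comp, hσ, ← Category.assoc, hπz]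
    exact pullback.lift_snd _ _ _)
  let π : (R ⧸ J) →ₐ[A] A ⧸ I :=
    { π₁ with commutes' := fun x => DFunLike.congr_fun hπσ x }
  have hsq : RingHom.ker π.toRingHom ^ 2 = ⊥ := by
    have h1 : RingHom.ker π.toRingHom = (RingHom.ker π₀).map (Ideal.Quotient.mk J) := by
      apply le_antisymm
      · intro x hx
        obtain ⟨x, rfl⟩ := Ideal.Quotient.mk_surjective x
        exact Ideal.mem_map_of_mem _ hx
      · exact Ideal.map_le_iff_le_comap.mpr fun x hx => hx
    rw [h1, ← Ideal.map_pow]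
    exact Ideal.map_quotient_self J
  have : IsClosedImmersion (sp (Ideal.Quotient.mk J)) :=
    IsClosedImmersion.spec_of_surjective _ Ideal.Quotient.mk_surjective
  refine ⟨{ C := R ⧸ J, T := ⟨π, hsq⟩, z := sp (Ideal.Quotient.mk J) ≫ z₀,
            z_snd := ?_, π_z := ?_, factor := ?_ }⟩
  · rw [Category.assoc, ← hσ, ← sp_comp]
  · rw [← Category.assoc, ← sp_comp]
    exact hπz
  intro D D₀ _ _ p hp hps ρ q hq
  obtain ⟨h1, h2, h3⟩ := isFirstOrder_sp p hp hps
  have hr : Set.range q.base ⊆ (s₀.coborderRange : Set (pullback f b : Scheme.{u})) := by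
    refine range_subset p hp hps q ?_
    rw [hq]
    rintro _ ⟨x, rfl⟩
    rw [Scheme.Hom.comp_apply]
    have hy := congr($(s₀.liftCoborder_ι) ((sp ρ).base x))
    rw [Scheme.Hom.comp_apply] at hy
    exact hy ▸ (s₀.liftCoborder ((sp ρ).base x)).2
  let q₁ : Spec (CommRingCat.of D) ⟶ s₀.coborderRange :=
    IsOpenImmersion.lift s₀.coborderRange.ι q (by rwa [Scheme.Opens.range_ι])
  have hq₁ : q₁ ≫ s₀.coborderRange.ι = q := IsOpenImmersion.lift_fac _ _ _
  have hle : K * K ≤ q₁.ker := sq_ker_le (sp p) h3 j q₁ (sp ρ) (by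
    rw [← cancel_mono s₀.coborderRange.ι, Category.assoc, hq₁, Category.assoc, hq]
    rw [s₀.liftCoborder_ι])
  obtain ⟨χ₀, hχ₀⟩ := exists_sp (R := R) (S := D)
    (q₁.toImage ≫ Scheme.IdealSheafData.inclusion hle ≫ iso.hom)
  have hχz : sp χ₀ ≫ z₀ = q := by
    rw [hχ₀]
    simp only [z₀, ι, Category.assoc, Iso.hom_inv_id_assoc]
    rw [Scheme.IdealSheafData.inclusion_subschemeι_assoc, ← Category.assoc,
      show q₁.toImage ≫ q₁.ker.subschemeι = q₁ from q₁.toImage_imageι, hq₁]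
  have hpχ : p.comp χ₀ = ρ.comp π₀ := sp_injective (by
    rw [← cancel_mono z₀, sp_comp, sp_comp, Category.assoc, hχz, hq, Category.assoc, hπz])
  have hJ : ∀ x ∈ J, χ₀ x = 0 := by
    intro x hx
    have h4 : (RingHom.ker π₀).map χ₀ ≤ RingHom.ker p := Ideal.map_le_iff_le_comap.mpr fun y hy => by
      show p (χ₀ y) = 0
      rw [← RingHom.comp_apply, hpχ, RingHom.comp_apply, (hy : π₀ y = 0), map_zero]
    have h5 := (Ideal.pow_right_mono h4 2) (Ideal.map_pow χ₀ (RingHom.ker π₀) 2 ▸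
      Ideal.mem_map_of_mem χ₀ hx)
    rwa [hps] at h5
  refine ⟨Ideal.Quotient.lift J χ₀ hJ, ?_⟩
  rw [← Category.assoc, ← sp_comp, Ideal.Quotient.lift_comp_mk]
  exact hχz

namespace Data

variable {f a b w} (d : Data f a b w)

/-- The morphism to `X` attached to a ring map out of `C`. -/
abbrev toX {D : Type u} [CommRing D] (ψ : d.C →+* D) : Spec (CommRingCat.of D) ⟶ X :=
  sp ψ ≫ d.z ≫ pullback.fst f b

lemma toX_comp_f {D : Type u} [CommRing D] (ψ : d.C →+* D) :
    d.toX ψ ≫ f = sp (ψ.comp (algebraMap A d.C)) ≫ b := by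
  rw [sp_comp, Category.assoc, Category.assoc, Category.assoc, pullback.condition,
    ← Category.assoc d.z, d.z_snd]

lemma ext_toX {D : Type u} [CommRing D] {ψ ψ' : d.C →+* D}
    (h : ψ.comp (algebraMap A d.C) = ψ'.comp (algebraMap A d.C)) (h' : d.toX ψ = d.toX ψ') :
    ψ = ψ' := by
  refine sp_injective ?_
  rw [← cancel_mono d.z]
  refine pullback.hom_ext ?_ ?_
  · rw [Category.assoc, Category.assoc]
    exact h'
  · rw [Category.assoc, Category.assoc, d.z_snd, ← sp_comp, ← sp_comp, h]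

lemma sp_comp_toX {D B : Type u} [CommRing D] [CommRing B] {p : D →+* B} {ψ : d.C →+* D}
    {ρ : A ⧸ I →+* B} (h : p.comp ψ = ρ.comp d.T.π.toRingHom) :
    sp p ≫ d.toX ψ = sp ρ ≫ a := by
  have e : sp p ≫ sp ψ = sp ρ ≫ sp d.T.π.toRingHom := by rw [← sp_comp, h, sp_comp]
  rw [reassoc_of% e, reassoc_of% d.π_z, pullback.lift_fst]

/-- The element `g` is adapted to a chart. -/
def Adapted (_ : Data f a b w) (g : A) (U : X.Opens) : Prop :=
  ∀ x : Spec (CommRingCat.of (A ⧸ I)), Ideal.Quotient.mk I g ∉ x.asIdeal → a.base x ∈ U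

variable {U : X.Opens} {V : Y.Opens} (hU : IsAffineOpen U) (hV : IsAffineOpen V)
  (e : U ≤ f ⁻¹ᵁ V)

lemma Adapted.range {d : Data f a b w} {g : A} (hg : d.Adapted g U) {B : Type u} [CommRing B] (ρ : A ⧸ I →+* B)
    (hu : IsUnit (ρ (Ideal.Quotient.mk I g))) :
    Set.range (sp ρ ≫ a).base ⊆ (U : Set X) := by
  rintro _ ⟨x, rfl⟩
  rw [Scheme.Hom.comp_apply]
  refine hg _ fun hmem => x.isPrime.ne_top ?_
  exact Ideal.eq_top_of_isUnit_mem _ hmem hu

include hU hV in
/-- Lifting of ring maps out of `C` against square zero surjections. -/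
lemma exists_hom_lift (hφ : (f.appLE V U e).hom.FormallySmooth) {g : A} (hg : d.Adapted g U)
    {D D₀ B : Type u} [CommRing D] [CommRing D₀] [CommRing B] (p : D →+* D₀)
    (hp : Function.Surjective p) (p₀ : D₀ →+* B) (hp₀ : Function.Surjective p₀)
    (hsq : RingHom.ker (p₀.comp p) ^ 2 = ⊥) (hsq₀ : RingHom.ker p₀ ^ 2 = ⊥)
    (ρ : A ⧸ I →+* B) (hu : IsUnit (ρ (Ideal.Quotient.mk I g))) (σ : A →+* D)
    (ψ₀ : d.C →+* D₀) (hψ₀ : ψ₀.comp (algebraMap A d.C) = p.comp σ)
    (hρ : p₀.comp ψ₀ = ρ.comp d.T.π.toRingHom) :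
    ∃ ψ : d.C →+* D, p.comp ψ = ψ₀ ∧ ψ.comp (algebraMap A d.C) = σ := by
  have hker : RingHom.ker p ^ 2 = ⊥ := by
    rw [eq_bot_iff, ← hsq]
    refine Ideal.pow_right_mono (fun x hx => ?_) 2
    show p₀ (p x) = 0
    rw [(hx : p x = 0), map_zero]
  have hr : Set.range (d.toX ψ₀).base ⊆ (U : Set X) := by
    refine range_subset p₀ hp₀ hsq₀ _ ?_
    rw [d.sp_comp_toX hρ]
    exact hg.range ρ hu
  obtain ⟨l, hl1, hl2⟩ := exists_lift_chart f hU hV e hφ p hp hker (d.toX ψ₀) (sp σ ≫ b) hr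
    (by rw [d.toX_comp_f, hψ₀, sp_comp, Category.assoc])
  let q : Spec (CommRingCat.of D) ⟶ pullback f b := pullback.lift l (sp σ) hl2
  have hq0 : sp p ≫ q = sp ψ₀ ≫ d.z := by
    refine pullback.hom_ext ?_ ?_
    · rw [Category.assoc, pullback.lift_fst, hl1, Category.assoc]
    · rw [Category.assoc, pullback.lift_snd, Category.assoc, d.z_snd, ← sp_comp, ← sp_comp, hψ₀]
  have e₀ : sp p₀ ≫ sp ψ₀ = sp ρ ≫ sp d.T.π.toRingHom := by rw [← sp_comp, hρ, sp_comp]
  obtain ⟨ψ, hψ⟩ := d.factor D B (p₀.comp p) (hp₀.comp hp) hsq ρ q (by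
    rw [sp_comp, Category.assoc, hq0, reassoc_of% e₀, d.π_z])
  refine ⟨ψ, sp_injective ?_, sp_injective ?_⟩
  · rw [← cancel_mono d.z, sp_comp, Category.assoc, hψ, hq0]
  · rw [sp_comp, ← d.z_snd, ← Category.assoc, hψ, pullback.lift_snd]

include hU hV in
/-- Locally on `A`, the structure map of `C` is injective. -/
lemma algebraMap_away_eq_zero (hI : I ^ 2 = ⊥) (hφ : (f.appLE V U e).hom.FormallySmooth) {g : A}
    (hg : d.Adapted g U) {x : A} (hx : algebraMap A d.C x = 0) :
    algebraMap A (Localization.Away g) x = 0 := by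
  let D := Localization.Away g
  let ID : Ideal D := I.map (algebraMap A D)
  have hID : ID ^ 2 = ⊥ := by rw [← Ideal.map_pow, hI, Ideal.map_bot]
  let p := Ideal.Quotient.mk ID
  let ρ : A ⧸ I →+* D ⧸ ID := Ideal.Quotient.lift I (p.comp (algebraMap A D)) fun y hy =>
    Ideal.Quotient.eq_zero_iff_mem.mpr (Ideal.mem_map_of_mem _ hy)
  have hu : IsUnit (ρ (Ideal.Quotient.mk I g)) :=
    (IsLocalization.Away.algebraMap_isUnit (S := D) g).map p
  have hker : RingHom.ker ((RingHom.id (D ⧸ ID)).comp p) ^ 2 = ⊥ := by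
    rw [RingHom.id_comp, Ideal.mk_ker, hID]
  have hker₀ : RingHom.ker (RingHom.id (D ⧸ ID)) ^ 2 = ⊥ := by
    rw [(RingHom.injective_iff_ker_eq_bot _).mp Function.injective_id, pow_two, Ideal.bot_mul]
  obtain ⟨ψ, -, hψ⟩ := d.exists_hom_lift hU hV e hφ hg p Ideal.Quotient.mk_surjective
    (RingHom.id _) Function.surjective_id hker hker₀ ρ hu (algebraMap A D)
    (ρ.comp d.T.π.toRingHom)
    (RingHom.ext fun y => by
      show ρ (d.T.π (algebraMap A d.C y)) = p (algebraMap A D y)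
      rw [d.T.π_algebraMap]
      rfl)
    rfl
  rw [← hψ, RingHom.comp_apply, hx, map_zero]

include hU hV in
/-- Locally on `A`, the cokernel of `A → C` is projective. -/
lemma projective_localizedModule (hφ : (f.appLE V U e).hom.FormallySmooth) {g : A}
    (hg : d.Adapted g U) :
    Module.Projective (Localization (Submonoid.powers (Ideal.Quotient.mk I g)))
      (LocalizedModule (Submonoid.powers (Ideal.Quotient.mk I g)) d.T.Coker) := by
  let A₀ := A ⧸ I
  let S₀ : Submonoid A₀ := Submonoid.powers (Ideal.Quotient.mk I g)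
  let B := Localization S₀
  let mkP := LocalizedModule.mkLinearMap S₀ d.T.Coker
  refine Module.Projective.of_lifting_property fun {M N} _ _ _ _ k u hk => ?_
  let : Module A₀ M := Module.compHom M (algebraMap A₀ B)
  let : Module A₀ N := Module.compHom N (algebraMap A₀ B)
  have : IsScalarTower A₀ B M := .of_algebraMap_smul fun _ _ => rfl
  have : IsScalarTower A₀ B N := .of_algebraMap_smul fun _ _ => rfl
  let : Module Bᵐᵒᵖ M := Module.compHom M ((RingHom.id B).fromOpposite mul_comm)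
  let : Module Bᵐᵒᵖ N := Module.compHom N ((RingHom.id B).fromOpposite mul_comm)
  have : IsCentralScalar B M := ⟨fun _ _ => rfl⟩
  have : IsCentralScalar B N := ⟨fun _ _ => rfl⟩
  let h₀ : d.T.Coker →ₗ[A₀] N := (u.restrictScalars A₀).comp mkP
  let p : TrivSqZeroExt B M →+* TrivSqZeroExt B N := (TrivSqZeroExt.map k).toRingHom
  have hp : Function.Surjective p := fun y => by
    obtain ⟨m, hm⟩ := hk y.snd
    exact ⟨TrivSqZeroExt.inl y.fst + TrivSqZeroExt.inr m, TrivSqZeroExt.ext (by simp [p])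
      (by simp [p, hm])⟩
  let p₀ : TrivSqZeroExt B N →+* B := (TrivSqZeroExt.fstHom B B N).toRingHom
  have hp₀ : Function.Surjective p₀ := fun y => ⟨TrivSqZeroExt.inl y, by simp [p₀]⟩
  have hcomp : p₀.comp p = (TrivSqZeroExt.fstHom B B M).toRingHom :=
    RingHom.ext fun y => by simp [p, p₀]
  let σ : A →+* TrivSqZeroExt B M :=
    (TrivSqZeroExt.inlHom B M).comp ((algebraMap A₀ B).comp (Ideal.Quotient.mk I))
  obtain ⟨ψ, hψ1, hψ2⟩ := d.exists_hom_lift hU hV e hφ hg p hp p₀ hp₀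
    (by rw [hcomp]; exact TrivSqZeroExt.kerIdeal_sq B M)
    (TrivSqZeroExt.kerIdeal_sq B N) (algebraMap A₀ B)
    (IsLocalization.map_units B ⟨_, Submonoid.mem_powers _⟩) σ (d.T.toTriv h₀)
    (RingHom.ext fun x => by
      rw [RingHom.comp_apply, d.T.toTriv_algebraMap]
      exact (TrivSqZeroExt.map_inl k _).symm)
    (RingHom.ext fun c => d.T.fst_toTriv h₀ c)
  obtain ⟨h, hh⟩ := d.T.exists_linear ψ (fun c => by
      have h2 := congrArg TrivSqZeroExt.fst (DFunLike.congr_fun hψ1 c)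
      simp only [p, RingHom.comp_apply, AlgHom.toRingHom_eq_coe, RingHom.coe_coe,
        TrivSqZeroExt.fst_map, Thick.fst_toTriv] at h2
      exact h2)
    (fun x => by rw [← RingHom.comp_apply, hψ2]; simp [σ])
  have hkh : ∀ x, k (h x) = h₀ x := fun x => by
    obtain ⟨c, rfl⟩ := d.T.cls_surjective x
    have h2 := congrArg TrivSqZeroExt.snd (DFunLike.congr_fun hψ1 c)
    simp only [p, ← hh, RingHom.comp_apply, AlgHom.toRingHom_eq_coe, RingHom.coe_coe,
      TrivSqZeroExt.snd_map, Thick.snd_toTriv] at h2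
    exact h2
  have hunits : ∀ (N : Type u) [AddCommGroup N] [Module A₀ N] [Module B N] [IsScalarTower A₀ B N]
      (x : S₀), IsUnit (algebraMap A₀ (Module.End A₀ N) x) := fun N _ _ _ _ x => by
    rw [← AlgHom.commutes (Algebra.lsmul A₀ A₀ N : B →ₐ[A₀] Module.End A₀ N) x.1]
    exact (IsLocalization.map_units B x).map _
  let h' : LocalizedModule S₀ d.T.Coker →ₗ[A₀] M := IsLocalizedModule.lift S₀ mkP h (hunits M)
  refine ⟨h'.extendScalarsOfIsLocalization S₀ B, ?_⟩
  refine LinearMap.restrictScalars_injective A₀ (IsLocalizedModule.ext S₀ mkP (hunits N) ?_)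
  ext x
  show k (h' (mkP x)) = u (mkP x)
  rw [show h' (mkP x) = h x from IsLocalizedModule.lift_apply S₀ mkP h (hunits M) x, hkh]
  rfl

include hU hV in
/-- Locally on `A`, the cokernel of `A → C` is finite. -/
lemma finite_localizedModule (hft : (f.appLE V U e).hom.FiniteType) {g : A}
    (hg : d.Adapted g U) :
    Module.Finite (Localization (Submonoid.powers (Ideal.Quotient.mk I g)))
      (LocalizedModule (Submonoid.powers (Ideal.Quotient.mk I g)) d.T.Coker) := by
  let A₀ := A ⧸ I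
  let S₀ : Submonoid A₀ := Submonoid.powers (Ideal.Quotient.mk I g)
  let B := Localization S₀
  let M := LocalizedModule S₀ d.T.Coker
  let mkP : d.T.Coker →ₗ[A₀] M := LocalizedModule.mkLinearMap S₀ d.T.Coker
  let : Module Bᵐᵒᵖ M := Module.compHom M ((RingHom.id B).fromOpposite mul_comm)
  have : IsCentralScalar B M := ⟨fun _ _ => rfl⟩
  algebraize [(f.appLE V U e).hom]
  obtain ⟨s, hs⟩ := (inferInstance : Algebra.FiniteType Γ(Y, V) Γ(X, U)).out
  have hr : ∀ {N : Type u} [AddCommGroup N] [Module A₀ N] [Module B N] [IsScalarTower A₀ B N]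
      [Module Bᵐᵒᵖ N] [IsCentralScalar B N] (h : d.T.Coker →ₗ[A₀] N),
      Set.range (d.toX (d.T.toTriv (B := B) h)).base ⊆ (U : Set X) := by
    intro N _ _ _ _ _ _ h
    refine range_subset (TrivSqZeroExt.fstHom B B N).toRingHom
      (fun y => ⟨TrivSqZeroExt.inl y, by simp⟩) (TrivSqZeroExt.kerIdeal_sq B N) _ ?_
    rw [d.sp_comp_toX (ρ := algebraMap A₀ B) (RingHom.ext fun c => d.T.fst_toTriv h c)]
    exact hg.range _ (IsLocalization.map_units B ⟨_, Submonoid.mem_powers _⟩)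
  let χ : ∀ {N : Type u} [AddCommGroup N] [Module A₀ N] [Module B N] [IsScalarTower A₀ B N]
      [Module Bᵐᵒᵖ N] [IsCentralScalar B N] (_ : d.T.Coker →ₗ[A₀] N),
      Γ(X, U) →+* TrivSqZeroExt B N :=
    fun {N} _ _ _ _ _ _ h => (Spec.preimage (IsOpenImmersion.lift hU.fromSpec
      (d.toX (d.T.toTriv (B := B) h)) (by rw [hU.range_fromSpec]; exact hr h))).hom
  have hχ : ∀ {N : Type u} [AddCommGroup N] [Module A₀ N] [Module B N] [IsScalarTower A₀ B N]
      [Module Bᵐᵒᵖ N] [IsCentralScalar B N] (h : d.T.Coker →ₗ[A₀] N),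
      sp (χ h) ≫ hU.fromSpec = d.toX (d.T.toTriv (B := B) h) := by
    intro N _ _ _ _ _ _ h
    rw [sp, CommRingCat.ofHom_hom, Spec.map_preimage, IsOpenImmersion.lift_fac]
  let F : Set M := (fun x => (χ mkP x).snd) '' (s : Set Γ(X, U))
  let Fs : Submodule B M := Submodule.span B F
  refine ⟨?_⟩
  suffices hF : Fs = ⊤ by
    rw [← hF]
    exact Submodule.fg_span (s.finite_toSet.image _)
  let Q := M ⧸ Fs
  let : Module Bᵐᵒᵖ Q := Module.compHom Q ((RingHom.id B).fromOpposite mul_comm)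
  have : IsCentralScalar B Q := ⟨fun _ _ => rfl⟩
  let k : M →ₗ[B] Q := Fs.mkQ
  let h₁ : d.T.Coker →ₗ[A₀] Q := (k.restrictScalars A₀).comp mkP
  have hψ1 : d.T.toTriv (B := B) h₁ =
      (TrivSqZeroExt.map k).toRingHom.comp (d.T.toTriv (B := B) mkP) :=
    RingHom.ext fun c => TrivSqZeroExt.ext (by simp) (by simp [h₁])
  have hψ0 : d.T.toTriv (B := B) (0 : d.T.Coker →ₗ[A₀] Q) =
      ((TrivSqZeroExt.inlHom B Q).comp (TrivSqZeroExt.fstHom B B M).toRingHom).comp
        (d.T.toTriv (B := B) mkP) :=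
    RingHom.ext fun c => TrivSqZeroExt.ext (by simp) (by simp)
  have hχ1 : χ h₁ = (TrivSqZeroExt.map k).toRingHom.comp (χ mkP) := sp_injective (by
    rw [← cancel_mono hU.fromSpec, hχ, sp_comp, Category.assoc, hχ, hψ1]
    simp only [toX, sp_comp, Category.assoc])
  have hχ0 : χ (0 : d.T.Coker →ₗ[A₀] Q) =
      ((TrivSqZeroExt.inlHom B Q).comp (TrivSqZeroExt.fstHom B B M).toRingHom).comp (χ mkP) :=
    sp_injective (by
      rw [← cancel_mono hU.fromSpec, hχ, sp_comp, Category.assoc, hχ, hψ0]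
      simp only [toX, sp_comp, Category.assoc])
  have hR : ∀ h : d.T.Coker →ₗ[A₀] Q,
      (d.T.toTriv (B := B) h).comp (algebraMap A d.C) =
        (TrivSqZeroExt.inlHom B Q).comp ((algebraMap A₀ B).comp (Ideal.Quotient.mk I)) :=
    fun h => RingHom.ext fun x => d.T.toTriv_algebraMap h x
  have hUV : sp (f.appLE V U e).hom ≫ hV.fromSpec = hU.fromSpec ≫ f := by
    rw [sp, CommRingCat.ofHom_hom]
    exact hV.SpecMap_appLE_fromSpec f hU e
  have heqR : (χ h₁).comp (f.appLE V U e).hom =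
      (χ (0 : d.T.Coker →ₗ[A₀] Q)).comp (f.appLE V U e).hom := sp_injective (by
    rw [← cancel_mono hV.fromSpec, sp_comp, sp_comp, Category.assoc, hUV, ← Category.assoc, hχ,
      d.toX_comp_f, hR, Category.assoc, hUV, ← Category.assoc, hχ, d.toX_comp_f, hR])
  let : Algebra Γ(Y, V) (TrivSqZeroExt B Q) := ((χ h₁).comp (f.appLE V U e).hom).toAlgebra
  have heq : χ h₁ = χ (0 : d.T.Coker →ₗ[A₀] Q) := by
    let α₁ : Γ(X, U) →ₐ[Γ(Y, V)] TrivSqZeroExt B Q :=
      { χ h₁ with commutes' := fun r => rfl }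
    let α₀ : Γ(X, U) →ₐ[Γ(Y, V)] TrivSqZeroExt B Q :=
      { χ (0 : d.T.Coker →ₗ[A₀] Q) with commutes' := fun r => (DFunLike.congr_fun heqR r).symm }
    have hα : α₁ = α₀ := AlgHom.ext_of_adjoin_eq_top hs fun x hx => by
      show χ h₁ x = χ (0 : d.T.Coker →ₗ[A₀] Q) x
      rw [hχ1, hχ0]
      refine TrivSqZeroExt.ext (by simp) ?_
      simp only [RingHom.comp_apply, AlgHom.toRingHom_eq_coe, RingHom.coe_coe,
        TrivSqZeroExt.snd_map, TrivSqZeroExt.inlHom_apply, TrivSqZeroExt.snd_inl]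
      exact (Submodule.Quotient.mk_eq_zero _).mpr (Submodule.subset_span ⟨x, hx, rfl⟩)
    exact congrArg AlgHom.toRingHom hα
  have htriv : d.T.toTriv (B := B) h₁ = d.T.toTriv (B := B) (0 : d.T.Coker →ₗ[A₀] Q) :=
    d.ext_toX (by rw [hR, hR]) (by rw [← hχ, ← hχ, heq])
  have hunits : ∀ x : S₀, IsUnit (algebraMap A₀ (Module.End A₀ Q) x) := fun x => by
    rw [← AlgHom.commutes (Algebra.lsmul A₀ A₀ Q : B →ₐ[A₀] Module.End A₀ Q) x.1]
    exact (IsLocalization.map_units B x).map _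
  have hk0 : k.restrictScalars A₀ = 0 := by
    refine IsLocalizedModule.ext S₀ mkP hunits ?_
    ext x
    obtain ⟨c, rfl⟩ := d.T.cls_surjective x
    have h2 := congrArg TrivSqZeroExt.snd (DFunLike.congr_fun htriv c)
    simpa [h₁] using h2
  rw [← Submodule.ker_mkQ Fs, LinearMap.ker_eq_top]
  exact LinearMap.restrictScalars_injective A₀ hk0

end Data

/-- Formally smooth charts of finite type. -/
def HasSmoothCharts (f : X ⟶ Y) : Prop :=
  ∀ x : X, ∃ (U : X.Opens) (V : Y.Opens) (_ : IsAffineOpen U) (_ : IsAffineOpen V)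
    (e : U ≤ f ⁻¹ᵁ V), x ∈ U ∧ (f.appLE V U e).hom.FormallySmooth

include w in
/-- Lifts exist as soon as locally projective modules arising here are projective. -/
theorem exists_lift (hI : I ^ 2 = ⊥) (H : HasSmoothCharts f)
    (hproj : ∀ (d : Data f a b w) (s : Set (A ⧸ I)), Ideal.span s = ⊤ →
      (∀ g ∈ s, ∃ (g' : A) (U : X.Opens) (V : Y.Opens) (_ : IsAffineOpen U) (_ : IsAffineOpen V)
        (_ : U ≤ f ⁻¹ᵁ V), Ideal.Quotient.mk I g' = g ∧ d.Adapted g' U) →
      (∀ g : s, Module.Projective (Localization (Submonoid.powers g.1))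
        (LocalizedModule (Submonoid.powers g.1) d.T.Coker)) →
      Module.Projective (A ⧸ I) d.T.Coker) :
    ∃ l : Spec (CommRingCat.of A) ⟶ X, sp (Ideal.Quotient.mk I) ≫ l = a ∧ l ≫ f = b := by
  obtain ⟨d⟩ := nonempty_data f a b w
  have hloc : ∀ x : Spec (CommRingCat.of (A ⧸ I)), ∃ (g : A) (U : X.Opens) (V : Y.Opens)
      (_ : IsAffineOpen U) (_ : IsAffineOpen V) (e : U ≤ f ⁻¹ᵁ V),
      (f.appLE V U e).hom.FormallySmooth ∧ Ideal.Quotient.mk I g ∉ x.asIdeal ∧ d.Adapted g U := by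
    intro x
    obtain ⟨U, V, hU, hV, e, hx, hφ⟩ := H (a.base x)
    obtain ⟨_, ⟨g, rfl⟩, hgx, hgU⟩ :=
      PrimeSpectrum.isTopologicalBasis_basic_opens.exists_subset_of_mem_open
        (u := SetLike.coe (a ⁻¹ᵁ U)) hx (a ⁻¹ᵁ U).isOpen
    obtain ⟨g, rfl⟩ := Ideal.Quotient.mk_surjective g
    exact ⟨g, U, V, hU, hV, e, hφ, hgx, fun y hy => hgU hy⟩
  choose g U V hU hV e hφ hgx hg using hloc
  have hspan : Ideal.span (Set.range fun x => Ideal.Quotient.mk I (g x)) = ⊤ := by
    by_contra hne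
    obtain ⟨m, hm, hle⟩ := Ideal.exists_le_maximal _ hne
    exact hgx ⟨m, hm.isPrime⟩ (hle (Ideal.subset_span ⟨⟨m, hm.isPrime⟩, rfl⟩))
  have hinj : Function.Injective (algebraMap A d.C) := by
    rw [injective_iff_map_eq_zero]
    intro x hx
    by_contra hne
    have hann : Ideal.span {x} ≠ ⊥ := by simpa [Ideal.span_singleton_eq_bot] using hne
    let Ann : Ideal A := Submodule.annihilator (Ideal.span {x})
    have hA : Ann ≠ ⊤ := fun h => hne (by
      have h1 : (1 : A) ∈ Ann := h ▸ Submodule.mem_top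
      simpa using Submodule.mem_annihilator.mp h1 x (Ideal.mem_span_singleton_self x))
    obtain ⟨m, hm, hle⟩ := Ideal.exists_le_maximal _ hA
    have hIm : I ≤ m := hm.isPrime.le_of_pow_le (n := 2) (by simp [hI])
    have hm' : (m.map (Ideal.Quotient.mk I)).IsPrime :=
      Ideal.map_isPrime_of_surjective Ideal.Quotient.mk_surjective (by rwa [Ideal.mk_ker])
    let x₀ : Spec (CommRingCat.of (A ⧸ I)) := ⟨m.map (Ideal.Quotient.mk I), hm'⟩
    have hgm : g x₀ ∉ m := fun h => hgx x₀ (Ideal.mem_map_of_mem _ h)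
    have h0 := d.algebraMap_away_eq_zero (hU x₀) (hV x₀) (e x₀) hI (hφ x₀) (hg x₀) hx
    rw [IsLocalization.map_eq_zero_iff (Submonoid.powers (g x₀))] at h0
    obtain ⟨⟨_, n, rfl⟩, hn⟩ := h0
    refine hgm (hm.isPrime.mem_of_pow_mem n (hle (Submodule.mem_annihilator.mpr fun y hy => ?_)))
    obtain ⟨c, rfl⟩ := Ideal.mem_span_singleton.mp hy
    rw [smul_eq_mul, ← mul_assoc]
    simpa using congrArg (· * c) hn
  have := hproj d _ hspan
    (by
      rintro _ ⟨x, rfl⟩
      exact ⟨g x, U x, V x, hU x, hV x, e x, rfl, hg x⟩)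
    (by
      rintro ⟨_, x, rfl⟩
      exact d.projective_localizedModule (hU x) (hV x) (e x) (hφ x) (hg x))
  obtain ⟨φ, hφA⟩ := d.T.exists_retraction hinj
  refine ⟨d.toX φ.toRingHom, ?_, ?_⟩
  · rw [d.sp_comp_toX (ρ := RingHom.id (A ⧸ I))
      (RingHom.ext fun c => by simpa using hφA c)]
    exact (congrArg (· ≫ a) (Spec.map_id _)).trans (Category.id_comp a)
  · rw [d.toX_comp_f, show φ.toRingHom.comp (algebraMap A d.C) = RingHom.id A from
      RingHom.ext φ.commutes]
    exact (congrArg (· ≫ b) (Spec.map_id _)).trans (Category.id_comp b)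

/-- Smooth morphisms have the infinitesimal lifting property. -/
theorem isFormallySmoothHom_of_smooth (f : X ⟶ Y) [Smooth f] :
    MoreMor.IsFormallySmoothHom f := by
  intro A _ I hI a b w
  have H : HasSmoothCharts f := by
    intro x
    obtain ⟨V, hV, hfx, -⟩ := TopologicalSpace.Opens.isBasis_iff_nbhd.mp Y.isBasis_affineOpens
      (Opens.mem_top (f x))
    obtain ⟨U, hU, hx, e⟩ := TopologicalSpace.Opens.isBasis_iff_nbhd.mp X.isBasis_affineOpens
      (show x ∈ f ⁻¹ᵁ V from hfx)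
    refine ⟨U, V, hU, hV, e, hx, ?_⟩
    have := f.smooth_appLE hV hU e
    algebraize [(f.appLE V U e).hom]
    exact (inferInstance : Algebra.FormallySmooth Γ(Y, V) Γ(X, U))
  refine exists_lift f a b w hI H fun d s hs hd hP => ?_
  have hfp : Module.FinitePresentation (A ⧸ I) d.T.Coker :=
    Module.FinitePresentation.of_localizationSpan s hs fun g => by
      obtain ⟨g', U, V, hU, hV, e, hg', hg⟩ := hd g.1 g.2
      have h1 := d.finite_localizedModule hU hV e (f.finiteType_appLE hV hU e) hg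
      rw [hg'] at h1
      have := hP g
      exact Module.finitePresentation_of_projective _ _
  have : Module.Flat (A ⧸ I) d.T.Coker := Module.flat_of_localized_span (A ⧸ I) d.T.Coker s hs fun g => by
    have := hP g
    exact Module.Flat.trans (A ⧸ I) (Localization (Submonoid.powers g.1)) _
  exact Module.Flat.projective_of_finitePresentation

end

end Groth.FlatmorThree.SmoothLift
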