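import Groth.Agent.Flatmor4.FormalLift
import Mathlib.AlgebraicGeometry.Morphisms.FormallyUnramified
import Mathlib.RingTheory.RingHom.Smooth

/-!
# Lifting along first order thickenings of schemes

Formally étale morphisms in the sense of `MoreMor.IsFormallyEtaleHom` (lifting against affine first
order thickenings) compared with formally étale ring maps on affine charts, and lifting against
arbitrary first order thickenings.
-/

universe u
open CategoryTheory AlgebraicGeometry Limits TopologicalSpace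

namespace Groth.FlatmorThree.FormalLift

/-- Lifting against a square zero surjection, for a formally smooth ring map. -/
lemma exists_lift_ring {R S A B : Type u} [CommRing R] [CommRing S] [CommRing A] [CommRing B]
    (φ : R →+* S) (hφ : φ.FormallySmooth) (q : A →+* B) (hq : Function.Surjective q)
    (hsq : RingHom.ker q ^ 2 = ⊥) (bA : R →+* A) (aB : S →+* B)
    (hc : q.comp bA = aB.comp φ) :
    ∃ h : S →+* A, q.comp h = aB ∧ h.comp φ = bA := by
  algebraize [φ, bA]
  let e := RingHom.quotientKerEquivOfSurjective hq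
  let g : S →ₐ[R] A ⧸ RingHom.ker q :=
    { toRingHom := e.symm.toRingHom.comp aB
      commutes' := fun r => by
        show e.symm (aB (φ r)) = Ideal.Quotient.mk _ (bA r)
        rw [RingEquiv.symm_apply_eq, RingHom.quotientKerEquivOfSurjective_apply_mk]
        exact (DFunLike.congr_fun hc r).symm }
  obtain ⟨h, hh⟩ := Algebra.FormallySmooth.comp_surjective R S (RingHom.ker q) hsq g
  refine ⟨h.toRingHom, RingHom.ext fun s => ?_, RingHom.ext fun r => h.commutes r⟩
  have h1 : Ideal.Quotient.mk (RingHom.ker q) (h s) = e.symm (aB s) := DFunLike.congr_fun hh s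
  show q (h s) = aB s
  rw [← RingHom.quotientKerEquivOfSurjective_apply_mk hq, h1]
  exact e.apply_symm_apply _

variable {X Y T T' : Scheme.{u}}

/-- Lifting over an affine open of the thickening whose reduction lands in a formally smooth chart. -/
lemma exists_local_lift (f : X ⟶ Y) (t : T ⟶ T') [IsClosedImmersion t] (ht : t.ker * t.ker = ⊥)
    (a : T ⟶ X) (b : T' ⟶ Y) (w : t ≫ b = a ≫ f)
    {U : X.Opens} {V : Y.Opens} (hU : IsAffineOpen U) (hV : IsAffineOpen V) (e : U ≤ f ⁻¹ᵁ V)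
    (hφ : (f.appLE V U e).hom.FormallySmooth)
    {W : T'.Opens} (hW : IsAffineOpen W) (hWa : t ⁻¹ᵁ W ≤ a ⁻¹ᵁ U) (hWb : W ≤ b ⁻¹ᵁ V) :
    ∃ l : W.toScheme ⟶ X, (t ∣_ W) ≫ l = (t ⁻¹ᵁ W).ι ≫ a ∧ l ≫ f = W.ι ≫ b := by
  have hW' : IsAffineOpen (t ⁻¹ᵁ W) := hW.preimage t
  have hsq : RingHom.ker (t.app W).hom ^ 2 = ⊥ := by
    have := congr(($ht).ideal ⟨W, hW⟩)
    rw [Scheme.IdealSheafData.ideal_mul, Pi.mul_apply, Scheme.Hom.ker_apply] at this
    rw [pow_two]
    exact this
  obtain ⟨h, hh1, hh2⟩ := exists_lift_ring (f.appLE V U e).hom hφ (t.app W).hom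
    (t.app_surjective W hW) hsq (b.appLE V W hWb).hom (a.appLE U _ hWa).hom (by
      rw [← CommRingCat.hom_comp, ← CommRingCat.hom_comp, Scheme.Hom.app_eq_appLE,
        Scheme.Hom.appLE_comp_appLE, Scheme.Hom.appLE_comp_appLE]
      congr 2)
  refine ⟨hW.isoSpec.hom ≫ Spec.map (CommRingCat.ofHom h) ≫ hU.fromSpec, ?_, ?_⟩
  · rw [IsAffineOpen.isoSpec_hom, ← Scheme.Opens.toSpecΓ_naturality_assoc, ← Spec.map_comp_assoc,
      show CommRingCat.ofHom h ≫ t.app W = a.appLE U _ hWa from CommRingCat.hom_ext hh1,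
      hU.SpecMap_appLE_fromSpec a hW' hWa, ← IsAffineOpen.isoSpec_hom hW', ← Category.assoc,
      IsAffineOpen.isoSpec_hom_fromSpec]
  · rw [Category.assoc, Category.assoc, ← hV.SpecMap_appLE_fromSpec f hU e, ← Spec.map_comp_assoc,
      show f.appLE V U e ≫ CommRingCat.ofHom h = b.appLE V W hWb from CommRingCat.hom_ext hh2,
      hV.SpecMap_appLE_fromSpec b hW hWb, ← Category.assoc, IsAffineOpen.isoSpec_hom_fromSpec]

/-- The restriction of a first order thickening to an open is a first order thickening. -/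
lemma ker_restrict_sq (t : T ⟶ T') [QuasiCompact t] (ht : t.ker * t.ker = ⊥) (O : T'.Opens) :
    (t ∣_ O).ker * (t ∣_ O).ker = ⊥ := by
  ext1
  ext1 V
  have := congr(($ht).ideal ⟨O.ι ''ᵁ V, V.2.image_of_isOpenImmersion _⟩)
  rw [Scheme.IdealSheafData.ideal_mul, Pi.mul_apply] at this ⊢
  rw [Scheme.ker_morphismRestrict_ideal]
  exact this

/-- Uniqueness of lifts on an open of the thickening. -/
lemma hom_ext_open (f : X ⟶ Y) [FormallyUnramified f] (t : T ⟶ T') [IsClosedImmersion t]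
    (ht : t.ker * t.ker = ⊥) (O : T'.Opens) {l₁ l₂ : O.toScheme ⟶ X}
    (h1 : (t ∣_ O) ≫ l₁ = (t ∣_ O) ≫ l₂) (h2 : l₁ ≫ f = l₂ ≫ f) : l₁ = l₂ :=
  FormallyUnramified.hom_ext (t ∣_ O) ⟨2, by rw [pow_two]; exact ker_restrict_sq t ht O⟩ f h1 h2

/-- Charts with formally étale ring maps. -/
def HasEtaleCharts (f : X ⟶ Y) : Prop :=
  ∀ x : X, ∃ (U : X.Opens) (V : Y.Opens) (_ : IsAffineOpen U) (_ : IsAffineOpen V)
    (e : U ≤ f ⁻¹ᵁ V), x ∈ U ∧ (f.appLE V U e).hom.FormallyEtale

lemma formallySmooth_of_formallyEtale {R S : Type u} [CommRing R] [CommRing S] {φ : R →+* S}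
    (h : φ.FormallyEtale) : φ.FormallySmooth := by
  algebraize [φ]
  exact (inferInstance : Algebra.FormallySmooth R S)

lemma formallyUnramified_of_formallyEtale {R S : Type u} [CommRing R] [CommRing S] {φ : R →+* S}
    (h : φ.FormallyEtale) : φ.FormallyUnramified := by
  algebraize [φ]
  exact (inferInstance : Algebra.FormallyUnramified R S)

lemma HasEtaleCharts.formallyUnramified {f : X ⟶ Y} (H : HasEtaleCharts f) :
    FormallyUnramified f := by
  rw [HasRingHomProperty.iff_exists_appLE (P := @FormallyUnramified)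
    (RingHom.FormallyUnramified.stableUnderComposition.stableUnderCompositionWithLocalizationAway
      RingHom.FormallyUnramified.holdsForLocalizationAway).1]
  intro x
  obtain ⟨U, V, hU, hV, e, hx, hφ⟩ := H x
  exact ⟨⟨V, hV⟩, ⟨U, hU⟩, hx, e, formallyUnramified_of_formallyEtale hφ⟩

/-- A morphism with formally étale charts lifts uniquely against all first order thickenings. -/
theorem HasEtaleCharts.existsUnique_lift {f : X ⟶ Y} (H : HasEtaleCharts f) (t : T ⟶ T')
    (htt : MoreMor.IsFirstOrderThickening t) (a : T ⟶ X) (b : T' ⟶ Y) (w : t ≫ b = a ≫ f) :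
    ∃! l : T' ⟶ X, t ≫ l = a ∧ l ≫ f = b := by
  have : IsClosedImmersion t := htt.1.1
  have : Surjective t := htt.1.2
  have : FormallyUnramified f := H.formallyUnramified
  have ht := htt.2
  have hnb : ∀ p : T', ∃ (W : T'.Opens) (U : X.Opens) (V : Y.Opens) (_ : IsAffineOpen W)
      (_ : IsAffineOpen U) (_ : IsAffineOpen V) (e : U ≤ f ⁻¹ᵁ V),
      (f.appLE V U e).hom.FormallyEtale ∧ p ∈ W ∧ t ⁻¹ᵁ W ≤ a ⁻¹ᵁ U ∧ W ≤ b ⁻¹ᵁ V := by
    intro p
    obtain ⟨q, rfl⟩ := t.surjective p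
    obtain ⟨U, V, hU, hV, e, hx, hφ⟩ := H (a q)
    let hh : T ≃ₜ T' := t.isClosedEmbedding.isEmbedding.toHomeomorphOfSurjective t.surjective
    have hop : IsOpen (t '' ((a ⁻¹ᵁ U : T.Opens) : Set T)) := hh.isOpenMap _ (a ⁻¹ᵁ U).isOpen
    have hq : t q ∈ (⟨_, hop⟩ : T'.Opens) ⊓ b ⁻¹ᵁ V := by
      refine ⟨⟨q, hx, rfl⟩, ?_⟩
      show b (t q) ∈ V
      rw [← Scheme.Hom.comp_apply, w, Scheme.Hom.comp_apply]
      exact e hx
    obtain ⟨W, hW, hqW, hWle⟩ := TopologicalSpace.Opens.isBasis_iff_nbhd.mp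
      T'.isBasis_affineOpens hq
    refine ⟨W, U, V, hW, hU, hV, e, hφ, hqW, fun r hr => ?_, hWle.trans inf_le_right⟩
    obtain ⟨r', hr', hrr⟩ := (hWle hr).1
    rwa [← t.isClosedEmbedding.injective hrr]
  choose W U V hW hU hV e hφ hpW hWa hWb using hnb
  choose l hl1 hl2 using fun p => exists_local_lift f t ht a b w (hU p) (hV p) (e p)
    (formallySmooth_of_formallyEtale (hφ p)) (hW p) (hWa p) (hWb p)
  have hcov : IsOpenCover W := by
    rw [IsOpenCover, eq_top_iff]
    intro p _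
    exact Opens.mem_iSup.mpr ⟨p, hpW p⟩
  let 𝒰 := T'.openCoverOfIsOpenCover W hcov
  have hcompat : ∀ i j : T', pullback.fst (W i).ι (W j).ι ≫ l i =
      pullback.snd (W i).ι (W j).ι ≫ l j := by
    intro i j
    have key : T'.homOfLE (inf_le_left : W i ⊓ W j ≤ W i) ≫ l i =
        T'.homOfLE (inf_le_right : W i ⊓ W j ≤ W j) ≫ l j := by
      refine hom_ext_open f t ht _ ?_ ?_
      · have hr : ∀ (k : T') (hk : W i ⊓ W j ≤ W k),
            (t ∣_ (W i ⊓ W j)) ≫ T'.homOfLE hk ≫ l k = (t ⁻¹ᵁ (W i ⊓ W j)).ι ≫ a := by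
          intro k hk
          have : (t ∣_ (W i ⊓ W j)) ≫ T'.homOfLE hk =
              T.homOfLE (show t ⁻¹ᵁ (W i ⊓ W j) ≤ t ⁻¹ᵁ W k from fun x hx => hk hx) ≫
                (t ∣_ W k) := by
            rw [← cancel_mono (W k).ι]
            simp
          rw [reassoc_of% this, hl1, Scheme.homOfLE_ι_assoc]
        rw [hr, hr]
      · rw [Category.assoc, Category.assoc, hl2, hl2, Scheme.homOfLE_ι_assoc,
          Scheme.homOfLE_ι_assoc]
    have hiso := (isPullback_opens_inf (W i) (W j))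
    rw [← cancel_epi hiso.isoPullback.hom]
    simpa using key
  let L : T' ⟶ X := 𝒰.glueMorphisms l hcompat
  have hL : ∀ p, (W p).ι ≫ L = l p := fun p => 𝒰.ι_glueMorphisms l hcompat p
  have hLa : t ≫ L = a := by
    refine Scheme.hom_ext_of_forall _ _ fun q => ⟨t ⁻¹ᵁ W (t q), hpW (t q), ?_⟩
    rw [← morphismRestrict_ι_assoc, hL, hl1]
  have hLb : L ≫ f = b := by
    refine Scheme.hom_ext_of_forall _ _ fun p => ⟨W p, hpW p, ?_⟩
    rw [← Category.assoc, hL, hl2]
  refine ⟨L, ⟨hLa, hLb⟩, fun l' hl' => ?_⟩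
  exact FormallyUnramified.hom_ext t ⟨2, by rw [pow_two]; exact ht⟩ f (hl'.1.trans hLa.symm)
    (hl'.2.trans hLb.symm)

/-- Affine square zero thickenings are first order thickenings. -/
lemma isFirstOrderThickening_specMap_mk {A : Type u} [CommRing A] (I : Ideal A) (hI : I ^ 2 = ⊥) :
    MoreMor.IsFirstOrderThickening (Spec.map (CommRingCat.ofHom (Ideal.Quotient.mk I))) := by
  have : IsClosedImmersion (Spec.map (CommRingCat.ofHom (Ideal.Quotient.mk I))) :=
    IsClosedImmersion.spec_of_surjective _ Ideal.Quotient.mk_surjective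
  refine ⟨⟨this, ⟨fun p => ?_⟩⟩, ?_⟩
  · have hp : I ≤ p.asIdeal := p.isPrime.le_of_pow_le (n := 2) (by simp [hI])
    have : p ∈ Set.range (PrimeSpectrum.comap (Ideal.Quotient.mk I)) := by
      rw [range_comap_of_surjective _ _ Ideal.Quotient.mk_surjective, Ideal.mk_ker]
      exact hp
    exact this
  · refine Scheme.IdealSheafData.ext_of_isAffine ?_
    rw [Scheme.IdealSheafData.ideal_mul, Pi.mul_apply, Scheme.Hom.ker_apply,
      Scheme.IdealSheafData.ideal_bot, Pi.bot_apply, eq_bot_iff, Ideal.mul_le]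
    intro x hx y hy
    have key : ∀ z, z ∈ RingHom.ker
        ((Spec.map (CommRingCat.ofHom (Ideal.Quotient.mk I))).app ⊤).hom →
        (Scheme.ΓSpecIso (CommRingCat.of A)).hom z ∈ I := by
      intro z hz
      rw [← Ideal.Quotient.eq_zero_iff_mem]
      have h1 := congr(($(Scheme.ΓSpecIso_naturality
        (CommRingCat.ofHom (Ideal.Quotient.mk I)))).hom z)
      simp only [CommRingCat.hom_comp, RingHom.comp_apply, CommRingCat.hom_ofHom] at h1
      rw [← h1, show ((Spec.map (CommRingCat.ofHom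
        (Ideal.Quotient.mk I))).appTop).hom z = 0 from hz, map_zero]
    have h0 : (Scheme.ΓSpecIso (CommRingCat.of A)).hom (x * y) = 0 := by
      rw [map_mul]
      have := Ideal.mul_mem_mul (key x hx) (key y hy)
      rwa [← pow_two, hI] at this
    exact (map_eq_zero_iff _
      (ConcreteCategory.bijective_of_isIso (Scheme.ΓSpecIso (CommRingCat.of A)).hom).1).mp h0

/-- Formally étale charts give the affine lifting property. -/
theorem HasEtaleCharts.isFormallyEtaleHom {f : X ⟶ Y} (H : HasEtaleCharts f) :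
    MoreMor.IsFormallyEtaleHom f :=
  fun _ _ I hI a b w => H.existsUnique_lift _ (isFirstOrderThickening_specMap_mk I hI) a b w

/-- Formally étale morphisms are formally unramified. -/
theorem formallyUnramified_of_isFormallyEtaleHom {f : X ⟶ Y} (hf : MoreMor.IsFormallyEtaleHom f) :
    FormallyUnramified f := by
  refine FormallyUnramified.of_hom_ext f fun R S φ hφ hsq g₁ g₂ h1 h2 => ?_
  let e := RingHom.quotientKerEquivOfSurjective hφ
  have hφe : CommRingCat.ofHom (Ideal.Quotient.mk (RingHom.ker φ.hom)) =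
      φ ≫ CommRingCat.ofHom e.symm.toRingHom := by
    ext r
    exact ((RingHom.quotientKerEquivOfSurjective hφ).symm_apply_eq.mpr rfl).symm
  obtain ⟨l, -, hl⟩ := hf R (RingHom.ker φ.hom) hsq
    (Spec.map (CommRingCat.ofHom (Ideal.Quotient.mk (RingHom.ker φ.hom))) ≫ g₁) (g₁ ≫ f)
    (by simp)
  rw [hl g₁ ⟨rfl, rfl⟩, hl g₂ ⟨?_, h2.symm⟩]
  rw [hφe, Spec.map_comp, Category.assoc, Category.assoc]
  congr 1
  exact h1.symm

/-- The affine lifting property gives formally smooth ring maps on affine charts. -/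
theorem formallySmooth_appLE {f : X ⟶ Y} (hf : MoreMor.IsFormallySmoothHom f)
    {U : X.Opens} {V : Y.Opens} (hU : IsAffineOpen U) (hV : IsAffineOpen V) (e : U ≤ f ⁻¹ᵁ V) :
    (f.appLE V U e).hom.FormallySmooth := by
  let := (f.appLE V U e).hom.toAlgebra
  refine Algebra.FormallySmooth.of_comp_surjective fun B _ _ I hI g => ?_
  have hg : f.appLE V U e ≫ CommRingCat.ofHom g.toRingHom =
      CommRingCat.ofHom (algebraMap Γ(Y, V) B) ≫ CommRingCat.ofHom (Ideal.Quotient.mk I) :=
    CommRingCat.hom_ext g.comp_algebraMap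
  obtain ⟨l, hl1, hl2⟩ := hf B I hI (Spec.map (CommRingCat.ofHom g.toRingHom) ≫ hU.fromSpec)
    (Spec.map (CommRingCat.ofHom (algebraMap Γ(Y, V) B)) ≫ hV.fromSpec) (by
      rw [Category.assoc, ← hV.SpecMap_appLE_fromSpec f hU e, ← Spec.map_comp_assoc,
        ← Spec.map_comp_assoc, hg])
  have hr : Set.range l ⊆ (U : Set X) := by
    refine Groth.Flatmor4.range_subset_of_comp I hI l U ?_
    rw [hl1, ← hU.range_fromSpec]
    rintro _ ⟨p, rfl⟩
    exact ⟨_, rfl⟩
  let l' : Spec (CommRingCat.of B) ⟶ Spec Γ(X, U) :=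
    IsOpenImmersion.lift hU.fromSpec l (by rwa [hU.range_fromSpec])
  have hl' : l' ≫ hU.fromSpec = l := IsOpenImmersion.lift_fac _ _ _
  obtain ⟨h, hh⟩ : ∃ h, Spec.map h = l' := ⟨_, Spec.map_preimage l'⟩
  have h1 : h ≫ CommRingCat.ofHom (Ideal.Quotient.mk I) = CommRingCat.ofHom g.toRingHom := by
    refine Spec.map_injective ?_
    rw [← cancel_mono hU.fromSpec, Spec.map_comp, Category.assoc, hh, hl', hl1]
  have h2 : f.appLE V U e ≫ h = CommRingCat.ofHom (algebraMap Γ(Y, V) B) := by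
    refine Spec.map_injective ?_
    rw [← cancel_mono hV.fromSpec, Spec.map_comp, Category.assoc, hV.SpecMap_appLE_fromSpec f hU e,
      ← Category.assoc, hh, hl', hl2]
  exact ⟨⟨h.hom, fun r => congr(($h2).hom r)⟩, AlgHom.ext fun s => congr(($h1).hom s)⟩

/-- The affine lifting property with uniqueness gives formally étale ring maps on affine charts. -/
theorem formallyEtale_appLE {f : X ⟶ Y} (hf : MoreMor.IsFormallyEtaleHom f)
    {U : X.Opens} {V : Y.Opens} (hU : IsAffineOpen U) (hV : IsAffineOpen V) (e : U ≤ f ⁻¹ᵁ V) :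
    (f.appLE V U e).hom.FormallyEtale := by
  have h1 := formallySmooth_appLE
    (f := f) (fun A _ I hI a b hab => (hf A I hI a b hab).exists) hU hV e
  have : FormallyUnramified f := formallyUnramified_of_isFormallyEtaleHom hf
  have h2 := f.formallyUnramified_appLE hV hU e
  algebraize [(f.appLE V U e).hom]
  exact Algebra.FormallyEtale.of_formallyUnramified_and_formallySmooth

lemma hasEtaleCharts_of_forall {f : X ⟶ Y}
    (h : ∀ (U : X.Opens) (V : Y.Opens) (_ : IsAffineOpen U) (_ : IsAffineOpen V)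
      (e : U ≤ f ⁻¹ᵁ V), (f.appLE V U e).hom.FormallyEtale) : HasEtaleCharts f := by
  intro x
  obtain ⟨V, hV, hfx, -⟩ := TopologicalSpace.Opens.isBasis_iff_nbhd.mp Y.isBasis_affineOpens
    (Opens.mem_top (f x))
  obtain ⟨U, hU, hx, e⟩ := TopologicalSpace.Opens.isBasis_iff_nbhd.mp X.isBasis_affineOpens
    (show x ∈ f ⁻¹ᵁ V from hfx)
  exact ⟨U, V, hU, hV, e, hx, h U V hU hV e⟩

theorem isFormallyEtaleHom_iff {f : X ⟶ Y} :
    MoreMor.IsFormallyEtaleHom f ↔ HasEtaleCharts f :=
  ⟨fun hf => hasEtaleCharts_of_forall fun _ _ hU hV e => formallyEtale_appLE hf hU hV e,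
    fun H => H.isFormallyEtaleHom⟩

end Groth.FlatmorThree.FormalLift
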