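import Groth.Agent.Chow.AmpleComp
import Groth.Agent.PicAux.EffCartierLine
import Groth.Agent.PicAux.EffCartierSection
import Groth.Prelude.Def_MoreMor

/-!
Ample families of invertible modules.

A section of an invertible module on the locus of a section `T` extends after twisting by a power of `T`,
so affine loci over `X_T` are affine loci of global sections of invertible modules.
-/

universe u

open CategoryTheory CategoryTheory.Limits AlgebraicGeometry Opposite TopologicalSpace

set_option backward.isDefEq.respectTransparency.types false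

namespace Groth.FlatmorThree.AmpleFam

open Groth.PicAux Groth.PropsBasic.Ample Groth.Chow

variable {X Y : Scheme.{u}}

/-- Affine loci of sections of invertible modules around every point give an ample family. -/
theorem hasAmpleFamily_of_loci [CompactSpace X]
    (h : ∀ x : X, ∃ (N : X.Modules) (σ : Γ(N, ⊤)), PicF.IsInvertible N ∧ x ∈ gloc σ ∧ IsAffineOpen (gloc σ)) :
    MoreMor.HasAmpleFamily X := by
  refine ⟨inferInstance, fun x => ?_⟩
  obtain ⟨N, σ, hN, hx, hσ⟩ := h x
  obtain ⟨e⟩ := tensorPow_one N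
  refine ⟨N, 1, homOfSection (e.inv.app ⊤ σ), hN, le_rfl, ?_⟩
  change x ∈ gloc (e.inv.app ⊤ σ) ∧ IsAffineOpen (gloc (e.inv.app ⊤ σ))
  rw [gloc_map e.inv σ]
  exact ⟨hx, hσ⟩

/-- A scheme covered by affine loci of sections of invertible modules is quasi-separated. -/
theorem quasiSeparatedSpace_of_hasAmpleFamily (h : MoreMor.HasAmpleFamily Y) : QuasiSeparatedSpace Y := by
  choose L n s hL _ hx hs using h.2
  let U : Y → Y.Opens := fun y => CohB1.genLocus (CohB1.tensorPow (L y) (n y)) (s y)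
  have := isAffineHom_diagonal_of_cover (terminal.from Y) U hs
    (eq_top_iff.2 fun y _ => Opens.mem_iSup.2 ⟨y, hx y⟩)
    (fun i j => isAffineOpen_gloc_inf (isInvertible_tensorPow (hL i) _) (s i) (hs j))
  have : QuasiSeparated (terminal.from Y) := ⟨inferInstance⟩
  exact (quasiSeparatedSpace_iff_quasiSeparated Y).mpr this

/-- A locus over `X_T` of a section of an invertible module is the locus of a global one. -/
theorem exists_locus [CompactSpace X] [QuasiSeparatedSpace X] {M P : X.Modules} (hM : PicF.IsInvertible M)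
    (hP : PicF.IsInvertible P) (T : Γ(P, ⊤)) {U : X.Opens} (hT : gloc T = U)
    (s₀ : Γ(M.restrict U.ι, ⊤)) :
    ∃ (N : X.Modules) (σ : Γ(N, ⊤)), PicF.IsInvertible N ∧ gloc σ = U.ι ''ᵁ gloc (L := M.restrict U.ι) s₀ := by
  have hT' : gloc T ≤ U.ι ''ᵁ ⊤ := by rw [hT, Scheme.Opens.ι_image_top]
  obtain ⟨j, hj⟩ := exists_extend_sec hM hP T (res M hT' (s₀ : Γ(M, U.ι ''ᵁ ⊤)))
  obtain ⟨b, hb⟩ := hj j le_rfl
  have hi := isInvertible_tensorPow hP j
  refine ⟨_, tmulSec b T, isInvertible_tensorMod (isInvertible_tensorMod hM hi) hP, ?_⟩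
  rw [gloc_tmulSec (isInvertible_tensorMod hM hi) hP]
  have hq : ∀ {V : X.Opens} (hV : V ≤ gloc T),
      Gen _ V (res _ hV (powSec (res _ (le_top : gloc T ≤ ⊤) T) j)) :=
    fun hV => ((gen_gloc T le_rfl).pow j).res hV
  have hbV : ∀ {V : X.Opens} (hV : V ≤ gloc T), res _ (le_top : V ≤ ⊤) b = tmulSec
      (res M (hV.trans hT') (s₀ : Γ(M, U.ι ''ᵁ ⊤)))
      (res _ hV (powSec (res _ (le_top : gloc T ≤ ⊤) T) j)) := by
    intro V hV
    have := congrArg (res _ hV) hb
    rwa [res_res, res_tmulSec, res_res] at this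
  refine le_antisymm (fun y hy => ?_) (le_inf ?_ ((Scheme.Opens.ι_image_le _ _).trans hT.ge))
  · obtain ⟨W, e, -, hxW, he, -⟩ := PropsBasic.Ample.exists_gen_cover hM
    let V := gloc b ⊓ gloc T ⊓ W y
    have hVT : V ≤ gloc T := inf_le_left.trans inf_le_right
    have heV := (he y).res (inf_le_right : V ≤ W y)
    obtain ⟨c, hc⟩ := heV.exists_coeff le_rfl (res M (hVT.trans hT') (s₀ : Γ(M, U.ι ''ᵁ ⊤)))
    rw [res_self] at hc
    have hg1 := heV.tensor (hq hVT)
    have hg2 := gen_gloc b (inf_le_left.trans inf_le_left : V ≤ gloc b)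
    rw [hbV hVT, hc, tmulSec_smul_left] at hg2
    have hcu : IsUnit c := isUnit_of_gen_smul hg1 hg2
    have : Gen M V (res M (hVT.trans hT') (s₀ : Γ(M, U.ι ''ᵁ ⊤))) := by
      rw [hc]; exact gen_smul_of_isUnit heV hcu
    exact (le_image_gloc_restrict s₀ (hVT.trans hT.le) (hVT.trans hT')).mpr this
      (show y ∈ V from ⟨⟨hy.1, hy.2⟩, hxW y⟩)
  · have hOT : U.ι ''ᵁ gloc (L := M.restrict U.ι) s₀ ≤ gloc T := (Scheme.Opens.ι_image_le _ _).trans hT.ge
    refine le_gloc ?_
    rw [hbV hOT]
    exact ((le_image_gloc_restrict s₀ (Scheme.Opens.ι_image_le _ _) (hOT.trans hT')).mp le_rfl).tensor (hq hOT)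

/-- Ampleness on `X_T` gives affine loci of global sections around its points. -/
theorem exists_affine_locus [CompactSpace X] [QuasiSeparatedSpace X] {L P : X.Modules}
    (hL : PicF.IsInvertible L) (hP : PicF.IsInvertible P) (T : Γ(P, ⊤)) {U : X.Opens} (hT : gloc T = U)
    (hamp : CohB1.IsAmple (L.restrict U.ι)) {x : X} (hx : x ∈ U) :
    ∃ (N : X.Modules) (σ : Γ(N, ⊤)), PicF.IsInvertible N ∧ x ∈ gloc σ ∧ IsAffineOpen (gloc σ) := by
  obtain ⟨k, s, hxs, hs⟩ := hamp.2.2 ⟨x, hx⟩
  rw [genLocus_eq_gloc] at hxs hs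
  obtain ⟨φ⟩ := Groth.Ega2Proj.exists_tensorPow_restrict (L := L) U.ι (k + 1)
  let s₀ : Γ((CohB1.tensorPow L (k + 1)).restrict U.ι, ⊤) := φ.inv.app ⊤ (gsec s)
  have hs₀ : gloc (L := (CohB1.tensorPow L (k + 1)).restrict U.ι) s₀ = gloc (gsec s) := gloc_map φ.inv _
  obtain ⟨N, σ, hN, hσ⟩ := exists_locus (isInvertible_tensorPow hL (k + 1)) hP T hT s₀
  rw [hs₀] at hσ
  refine ⟨N, σ, hN, ?_, ?_⟩
  · rw [hσ]; exact ⟨⟨x, hx⟩, hxs, rfl⟩
  · rw [hσ]; exact hs.image_of_isOpenImmersion _

/-- A scheme with a module ample relative to a scheme with an ample family has an ample family. -/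
theorem hasAmpleFamily_of_isRelAmple (f : X ⟶ Y) (hY : MoreMor.HasAmpleFamily Y) {L : X.Modules}
    (hL : RelAmple.IsRelAmple f L) : MoreMor.HasAmpleFamily X := by
  have hLi := Groth.Ega2Proj.isInvertible_of_isRelAmple hL
  haveI : CompactSpace Y := hY.1
  haveI : QuasiSeparatedSpace Y := quasiSeparatedSpace_of_hasAmpleFamily hY
  haveI := hL.1
  haveI : CompactSpace X := QuasiCompact.compactSpace_of_compactSpace f
  haveI : IsSeparated f := Groth.Agent.S9691.result f L hL
  haveI : QuasiSeparated f := inferInstance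
  haveI : QuasiSeparatedSpace X := quasiSeparatedSpace_of_quasiSeparated f
  refine hasAmpleFamily_of_loci fun x => ?_
  obtain ⟨K, n, s, hK, -, hxs, hs⟩ := hY.2 (f x)
  rw [genLocus_eq_gloc] at hxs hs
  have hKn := isInvertible_tensorPow hK n
  exact exists_affine_locus hLi (isInvertible_pullback f hKn) (pullSec f _ (gsec s))
    (gloc_pullSec f hKn _) (hL.2 ⟨gloc (gsec s), hs⟩) hxs

theorem isRelAmple_structure {f : X ⟶ Y} (hf : IsAffineHom f ∨ Mor2.IsQuasiAffine f) :
    RelAmple.IsRelAmple f (Coh.structureModule X) := by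
  rcases hf with hf | hf
  · refine ⟨inferInstance, fun V => ?_⟩
    haveI : IsAffine (f ⁻¹ᵁ V.1).toScheme := V.2.preimage f
    exact Groth.Ega2Proj.isAmple_of_isQuasiAffine
      (Groth.Ega2Proj.isInvertible_restrict _ (Groth.Ega2Proj.isInvertible_structure X))
  · refine ⟨hf.1, fun V => ?_⟩
    haveI := hf.2 V.1 V.2
    exact Groth.Ega2Proj.isAmple_of_isQuasiAffine
      (Groth.Ega2Proj.isInvertible_restrict _ (Groth.Ega2Proj.isInvertible_structure X))

/-- The locus of the canonical section of an effective Cartier divisor is its complement. -/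
theorem exists_canonical {D : X.IdealSheafData} (hD : BlowUp.IsEffCartierIdeal D) :
    ∃ (P : X.Modules) (T : Γ(P, ⊤)), PicF.IsInvertible P ∧ gloc T = D.support.compl := by
  obtain ⟨P, s, hP, -, hs⟩ := exists_invertible_section hD
  refine ⟨P, gsec s, hP, ?_⟩
  rw [← genLocus_eq_gloc]
  ext x
  rw [SetLike.mem_coe, mem_genLocus_iff_not_mem_support hP s x, hs]
  rfl

/-- Effective Cartier divisors without common point, with ample modules on the complements, give an ample family. -/
theorem hasAmpleFamily_of_divisors {m : ℕ} (D : Fin m → X.IdealSheafData)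
    (hD : ∀ i, BlowUp.IsEffCartierIdeal (D i)) (hcap : ⋂ i, ((D i).support : Set X) = ∅)
    (L : Fin m → X.Modules) (hL : ∀ i, PicF.IsInvertible (L i))
    (hamp : ∀ i, CohB1.IsAmple ((L i).restrict (Scheme.Opens.ι (D i).support.compl))) :
    MoreMor.HasAmpleFamily X := by
  classical
  choose P T hP hT using fun i => exists_canonical (hD i)
  let U : Fin m → X.Opens := fun i => (D i).support.compl
  have hcov : ∀ x : X, ∃ i, x ∈ U i := fun x => by
    by_contra h
    push_neg at h
    exact (Set.eq_empty_iff_forall_notMem.1 hcap x) (Set.mem_iInter.2 fun i => not_not.1 (h i))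
  have hc : ∀ i, IsCompact (U i : Set X) := fun i => by
    haveI := (hamp i).2.1
    exact isCompact_iff_compactSpace.2 ‹_›
  haveI : CompactSpace X := ⟨by
    rw [show (Set.univ : Set X) = ⋃ i, (U i : Set X) from
      (Set.eq_univ_of_forall fun x => Set.mem_iUnion.2 (hcov x)).symm]
    exact isCompact_iUnion hc⟩
  have hsep : ∀ i, (U i).toScheme.IsSeparated := fun i => isSeparated_of_cover (hamp i).1 (hamp i).2.2
  let ι' := { p : X.Opens × Fin m // IsAffineOpen p.1 ∧ p.1 ≤ U p.2 }
  have hdiag := isAffineHom_diagonal_of_cover (terminal.from X) (fun p : ι' => p.1.1) (fun p => p.2.1)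
    (eq_top_iff.2 fun x _ => by
      obtain ⟨i, hi⟩ := hcov x
      obtain ⟨W, hxW, hW⟩ := Divisors.exists_affine_le x (U i) hi
      exact Opens.mem_iSup.2 ⟨⟨(W.1, i), W.2, hW⟩, hxW⟩)
    (fun p q => by
      obtain ⟨⟨A, i⟩, hA, hAi⟩ := p
      obtain ⟨⟨B, j⟩, hB, hBj⟩ := q
      change A ≤ U i at hAi
      change B ≤ U j at hBj
      show IsAffineOpen (A ⊓ B)
      have hBi : IsAffineOpen (U i ⊓ B) := by
        have := isAffineOpen_gloc_inf (hP i) (homOfSection (T i)) hB
        rwa [show CohB1.genLocus (P i) (homOfSection (T i)) = U i from hT i] at this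
      haveI := hsep i
      have h1 : IsAffineOpen ((U i).ι ⁻¹ᵁ A) := by
        rwa [← (U i).ι.isAffineOpen_iff_of_isOpenImmersion, Scheme.Hom.image_preimage_eq_opensRange_inf,
          Scheme.Opens.opensRange_ι, inf_eq_right.2 hAi]
      have h2 : IsAffineOpen ((U i).ι ⁻¹ᵁ (U i ⊓ B)) := by
        rwa [← (U i).ι.isAffineOpen_iff_of_isOpenImmersion, Scheme.Hom.image_preimage_eq_opensRange_inf,
          Scheme.Opens.opensRange_ι, inf_eq_right.2 inf_le_left]
      have h := (h1.inf h2).image_of_isOpenImmersion (U i).ι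
      rwa [← Scheme.Hom.preimage_inf, Scheme.Hom.image_preimage_eq_opensRange_inf, Scheme.Opens.opensRange_ι,
        ← inf_assoc, inf_eq_right.2 hAi, ← inf_assoc, inf_eq_left.2 hAi] at h)
  haveI : QuasiSeparated (terminal.from X) := ⟨inferInstance⟩
  haveI : QuasiSeparatedSpace X := (quasiSeparatedSpace_iff_quasiSeparated X).mpr ‹_›
  refine hasAmpleFamily_of_loci fun x => ?_
  obtain ⟨i, hi⟩ := hcov x
  exact exists_affine_locus (hL i) (hP i) (T i) (hT i) (hamp i) hi

end Groth.FlatmorThree.AmpleFam
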