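import Groth.Agent.FlatmorThree.FlatAtBaseChange
import Mathlib.RingTheory.Flat.FaithfullyFlat.Algebra
import Mathlib.RingTheory.LocalRing.ResidueField.Ideal

/-! Descending `FlatAt` along a base change. -/

set_option autoImplicit false
universe u

namespace Groth.FlatmorThree

open scoped TensorProduct

/-- If `T ⊗ N` is flat over `R` for a faithfully flat `A`-algebra `T`, so is `N`. -/
theorem flat_of_flat_tensor_faithfullyFlat {R A : Type u} [CommRing R] [CommRing A] [Algebra R A]
    (T : Type u) [CommRing T] [Algebra A T] [Algebra R T] [IsScalarTower R A T]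
    [Module.FaithfullyFlat A T] (N : Type u) [AddCommGroup N] [Module A N] [Module R N]
    [IsScalarTower R A N] [Module.Flat R (T ⊗[A] N)] : Module.Flat R N := by
  rw [Module.Flat.iff_lTensor_preserves_injective_linearMap]
  intro Q Q' _ _ _ _ g hg
  let φ : N ⊗[R] Q →ₗ[A] N ⊗[R] Q' :=
    TensorProduct.AlgebraTensorModule.map (LinearMap.id (R := A) (M := N)) g
  suffices h : Function.Injective φ from h
  rw [← Module.FaithfullyFlat.lTensor_injective_iff_injective A T]
  let e := TensorProduct.AlgebraTensorModule.assoc R A A T N Q
  let e' := TensorProduct.AlgebraTensorModule.assoc R A A T N Q'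
  have h1 := Module.Flat.lTensor_preserves_injective_linearMap (M := T ⊗[A] N) g hg
  have h3 : ⇑(φ.lTensor T) = e' ∘ (g.lTensor (T ⊗[A] N)) ∘ e.symm := by
    funext z
    induction z using TensorProduct.induction_on with
    | zero => simp
    | tmul t w =>
      induction w using TensorProduct.induction_on with
      | zero => simp
      | tmul n q => simp [e, e', φ]
      | add a b ha hb => simp only [TensorProduct.tmul_add, map_add, ha, hb, Function.comp_apply] at *
    | add a b ha hb => simp only [map_add, ha, hb, Function.comp_apply] at *
  rw [h3]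
  exact e'.injective.comp (h1.comp e.symm.injective)

/-- A prime of a pushout over compatible primes of the two factors. -/
theorem exists_prime_over_both {R S R' S' : Type u} [CommRing R] [CommRing S] [CommRing R']
    [CommRing S'] [Algebra R S] [Algebra R R'] [Algebra S S'] [Algebra R' S'] [Algebra R S']
    [IsScalarTower R S S'] [IsScalarTower R R' S'] [Algebra.IsPushout R S R' S']
    (q : Ideal S) [q.IsPrime] (p' : Ideal R') [p'.IsPrime]
    (h : p'.comap (algebraMap R R') = q.comap (algebraMap R S)) :
    ∃ (q' : Ideal S') (_ : q'.IsPrime), q'.comap (algebraMap S S') = q ∧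
      q'.comap (algebraMap R' S') = p' := by
  let p := q.comap (algebraMap R S)
  let _ : Algebra p.ResidueField q.ResidueField :=
    (Ideal.ResidueField.mapₐ p q (Algebra.ofId R S) rfl).toRingHom.toAlgebra
  let _ : Algebra p.ResidueField p'.ResidueField :=
    (Ideal.ResidueField.mapₐ p p' (Algebra.ofId R R') h.symm).toRingHom.toAlgebra
  have : IsScalarTower R p.ResidueField q.ResidueField := .of_algebraMap_eq fun r =>
    ((Ideal.ResidueField.mapₐ p q (Algebra.ofId R S) rfl).commutes r).symm
  have : IsScalarTower R p.ResidueField p'.ResidueField := .of_algebraMap_eq fun r =>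
    ((Ideal.ResidueField.mapₐ p p' (Algebra.ofId R R') h.symm).commutes r).symm
  let K := q.ResidueField ⊗[p.ResidueField] p'.ResidueField
  let fq : S →ₐ[R] K := ((Algebra.TensorProduct.includeLeft : q.ResidueField →ₐ[p.ResidueField] K).restrictScalars R).comp
    (IsScalarTower.toAlgHom R S q.ResidueField)
  let gp : R' →ₐ[R] K := ((Algebra.TensorProduct.includeRight : p'.ResidueField →ₐ[p.ResidueField] K).restrictScalars R).comp
    (IsScalarTower.toAlgHom R R' p'.ResidueField)
  let ψ : S' →ₐ[R] K := Algebra.pushoutDesc S' fq gp fun x y => mul_comm _ _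
  have : Nontrivial K := by
    have hi : Function.Injective
        (Algebra.TensorProduct.includeLeft : q.ResidueField →ₐ[p.ResidueField] K) :=
      Algebra.TensorProduct.includeLeft_injective (algebraMap p.ResidueField p'.ResidueField).injective
    exact hi.nontrivial
  obtain ⟨m, hm⟩ := Ideal.exists_maximal K
  refine ⟨m.comap ψ, inferInstance, ?_, ?_⟩
  · ext x
    rw [Ideal.mem_comap, Ideal.mem_comap, Algebra.pushoutDesc_left]
    show Algebra.TensorProduct.includeLeft (S := p.ResidueField) (algebraMap S q.ResidueField x) ∈ m ↔ _
    rw [← Ideal.mem_comap, Ideal.eq_bot_of_prime (Ideal.comap _ m), Ideal.mem_bot,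
      Ideal.algebraMap_residueField_eq_zero]
  · ext x
    rw [Ideal.mem_comap, Ideal.mem_comap, Algebra.pushoutDesc_right]
    show Algebra.TensorProduct.includeRight (algebraMap R' p'.ResidueField x) ∈ m ↔ _
    rw [← Ideal.mem_comap, Ideal.eq_bot_of_prime (Ideal.comap _ m), Ideal.mem_bot,
      Ideal.algebraMap_residueField_eq_zero]

/-- `FlatAt` descends along a base change that is flat at the point. -/
theorem flatAt_descend {R S R' S' : Type u} [CommRing R] [CommRing S] [CommRing R'] [CommRing S']
    [Algebra R S] [Algebra R R'] [Algebra S S'] [Algebra R' S'] [Algebra R S'] [IsScalarTower R S S']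
    [IsScalarTower R R' S'] [Algebra.IsPushout R S R' S']
    {M M' : Type u} [AddCommGroup M] [Module S M] [Module R M] [IsScalarTower R S M]
    [AddCommGroup M'] [Module S' M'] [Module R' M'] [IsScalarTower R' S' M'] [Module S M']
    [IsScalarTower S S' M']
    (f : M →ₗ[S] M') (hf : IsBaseChange S' f) (q : Ideal S) [q.IsPrime] (q' : Ideal S') [q'.IsPrime]
    (hq : q'.comap (algebraMap S S') = q) (p' : Ideal R') [p'.IsPrime]
    (hp : q'.comap (algebraMap R' S') = p') (hR : Module.Flat R (Localization.AtPrime p'))
    (h : FlatCA.FlatAt R' q' M') : FlatCA.FlatAt R q M := by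
  let T := Localization.AtPrime q'
  -- `T` is flat over `S`
  have hTS : Module.Flat S T := by
    have : Algebra.IsPushout R R' S S' := Algebra.IsPushout.symm inferInstance
    have h0 : FlatCA.FlatAt R p' R' := hR
    exact flatAt_baseChange (R := R) (S := R') (R' := S) (S' := S') (M := R') (M' := S')
      (Algebra.linearMap R' S') (IsBaseChange.linearMap R' S') p' q' hp h0
  let Sq := Localization.AtPrime q
  let φ : Sq →+* T := Localization.localRingHom q q' (algebraMap S S') hq.symm
  let _ : Algebra Sq T := φ.toAlgebra
  have : IsScalarTower S Sq T := .of_algebraMap_eq fun x => by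
    rw [RingHom.algebraMap_toAlgebra, Localization.localRingHom_to_map]
    exact IsScalarTower.algebraMap_apply S S' T x
  have : Module.Flat Sq T := (Module.flat_iff_of_isLocalization Sq q.primeCompl T).mpr hTS
  have : IsLocalHom (algebraMap Sq T) := Localization.isLocalHom_localRingHom q q' _ hq.symm
  have : Module.FaithfullyFlat Sq T := Module.FaithfullyFlat.of_flat_of_isLocalHom
  have : IsScalarTower R Sq T := .of_algebraMap_eq fun x => by
    rw [IsScalarTower.algebraMap_apply R S Sq, ← IsScalarTower.algebraMap_apply S Sq T,
      IsScalarTower.algebraMap_apply R S' T, IsScalarTower.algebraMap_apply R S S',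
      ← IsScalarTower.algebraMap_apply S S' T]
  let Mq := LocalizedModule q.primeCompl M
  let L' := LocalizedModule q'.primeCompl M'
  -- `R`-structure and flatness of `L'`
  let _ : Module R L' := Module.compHom L' (algebraMap R R')
  have : IsScalarTower R R' L' := IsScalarTower.of_algebraMap_smul fun r x => rfl
  have : IsScalarTower R' T L' := IsScalarTower.of_algebraMap_smul fun r x => by
    rw [IsScalarTower.algebraMap_apply R' S' T, algebraMap_smul, algebraMap_smul]
  have : IsScalarTower R T L' := IsScalarTower.of_algebraMap_smul fun r x => by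
    rw [IsScalarTower.algebraMap_apply R R' T, algebraMap_smul]
    exact (IsScalarTower.algebraMap_smul R' r x)
  have hflat : Module.Flat R L' := by
    -- `L'` is a module over `R'_{p'}`, flat over it
    have : ∀ x : p'.primeCompl, IsUnit (algebraMap R' T x) := fun x => by
      rw [IsScalarTower.algebraMap_apply R' S' T]
      exact IsLocalization.map_units T (⟨_, fun hx => x.2 (hp.le hx)⟩ : q'.primeCompl)
    let _ : Algebra (Localization.AtPrime p') T := (IsLocalization.lift this).toAlgebra
    have : IsScalarTower R' (Localization.AtPrime p') T :=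
      .of_algebraMap_eq fun x => (IsLocalization.lift_eq _ x).symm
    let _ : Module (Localization.AtPrime p') L' := Module.compHom L' (algebraMap (Localization.AtPrime p') T)
    have : IsScalarTower R' (Localization.AtPrime p') L' := IsScalarTower.of_algebraMap_smul fun r x => by
      show algebraMap (Localization.AtPrime p') T (algebraMap R' _ r) • x = r • x
      rw [← IsScalarTower.algebraMap_apply, algebraMap_smul]
    have : IsScalarTower R (Localization.AtPrime p') L' := IsScalarTower.of_algebraMap_smul fun r x => by
      rw [IsScalarTower.algebraMap_apply R R' (Localization.AtPrime p'), algebraMap_smul]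
      exact (IsScalarTower.algebraMap_smul R' r x)
    have : Module.Flat (Localization.AtPrime p') L' :=
      (Module.flat_iff_of_isLocalization (Localization.AtPrime p') p'.primeCompl L').mpr h
    exact Module.Flat.trans R (Localization.AtPrime p') L'
  -- both sides are `T ⊗_S M`
  have : IsScalarTower S T L' := IsScalarTower.of_algebraMap_smul fun r x => by
    rw [IsScalarTower.algebraMap_apply S S' T, algebraMap_smul, algebraMap_smul]
  have h1 : IsBaseChange T ((TensorProduct.mk Sq T Mq 1).restrictScalars S ∘ₗ
      LocalizedModule.mkLinearMap q.primeCompl M) :=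
    IsBaseChange.comp (IsLocalizedModule.isBaseChange q.primeCompl Sq _)
      (TensorProduct.isBaseChange Sq Mq T)
  have h2 : IsBaseChange T ((LocalizedModule.mkLinearMap q'.primeCompl M').restrictScalars S ∘ₗ f) :=
    IsBaseChange.comp hf (IsLocalizedModule.isBaseChange q'.primeCompl T _)
  let e : T ⊗[Sq] Mq ≃ₗ[T] L' := h1.equiv.symm.trans h2.equiv
  have : Module.Flat R (T ⊗[Sq] Mq) := Module.Flat.of_linearEquiv (e.restrictScalars R)
  exact flat_of_flat_tensor_faithfullyFlat (A := Sq) T Mq

end Groth.FlatmorThree
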