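import Mathlib.FieldTheory.PurelyInseparable.PerfectClosure
import Mathlib.FieldTheory.PrimitiveElement
import Mathlib.FieldTheory.IntermediateField.Adjoin.Algebra
import Mathlib.RingTheory.AlgebraicIndependent.AlgebraicClosure
import Mathlib.RingTheory.AlgebraicIndependent.TranscendenceBasis

/-! The pencil argument (Bertini, field-theoretic form). -/

set_option autoImplicit false

universe u

open IntermediateField Polynomial
open scoped IntermediateField.algebraAdjoinAdjoin

namespace Groth.FlatmorThree.Pencil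

/-- The algebraic closure of a field in a finitely generated extension is finite. -/
theorem finite_algebraicClosure (E Ω : Type u) [Field E] [Field Ω] [Algebra E Ω]
    [Algebra.EssFiniteType E Ω] : FiniteDimensional E (algebraicClosure E Ω) := by
  obtain ⟨s, hs⟩ := exists_isTranscendenceBasis' E Ω
  obtain ⟨x, hx⟩ := hs
  let F := adjoin E (Set.range x)
  have hF : Algebra.IsAlgebraic F Ω := hx.isAlgebraic_field
  have : Algebra.EssFiniteType F Ω := Algebra.EssFiniteType.of_comp E F Ω
  have hfin : FiniteDimensional F Ω := Algebra.finite_of_essFiniteType_of_isAlgebraic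
  let C := algebraicClosure E Ω
  have : Algebra.IsAlgebraic E C := algebraicClosure.isAlgebraic E Ω
  -- linearly independent families of `C` stay independent over `F`
  have key : ∀ (n : ℕ) (b : Fin n → C), LinearIndependent E b →
      LinearIndependent F fun i => (b i : Ω) := by
    intro n b hb
    have hli : LinearIndependent (Algebra.adjoin E (Set.range x)) fun i => (b i : Ω) := by
      rw [Fintype.linearIndependent_iff]
      intro c hc i
      have hcoef : ∀ j, ∃ P : MvPolynomial s E, MvPolynomial.aeval x P = (c j : Ω) := fun j => by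
        exact (Algebra.adjoin_range_eq_range_aeval E x).le (c j).2
      choose P hP using hcoef
      have hxC : AlgebraicIndependent C x := hx.1.extendScalars _
      let Pi₀ : MvPolynomial s C := ∑ j, MvPolynomial.C (b j) * MvPolynomial.map (algebraMap E C) (P j)
      have hPi₀ : Pi₀ = 0 := by
        apply hxC
        rw [map_zero, map_sum, ← hc]
        refine Finset.sum_congr rfl fun j _ => ?_
        rw [map_mul, MvPolynomial.aeval_C, MvPolynomial.aeval_map_algebraMap, hP, Algebra.smul_def,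
          mul_comm]
        rfl
      apply Subtype.ext
      rw [ZeroMemClass.coe_zero, ← hP i]
      suffices P i = 0 by rw [this, map_zero]
      ext m
      rw [MvPolynomial.coeff_zero]
      have hm := congrArg (MvPolynomial.coeff m) hPi₀
      simp only [Pi₀, MvPolynomial.coeff_sum, MvPolynomial.coeff_C_mul, MvPolynomial.coeff_map,
        MvPolynomial.coeff_zero] at hm
      refine Fintype.linearIndependent_iff.mp hb (fun j => MvPolynomial.coeff m (P j)) ?_ i
      rw [← hm]
      exact Finset.sum_congr rfl fun j _ => by rw [Algebra.smul_def, mul_comm]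
    exact (LinearIndependent.iff_fractionRing (Algebra.adjoin E (Set.range x)) F).mp hli
  by_contra hC
  obtain ⟨b, hb⟩ := exists_linearIndependent_of_le_rank (R := E) (M := C) (n := Module.finrank F Ω + 1)
    (le_trans (Cardinal.natCast_lt_aleph0).le (not_lt.mp fun h => hC (Module.rank_lt_aleph0_iff.mp h)))
  have := (key _ b hb).fintype_card_le_finrank
  simp at this

variable {k₀ Ω : Type u} [Field k₀] [Field Ω] [Algebra k₀ Ω]

/-- An element of the separable closures of `k₀(u)` and of `k₀(v)`, linked by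
`S_v(u) = S_u(v)`, lies in `k₀(u)`. -/
theorem specialise [Infinite k₀] (hk₀ : ∀ a : Ω, IsSeparable k₀ a → a ∈ Set.range (algebraMap k₀ Ω))
    (u v : Ω) (huv : AlgebraicIndependent k₀ ![u, v]) (G : IntermediateField k₀ Ω)
    (hG : ∀ b ∈ G, IsAlgebraic k₀⟮v⟯ b) (a : Ω) (ha : IsSeparable k₀⟮u⟯ a)
    (ha' : a ∈ adjoin G ({u} : Set Ω))
    (hG' : ∀ b ∈ G, b ∈ adjoin (separableClosure k₀⟮u⟯ Ω) ({v} : Set Ω)) :
    a ∈ k₀⟮u⟯ := by
  classical
  let S := separableClosure k₀⟮u⟯ Ω
  have : Algebra.IsAlgebraic k₀⟮u⟯ S := inferInstance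
  have hvT : Transcendental S v := by
    have h1 : Transcendental k₀⟮u⟯ v := by
      have h := ((AlgebraicIndependent.option_iff (R := k₀) (x := fun _ : Unit => u) (a := v)).mp ?_).2
      · rw [show Set.range (fun _ : Unit => u) = {u} by simp] at h
        exact h.extendScalars k₀⟮u⟯
      · convert huv.comp (fun o : Option Unit => o.elim 1 fun _ => 0) (by
          rintro (_ | _) (_ | _) h <;> simp_all) using 1
        funext o
        cases o <;> rfl
    exact h1.extendScalars S
  have hvk : Transcendental k₀ v := by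
    have := huv.transcendental 1
    simpa using this
  have : IsScalarTower k₀ S Ω := IsScalarTower.of_algebraMap_eq fun x => rfl
  let ev : S[X] →ₐ[S] Ω := aeval v
  have hev : Function.Injective ev := transcendental_iff_injective.mp hvT
  obtain ⟨r, t, hrt⟩ := (mem_adjoin_simple_iff G a).mp ha'
  by_cases ht0 : aeval u t = 0
  · rw [hrt, ht0, div_zero]; exact zero_mem _
  -- write each coefficient as a fraction in `S[v]`
  let J : Finset Ω := (r.coeffs ∪ t.coeffs).image fun c : G => (c : Ω)
  have hrep : ∀ b ∈ J, ∃ p q : S[X], aeval v q ≠ 0 ∧ b * aeval v q = aeval v p := by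
    intro b hb
    obtain ⟨c, -, rfl⟩ := Finset.mem_image.mp hb
    obtain ⟨p, q, hpq⟩ := (mem_adjoin_simple_iff S _).mp (hG' _ c.2)
    by_cases hq : aeval v q = 0
    · exact ⟨0, 1, by simp, by rw [hpq, hq]; simp⟩
    · exact ⟨p, q, hq, by rw [hpq, div_mul_cancel₀ _ hq]⟩
  choose p q hq hpq using hrep
  -- algebraicity over `k₀[v]`
  have halg : ∀ b ∈ J, ∃ (N : ℕ) (R : ℕ → k₀[X]), R N ≠ 0 ∧
      ∑ i ∈ Finset.range (N + 1), aeval v (R i) * b ^ i = 0 := by
    intro b hb
    obtain ⟨c, -, rfl⟩ := Finset.mem_image.mp hb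
    obtain ⟨g, hg, hg0⟩ := (hG _ c.2).isIntegral
    choose pc qc hc using fun i => (mem_adjoin_simple_iff k₀ (g.coeff i : Ω)).mp (g.coeff i).2
    let qc' : ℕ → k₀[X] := fun i => if qc i = 0 then 1 else qc i
    have hc' : ∀ i, (g.coeff i : Ω) * aeval v (qc' i) = aeval v (if qc i = 0 then 0 else pc i) := by
      intro i
      by_cases h : qc i = 0
      · simp [qc', h, hc i]
      · simp only [qc', if_neg h]
        rw [hc i, div_mul_cancel₀]
        exact fun h0 => h (transcendental_iff.mp hvk _ h0)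
    have hqne : ∀ i, qc' i ≠ 0 := fun i => by
      by_cases h : qc i = 0 <;> simp [qc', h]
    let N := g.natDegree
    let D := ∏ i ∈ Finset.range (N + 1), qc' i
    have hD : D ≠ 0 := Finset.prod_ne_zero_iff.mpr fun i _ => hqne i
    refine ⟨N, fun i => (if qc i = 0 then 0 else pc i) * ∏ k ∈ (Finset.range (N + 1)).erase i, qc' k,
      fun h0 => ?_, ?_⟩
    · have h1 := hc' N
      rw [show g.coeff N = 1 from hg.coeff_natDegree] at h1
      rcases mul_eq_zero.mp h0 with h | h
      · rw [h, map_zero] at h1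
        simp only [OneMemClass.coe_one, one_mul] at h1
        exact hqne N (transcendental_iff.mp hvk _ h1)
      · exact Finset.prod_ne_zero_iff.mpr (fun i _ => hqne i) h
    · have h1 : ∑ i ∈ Finset.range (N + 1), (g.coeff i : Ω) * (c : Ω) ^ i = 0 := by
        rw [← hg0, eval₂_eq_sum_range]
        rfl
      calc ∑ i ∈ Finset.range (N + 1), aeval v ((if qc i = 0 then 0 else pc i) *
            ∏ k ∈ (Finset.range (N + 1)).erase i, qc' k) * (c : Ω) ^ i
          = ∑ i ∈ Finset.range (N + 1), aeval v D * ((g.coeff i : Ω) * (c : Ω) ^ i) :=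
            Finset.sum_congr rfl fun i hi => by
              rw [map_mul, ← hc', show D = qc' i * ∏ k ∈ (Finset.range (N + 1)).erase i, qc' k from
                (Finset.mul_prod_erase _ _ hi).symm, map_mul]
              ring
        _ = 0 := by rw [← Finset.mul_sum, h1, mul_zero]
  choose N R hRN hR using halg
  -- common denominator
  let Q : S[X] := ∏ b : J, q b.1 b.2
  have hQv : aeval v Q ≠ 0 := by
    rw [map_prod]
    exact Finset.prod_ne_zero_iff.mpr fun b _ => hq b.1 b.2
  let num : Ω → S[X] := fun b =>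
    if hb : b ∈ J then p b hb * ∏ c ∈ Finset.univ.erase (⟨b, hb⟩ : J), q c.1 c.2 else 0
  have hnum : ∀ b ∈ J, aeval v (num b) = b * aeval v Q := fun b hb => by
    simp only [num, dif_pos hb]
    rw [map_mul, ← hpq b hb, show Q = q b hb * ∏ c ∈ Finset.univ.erase (⟨b, hb⟩ : J), q c.1 c.2 from
      (Finset.mul_prod_erase Finset.univ (fun c : J => q c.1 c.2) (Finset.mem_univ (⟨b, hb⟩ : J))).symm,
      map_mul, mul_assoc]
  have huS : u ∈ S := mem_separableClosure_iff.mpr
    (isSeparable_algebraMap (⟨u, mem_adjoin_simple_self k₀ u⟩ : k₀⟮u⟯))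
  have haS : a ∈ S := mem_separableClosure_iff.mpr ha
  let expand : (↥G)[X] → S[X] := fun f =>
    ∑ m ∈ f.support, C (⟨u, huS⟩ ^ m : S) * num (f.coeff m : Ω)
  have hJr : ∀ m ∈ r.support, (r.coeff m : Ω) ∈ J := fun m hm =>
    Finset.mem_image_of_mem _ (Finset.mem_union_left _ (coeff_mem_coeffs (mem_support_iff.mp hm)))
  have hJt : ∀ m ∈ t.support, (t.coeff m : Ω) ∈ J := fun m hm =>
    Finset.mem_image_of_mem _ (Finset.mem_union_right _ (coeff_mem_coeffs (mem_support_iff.mp hm)))
  have hexp : ∀ f : (↥G)[X], (∀ m ∈ f.support, (f.coeff m : Ω) ∈ J) →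
      aeval v (expand f) = aeval u f * aeval v Q := fun f hf => by
    rw [aeval_def u, eval₂_eq_sum, Polynomial.sum, Finset.sum_mul, map_sum]
    refine Finset.sum_congr rfl fun m hm => ?_
    rw [map_mul, aeval_C, hnum _ (hf m hm)]
    show u ^ m * _ = (f.coeff m : Ω) * u ^ m * _
    ring
  have hkey : C ⟨a, haS⟩ * expand t = expand r := by
    apply hev
    show aeval v _ = aeval v _
    rw [map_mul, aeval_C, hexp t hJt, hexp r hJr]
    show a * (aeval u t * _) = _
    rw [show a * (aeval u t * aeval v Q) = aeval u r / aeval u t * aeval u t * aeval v Q by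
      rw [← hrt, mul_assoc], div_mul_cancel₀ _ ht0]
  have hW : expand t ≠ 0 := fun h => by
    have := hexp t hJt
    rw [h, map_zero] at this
    exact mul_ne_zero ht0 hQv this.symm
  -- a good specialisation
  let bad : S[X] := expand t * Q * ∏ b : J, ((R b.1 b.2 (N b.1 b.2)).map (algebraMap k₀ S))
  have hbad : bad ≠ 0 := mul_ne_zero (mul_ne_zero hW fun h => hQv (by rw [h, map_zero]))
    (Finset.prod_ne_zero_iff.mpr fun b _ => (Polynomial.map_ne_zero (hRN b.1 b.2)))
  obtain ⟨v₀, hv₀⟩ : ∃ v₀ : k₀, bad.eval (algebraMap k₀ S v₀) ≠ 0 := by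
    by_contra! hcon
    exact hbad (eq_zero_of_infinite_isRoot bad
      (Set.infinite_of_injective_forall_mem (algebraMap k₀ S).injective hcon))
  let e₀ : S[X] →+* Ω := (algebraMap S Ω).comp (evalRingHom (algebraMap k₀ S v₀))
  have hbad₀ : e₀ bad ≠ 0 := fun h => hv₀ ((map_eq_zero (algebraMap S Ω)).mp h)
  simp only [bad, map_mul, map_prod, mul_ne_zero_iff, Finset.prod_ne_zero_iff] at hbad₀
  obtain ⟨⟨hW₀, hQ₀⟩, hR₀⟩ := hbad₀
  -- specialised coefficients are algebraic over `k₀`
  let L := algebraicClosure k₀ Ω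
  have hspec : ∀ b ∈ J, e₀ (num b) / e₀ Q ∈ L := by
    intro b hb
    let Pi₀ : S[X] := ∑ i ∈ Finset.range (N b hb + 1),
      (R b hb i).map (algebraMap k₀ S) * num b ^ i * Q ^ (N b hb - i)
    have hPi₀ : Pi₀ = 0 := by
      apply hev
      show aeval v Pi₀ = aeval v 0
      rw [map_zero, map_sum]
      calc ∑ i ∈ Finset.range (N b hb + 1),
            aeval v ((R b hb i).map (algebraMap k₀ S) * num b ^ i * Q ^ (N b hb - i))
          = ∑ i ∈ Finset.range (N b hb + 1), aeval v (R b hb i) * b ^ i * aeval v Q ^ N b hb :=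
            Finset.sum_congr rfl fun i hi => by
              rw [map_mul, map_mul, map_pow, map_pow, hnum b hb, aeval_map_algebraMap, mul_pow,
                ← Nat.add_sub_cancel' (Nat.lt_succ_iff.mp (Finset.mem_range.mp hi)), pow_add]
              simp only [Nat.add_sub_cancel_left]
              ring
        _ = 0 := by rw [← Finset.sum_mul, hR b hb, zero_mul]
    let P : k₀[X] := ∑ i ∈ Finset.range (N b hb + 1), C ((R b hb i).eval v₀) * X ^ i
    have he₀R : ∀ f : k₀[X], e₀ (f.map (algebraMap k₀ S)) = algebraMap k₀ Ω (f.eval v₀) := fun f => by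
      show algebraMap S Ω ((f.map _).eval _) = _
      rw [eval_map, eval₂_at_apply, ← IsScalarTower.algebraMap_apply]
    refine mem_algebraicClosure_iff.mpr ⟨P, fun hP => ?_, ?_⟩
    · have := congrArg (coeff · (N b hb)) hP
      simp [P, finsetSum_coeff, coeff_C_mul, coeff_X_pow] at this
      have h' := hR₀ ⟨b, hb⟩ (Finset.mem_univ _)
      rw [he₀R, this, map_zero] at h'
      exact h' rfl
    · have h0 := congrArg e₀ hPi₀
      simp only [Pi₀, map_sum, map_mul, map_pow, map_zero, he₀R] at h0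
      simp only [P, map_sum, map_mul, aeval_C, map_pow, aeval_X]
      refine (mul_eq_zero.mp ?_).resolve_right (pow_ne_zero (N b hb) hQ₀)
      rw [Finset.sum_mul, ← h0]
      refine Finset.sum_congr rfl fun i hi => ?_
      rw [div_pow, ← Nat.add_sub_cancel' (Nat.lt_succ_iff.mp (Finset.mem_range.mp hi)), pow_add]
      simp only [Nat.add_sub_cancel_left]
      field_simp
  let K' := adjoin k₀⟮u⟯ (L : Set Ω)
  have hexp₀ : ∀ f : (↥G)[X], (∀ m ∈ f.support, (f.coeff m : Ω) ∈ J) → e₀ (expand f) / e₀ Q ∈ K' :=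
    fun f hf => by
    rw [map_sum, div_eq_mul_inv, Finset.sum_mul]
    refine sum_mem fun m hm => ?_
    rw [map_mul, ← div_eq_mul_inv, mul_div_assoc]
    refine mul_mem ?_ (subset_adjoin _ _ (hspec _ (hf m hm)))
    show algebraMap S Ω ((C (⟨u, huS⟩ ^ m : S)).eval _) ∈ K'
    rw [eval_C, map_pow]
    exact pow_mem (K'.algebraMap_mem (⟨u, mem_adjoin_simple_self k₀ u⟩ : k₀⟮u⟯)) m
  have haK : a ∈ K' := by
    have h := congrArg e₀ hkey
    rw [map_mul, show e₀ (C ⟨a, haS⟩) = a by simp [e₀]] at h
    rw [show a = (e₀ (expand r) / e₀ Q) / (e₀ (expand t) / e₀ Q) by rw [← h]; field_simp]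
    exact div_mem (hexp₀ r hJr) (hexp₀ t hJt)
  have hL : IsPurelyInseparable k₀ L := isPurelyInseparable_iff.mpr fun x =>
    ⟨Algebra.IsIntegral.isIntegral x, fun hx => by
      obtain ⟨c, hc⟩ := hk₀ x (hx.map L.val L.val.injective)
      exact ⟨c, Subtype.ext hc⟩⟩
  obtain ⟨qq, hqq⟩ := ExpChar.exists k₀
  have : ExpChar k₀⟮u⟯ qq := expChar_of_injective_ringHom (algebraMap k₀ k₀⟮u⟯).injective qq
  have hK' : IsPurelyInseparable k₀⟮u⟯ K' := by
    rw [isPurelyInseparable_adjoin_iff_pow_mem _ _ qq]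
    intro x hx
    obtain ⟨n, c, hc⟩ := IsPurelyInseparable.pow_mem k₀ qq (⟨x, hx⟩ : L)
    refine ⟨n, algebraMap k₀ k₀⟮u⟯ c, ?_⟩
    rw [← IsScalarTower.algebraMap_apply]
    exact congrArg Subtype.val hc
  obtain ⟨c, hc⟩ := IsPurelyInseparable.inseparable k₀⟮u⟯ (⟨a, haK⟩ : K')
    (IsSeparable.of_algHom (f := K'.val) ha)
  have : (c : Ω) = a := congrArg Subtype.val hc
  exact this ▸ c.2

theorem adjoin_toSubfield {k E : Type u} [Field k] [Field E] [Algebra k E] (S : Set E) :
    (adjoin k S).toSubfield = Subfield.closure (Set.range (algebraMap k E) ∪ S) := rfl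

/-- The pencil argument: `k₀(ξ)` is separably closed in `Ω`. -/
theorem pencil [Infinite k₀] [Algebra.EssFiniteType k₀ Ω]
    (hk₀ : ∀ a : Ω, IsSeparable k₀ a → a ∈ Set.range (algebraMap k₀ Ω))
    (ξ η : Ω) (hind : AlgebraicIndependent k₀ ![ξ, η]) (T : ℕ → k₀) (hT : Function.Injective T)
    (σ : ℕ → Ω ≃+* Ω) (hσk : ∀ j, (σ j) '' Set.range (algebraMap k₀ Ω) = Set.range (algebraMap k₀ Ω))
    (hσξ : ∀ j, σ j ξ = ξ + T j • η) (a : Ω) (ha : IsSeparable k₀⟮ξ⟯ a) : a ∈ k₀⟮ξ⟯ := by
  classical
  let u : ℕ → Ω := fun j => ξ + T j • η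
  let E : IntermediateField k₀ Ω := adjoin k₀ {ξ, η}
  let S : ∀ j, IntermediateField k₀⟮u j⟯ Ω := fun j => separableClosure k₀⟮u j⟯ Ω
  let M : ℕ → IntermediateField E Ω := fun j => adjoin E (S j : Set Ω)
  let C := separableClosure E Ω
  have hu : ∀ j, u j ∈ E := fun j =>
    add_mem (subset_adjoin _ _ (by simp)) (E.smul_mem (subset_adjoin _ _ (by simp)))
  have hMC : ∀ j, M j ≤ C := fun j => adjoin_le_iff.mpr fun x hx => by
    have hle : k₀⟮u j⟯ ≤ E := adjoin_simple_le_iff.mpr (hu j)
    let _ : Algebra k₀⟮u j⟯ E := (inclusion hle).toRingHom.toAlgebra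
    have : IsScalarTower k₀⟮u j⟯ E Ω := .of_algebraMap_eq fun y => rfl
    exact mem_separableClosure_iff.mpr ((mem_separableClosure_iff.mp hx).tower_top E)
  have : Algebra.EssFiniteType E Ω := Algebra.EssFiniteType.of_comp k₀ E Ω
  have := finite_algebraicClosure E Ω
  have hCle : C ≤ algebraicClosure E Ω := fun x hx =>
    mem_algebraicClosure_iff.mpr ((mem_separableClosure_iff.mp hx).isIntegral.isAlgebraic)
  have : FiniteDimensional E C :=
    Module.Finite.of_injective (inclusion hCle).toLinearMap (inclusion_injective hCle)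
  have : Finite (IntermediateField E C) :=
    (Field.exists_primitive_element_iff_finite_intermediateField E C).mp
      ⟨inferInstance, Field.exists_primitive_element E C⟩
  obtain ⟨i, j, hij, hMij⟩ := Finite.exists_ne_map_eq_of_infinite fun j => IntermediateField.restrict (hMC j)
  have hMeq : M i = M j := by
    have := congrArg IntermediateField.lift hMij
    rwa [lift_restrict, lift_restrict] at this
  -- generators
  have hTne : T i - T j ≠ 0 := sub_ne_zero.mpr fun h => hij (hT h)
  have hηmem : ∀ F : IntermediateField k₀ Ω, u i ∈ F → u j ∈ F → E ≤ F := fun F hi hj => by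
    have hη : η ∈ F := by
      have h1 : (T i - T j) • η ∈ F := by
        rw [sub_smul, show T i • η - T j • η = u i - u j by simp only [u]; ring]
        exact sub_mem hi hj
      have h2 := F.smul_mem (x := (T i - T j)⁻¹) h1
      rwa [smul_smul, inv_mul_cancel₀ hTne, one_smul] at h2
    refine adjoin_le_iff.mpr ?_
    rintro x (rfl | rfl)
    · have h2 := sub_mem hi (F.smul_mem (x := T i) hη)
      simpa [u] using h2
    · exact hη
  have hMle : ∀ (l : ℕ) (F : IntermediateField k₀ Ω), E ≤ F → (∀ x ∈ S l, x ∈ F) →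
      ∀ x ∈ M l, x ∈ F := by
    intro l F hE hS x hx
    have : (M l).toSubfield ≤ F.toSubfield := by
      rw [adjoin_toSubfield, Subfield.closure_le]
      rintro y (⟨z, rfl⟩ | hy)
      · exact hE z.2
      · exact hS y hy
    exact this hx
  let G := (S j).restrictScalars k₀
  have huj : u j ∈ S j := (S j).algebraMap_mem (⟨u j, mem_adjoin_simple_self k₀ _⟩ : k₀⟮u j⟯)
  have hui : u i ∈ S i := (S i).algebraMap_mem (⟨u i, mem_adjoin_simple_self k₀ _⟩ : k₀⟮u i⟯)
  have hind' : AlgebraicIndependent k₀ ![u i, u j] := by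
    have halg : Algebra.IsAlgebraic (Algebra.adjoin k₀ (Set.range ![u i, u j])) (Algebra.adjoin k₀ (Set.range ![u i, u j])) :=
      inferInstance
    let φ : MvPolynomial (Fin 2) k₀ →ₐ[k₀] MvPolynomial (Fin 2) k₀ :=
      MvPolynomial.aeval ![MvPolynomial.X 0 + MvPolynomial.C (T i) * MvPolynomial.X 1,
        MvPolynomial.X 0 + MvPolynomial.C (T j) * MvPolynomial.X 1]
    let ψ : MvPolynomial (Fin 2) k₀ →ₐ[k₀] MvPolynomial (Fin 2) k₀ :=
      MvPolynomial.aeval ![MvPolynomial.C (T i - T j)⁻¹ *
          (MvPolynomial.C (T i) * MvPolynomial.X 1 - MvPolynomial.C (T j) * MvPolynomial.X 0),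
        MvPolynomial.C (T i - T j)⁻¹ * (MvPolynomial.X 0 - MvPolynomial.X 1)]
    have hψφ : ψ.comp φ = AlgHom.id k₀ _ := by
      refine MvPolynomial.algHom_ext fun l => ?_
      have hc : (MvPolynomial.C (T i - T j)⁻¹ : MvPolynomial (Fin 2) k₀) *
          (MvPolynomial.C (T i) - MvPolynomial.C (T j)) = 1 := by
        rw [← map_sub, ← map_mul, inv_mul_cancel₀ hTne, map_one]
      fin_cases l
      · simp [φ, ψ, -map_sub]
        linear_combination MvPolynomial.X 0 * hc
      · simp [φ, ψ, -map_sub]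
        linear_combination MvPolynomial.X 1 * hc
    have hφ : Function.Injective φ := fun x y h => by
      rw [← AlgHom.id_apply (R := k₀) x, ← AlgHom.id_apply (R := k₀) y, ← hψφ]
      exact congrArg ψ h
    show Function.Injective (MvPolynomial.aeval ![u i, u j])
    rw [show MvPolynomial.aeval ![u i, u j] = (MvPolynomial.aeval ![ξ, η]).comp φ from
      MvPolynomial.algHom_ext fun l => by fin_cases l <;> simp [φ, u, Algebra.smul_def]]
    rw [AlgHom.coe_comp]
    exact Function.Injective.comp hind hφ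
  have hTi : IsScalarTower k₀ (S i) Ω := .of_algebraMap_eq fun x => rfl
  have hTG : IsScalarTower k₀ G Ω := .of_algebraMap_eq fun x => rfl
  have key : ∀ x ∈ S i, x ∈ k₀⟮u i⟯ := fun x hx => by
    refine specialise hk₀ (u i) (u j) hind' G
      (fun b hb => (mem_separableClosure_iff.mp hb).isIntegral.isAlgebraic) x
      (mem_separableClosure_iff.mp hx) ?_ fun b hb => ?_
    · let F : IntermediateField k₀ Ω := (adjoin G ({u i} : Set Ω)).restrictScalars k₀
      have hS : ∀ y ∈ S j, y ∈ F := fun y hy =>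
        show y ∈ adjoin G ({u i} : Set Ω) from
          (adjoin G ({u i} : Set Ω)).algebraMap_mem (⟨y, hy⟩ : G)
      exact hMle j F (hηmem F (subset_adjoin G ({u i} : Set Ω) (Set.mem_singleton _)) (hS _ huj)) hS x
        (hMeq ▸ subset_adjoin E _ hx)
    · let F : IntermediateField k₀ Ω := (adjoin (S i) ({u j} : Set Ω)).restrictScalars k₀
      have hS : ∀ y ∈ S i, y ∈ F := fun y hy =>
        show y ∈ adjoin (S i) ({u j} : Set Ω) from
          (adjoin (S i) ({u j} : Set Ω)).algebraMap_mem (⟨y, hy⟩ : S i)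
      exact hMle i F (hηmem F (hS _ hui) (subset_adjoin (S i) ({u j} : Set Ω) (Set.mem_singleton _))) hS b
        (hMeq.symm ▸ subset_adjoin E _ hb)
  -- transport along `σ i`
  have hmap : (k₀⟮ξ⟯.toSubfield).map (σ i).toRingHom = k₀⟮u i⟯.toSubfield := by
    rw [adjoin_toSubfield, adjoin_toSubfield, RingHom.map_field_closure, Set.image_union,
      Set.image_singleton]
    show Subfield.closure ((σ i) '' _ ∪ {σ i ξ}) = _
    rw [hσk, hσξ]
  have hin : ∀ y : k₀⟮ξ⟯, σ i y ∈ k₀⟮u i⟯ := fun y =>
    hmap.le ⟨y, y.2, rfl⟩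
  let e : k₀⟮ξ⟯ →+* k₀⟮u i⟯ := ((σ i).toRingHom.comp (algebraMap k₀⟮ξ⟯ Ω)).codRestrict _ hin
  have hσa : σ i a ∈ S i := by
    refine mem_separableClosure_iff.mpr ?_
    refine Polynomial.Separable.of_dvd (Polynomial.Separable.map ha (f := e)) (minpoly.dvd _ _ ?_)
    rw [aeval_def, eval₂_map,
      show (algebraMap k₀⟮u i⟯ Ω).comp e = (σ i).toRingHom.comp (algebraMap k₀⟮ξ⟯ Ω) from rfl]
    have h0 := congrArg (σ i).toRingHom (minpoly.aeval k₀⟮ξ⟯ a)
    rw [aeval_def, map_zero, hom_eval₂] at h0
    exact h0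
  obtain ⟨b, hb, hba⟩ := hmap.ge (key _ hσa)
  exact (σ i).injective hba ▸ hb

end Groth.FlatmorThree.Pencil
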