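import Groth.Agent.FlatmorThree.AmpleFamily
import Groth.Agent.Chow.QcohExtend
import Groth.Agent.HilbStab.Mult
import Groth.Agent.KTheory.LocFree
import Groth.Agent.LocFree.Basic
import Groth.Prelude.Def_PerfAux

/-!
An ample family gives the resolution property.
-/

universe u

open CategoryTheory CategoryTheory.Limits AlgebraicGeometry Opposite TopologicalSpace

set_option backward.isDefEq.respectTransparency.types false

namespace Groth.FlatmorThree.ResProp

open Groth.PicAux Groth.PropsBasic.Ample Groth.Chow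

variable {X : Scheme.{u}} {L : X.Modules}

/-- On a quasi-compact scheme with affine diagonal a section of a quasi-coherent module on `X_s` extends after
tensoring with a large power of `s`. -/
theorem exists_extend_of_affineDiag [CompactSpace X] [IsAffineHom (pullback.diagonal (terminal.from X))] (F : X.Modules) [F.IsQuasicoherent]
    (hL : PicF.IsInvertible L) (s : Γ(L, ⊤)) (σ : Γ(F, gloc s)) :
    ∃ k₀ : ℕ, ∀ k, k₀ ≤ k → ∃ b : Γ(CohB1.tensorMod F (CohB1.tensorPow L k), ⊤),
      res _ le_top b = tmulSec σ (powSec (res L (le_top : gloc s ≤ ⊤) s) k) := by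
  classical
  obtain ⟨U₁, e₁, hU₁, -, he₁, hcov₁⟩ := PropsBasic.Ample.exists_gen_cover hL
  obtain ⟨t, ht⟩ := isCompact_univ.elim_finite_subcover (fun x => (U₁ x : Set X))
    (fun x => (U₁ x).isOpen) (fun x _ => by
      simpa using Opens.mem_iSup.1 (hcov₁.ge (trivial : x ∈ (⊤ : X.Opens))))
  let U : t → X.Opens := fun i => U₁ i
  have hU : ∀ i, IsAffineOpen (U i) := fun i => hU₁ i
  let e : ∀ i, Γ(L, U i) := fun i => e₁ i
  have he : ∀ i, Gen L (U i) (e i) := fun i => he₁ i
  have hcov : (⊤ : X.Opens) ≤ iSup U := fun x _ => by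
    obtain ⟨i, hi⟩ := Set.mem_iUnion₂.1 (ht (Set.mem_univ x))
    exact Opens.mem_iSup.2 ⟨⟨i, hi.1⟩, hi.2⟩
  choose c hc using fun i => (he i).exists_coeff le_rfl (res L le_top s)
  replace hc : ∀ i, res L (le_top : U i ≤ ⊤) s = c i • e i := fun i => by simpa using hc i
  have hD : ∀ i, gloc s ⊓ U i = X.basicOpen (c i) := fun i => gloc_inf_eq_basicOpen (he i) (hc i)
  have hDs : ∀ i, X.basicOpen (c i) ≤ gloc s := fun i => (hD i).ge.trans inf_le_left
  -- on each chart
  have hloc : ∀ i, ∃ (n : ℕ) (a : Γ(F, U i)), res F (X.basicOpen_le (c i)) a =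
      resX X (X.basicOpen_le (c i)) (c i) ^ n • res F (hDs i) σ := fun i =>
    Groth.QCohMod.exists_pow_smul_eq_res F (hU i) (c i) _
  choose n a ha using hloc
  obtain ⟨N, hN⟩ : ∃ N, ∀ i, n i ≤ N :=
    ⟨Finset.univ.sup n, fun i => Finset.le_sup (Finset.mem_univ i)⟩
  let a' : ∀ i, Γ(F, U i) := fun i => c i ^ (N - n i) • a i
  have ha' : ∀ i, res F (X.basicOpen_le (c i)) (a' i) =
      resX X (X.basicOpen_le (c i)) (c i) ^ N • res F (hDs i) σ := by
    intro i
    rw [res_smul, map_pow, ha, ← mul_smul, ← pow_add, Nat.sub_add_cancel (hN i)]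
  -- comparison on overlaps
  choose u hu using fun i j : t =>
    (he i).exists_coeff (inf_le_left : U i ⊓ U j ≤ U i) (res L (inf_le_right : U i ⊓ U j ≤ U j) (e j))
  have hcu : ∀ i j, resX X (inf_le_left : U i ⊓ U j ≤ U i) (c i) =
      resX X (inf_le_right : U i ⊓ U j ≤ U j) (c j) * u i j := by
    intro i j
    refine (he i).smul_inj inf_le_left ?_
    have h1 := congrArg (res L (inf_le_left : U i ⊓ U j ≤ U i)) (hc i)
    have h2 := congrArg (res L (inf_le_right : U i ⊓ U j ≤ U j)) (hc j)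
    simp only [res_smul, res_res] at h1 h2
    rw [mul_smul, ← hu, ← h1, ← h2]
  have hM : ∀ i j, ∃ m : ℕ, resX X (inf_le_left : U i ⊓ U j ≤ U i) (c i) ^ m •
      (res F (inf_le_left : U i ⊓ U j ≤ U i) (a' i) -
        u i j ^ N • res F (inf_le_right : U i ⊓ U j ≤ U j) (a' j)) = 0 := by
    intro i j
    have hle1 : X.basicOpen (resX X (inf_le_left : U i ⊓ U j ≤ U i) (c i)) ≤ X.basicOpen (c i) :=
      (X.basicOpen_res (c i) (homOfLE (inf_le_left : U i ⊓ U j ≤ U i)).op).le.trans inf_le_right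
    have hle2 : X.basicOpen (resX X (inf_le_left : U i ⊓ U j ≤ U i) (c i)) ≤ X.basicOpen (c j) := by
      rw [← hD j]
      exact le_inf (hle1.trans (hDs i)) ((X.basicOpen_le _).trans inf_le_right)
    have hij : IsAffineOpen (U i ⊓ U j) := (hU i).inf (hU j)
    refine Groth.QCohMod.exists_pow_smul_eq_zero F hij _ _ ?_
    change res F (X.basicOpen_le _) _ = 0
    have h1 := congrArg (res F hle1) (ha' i)
    have h2 := congrArg (res F hle2) (ha' j)
    simp only [res_smul, res_res, map_pow, resX_resX] at h1 h2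
    have h3 := congrArg (resX X (X.basicOpen_le (resX X (inf_le_left : U i ⊓ U j ≤ U i) (c i))))
      (hcu i j)
    simp only [map_mul, resX_resX] at h3
    rw [show ∀ {A B : X.Opens} (h : B ≤ A) (p q : Γ(F, A)), res F h (p - q) = res F h p - res F h q from
      fun h p q => map_sub (F.presheaf.map _).hom p q]
    simp only [res_smul, res_res, map_pow]
    rw [h1, h2, h3, ← mul_smul, mul_pow, mul_comm, sub_self]
  choose m hm using hM
  obtain ⟨K₀, hK₀⟩ : ∃ K, ∀ i j, m i j ≤ K :=
    ⟨Finset.univ.sup fun p : t × t => m p.1 p.2, fun i j =>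
      Finset.le_sup (f := fun p : t × t => m p.1 p.2) (Finset.mem_univ (i, j))⟩
  refine ⟨N + K₀, fun k hk => ?_⟩
  obtain ⟨d, rfl⟩ := Nat.exists_eq_add_of_le hk
  have hK : ∀ i j, m i j ≤ K₀ + d := fun i j => (hK₀ i j).trans (Nat.le_add_right _ _)
  rw [show N + K₀ + d = N + (K₀ + d) by ring]
  generalize K₀ + d = K at hK ⊢
  -- gluing
  obtain ⟨b, hb, -⟩ := res_glue (M := CohB1.tensorMod F (CohB1.tensorPow L (N + K))) U (fun _ => le_top)
    hcov (fun i => tmulSec (c i ^ K • a' i) (powSec (e i) (N + K))) (fun i j => by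
      simp only [res_smul, res_tmulSec, res_powSec, hu, powSec_smul, tmulSec_smul_right, map_pow]
      rw [← tmulSec_smul_left]
      congr 1
      have h1 := hm i j
      have h2 : resX X (inf_le_left : U i ⊓ U j ≤ U i) (c i) ^ K •
          (res F (inf_le_left : U i ⊓ U j ≤ U i) (a' i) -
            u i j ^ N • res F (inf_le_right : U i ⊓ U j ≤ U j) (a' j)) = 0 := by
        rw [← Nat.sub_add_cancel (hK i j), pow_add, mul_smul, h1, smul_zero]
      rw [smul_sub, sub_eq_zero] at h2
      rw [h2, hcu, ← mul_smul, ← mul_smul, mul_pow, pow_add]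
      congr 1
      ring)
  refine ⟨b, res_ext (fun i => X.basicOpen (c i)) hDs (fun x hx => ?_) fun i => ?_⟩
  · obtain ⟨i, hi⟩ := Opens.mem_iSup.1 (hcov (trivial : x ∈ (⊤ : X.Opens)))
    exact Opens.mem_iSup.2 ⟨i, (hD i).le ⟨hx, hi⟩⟩
  · have h1 := congrArg (res _ (X.basicOpen_le (c i))) (hb i)
    simp only [res_smul, res_tmulSec, res_powSec, res_res] at h1
    have h2 := congrArg (res L (X.basicOpen_le (c i))) (hc i)
    simp only [res_smul, res_res] at h2
    simp only [res_tmulSec, res_powSec, res_res]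
    rw [h1, h2, powSec_smul, tmulSec_smul_right, ← tmulSec_smul_left, map_pow, ha', ← mul_smul,
      ← pow_add, add_comm K N]

/-- a finite coproduct of finite locally free modules is finite locally free -/
theorem isFinLocFree_sigma_finite (α : Type) [Finite α] (N : α → X.Modules)
    (h : ∀ a, FlatMod.IsFinLocFree (N a)) : FlatMod.IsFinLocFree (∐ N) := by
  refine Finite.induction_empty_option
    (P := fun α => ∀ N : α → X.Modules, (∀ a, FlatMod.IsFinLocFree (N a)) →
      FlatMod.IsFinLocFree (∐ N)) ?_ ?_ ?_ α N h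
  · intro α β e hα N hN
    exact Groth.KTheory.LocFree.isFinLocFree_of_iso (Sigma.reindex e N) (hα _ fun a => hN (e a))
  · intro N _
    refine Groth.KTheory.LocFree.isFinLocFree_zero ?_
    rw [IsZero.iff_id_eq_zero]
    exact Sigma.hom_ext _ _ fun i => i.elim
  · intro α _ hα N hN
    let M := fun a : α => N (some a)
    let e : N none ⊞ (∐ M) ≅ ∐ N :=
      { hom := biprod.desc (Sigma.ι N none) (Sigma.desc fun a => Sigma.ι N (some a))
        inv := Sigma.desc fun a =>
          match a with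
          | none => biprod.inl
          | some a => Sigma.ι M a ≫ biprod.inr
        hom_inv_id := by
          refine biprod.hom_ext' _ _ (by simp) (Sigma.hom_ext _ _ fun a => by simp [M])
        inv_hom_id := by
          refine Sigma.hom_ext _ _ fun a => ?_
          cases a <;> simp [M] }
    exact Groth.KTheory.LocFree.isFinLocFree_of_iso e
      (Groth.KTheory.LocFree.isFinLocFree_biprod (hN none) (hα M fun a => hN (some a)))

theorem isFinLocFree_inv {S : Scheme.{u}} {M : S.Modules} (h : PicF.IsInvertible M) :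
    FlatMod.IsFinLocFree M := fun x =>
  (LocFree.isInvertible_iff_ofRank_one.1 h x).elim fun U hU => ⟨U, 1, hU⟩

/-- An ample family gives an affine diagonal. -/
theorem isAffineHom_diagonal_of_hasAmpleFamily (h : MoreMor.HasAmpleFamily X) :
    IsAffineHom (pullback.diagonal (terminal.from X)) := by
  choose L n s hL _ hx hs using h.2
  exact isAffineHom_diagonal_of_cover (terminal.from X)
    (fun y => CohB1.genLocus (CohB1.tensorPow (L y) (n y)) (s y)) hs
    (eq_top_iff.2 fun y _ => Opens.mem_iSup.2 ⟨y, hx y⟩)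
    (fun i j => isAffineOpen_gloc_inf (isInvertible_tensorPow (hL i) _) (s i) (hs j))

/-- The inverse of a module generated on `W` is generated on `W`. -/
theorem exists_gen_of_inverse {M Q : X.Modules} {W : X.Opens} {e : Γ(M, W)} (he : Gen M W e)
    (ε : CohB1.tensorMod Q M ≅ Coh.structureModule X) : ∃ q : Γ(Q, W), Gen Q W q := by
  have hb : ∀ (V : X.Opens) (hV : V ≤ W), Function.Bijective fun y : Γ(Q, V) => tmulSec y (res M hV e) :=
    fun V hV => Ega2Proj.tmulSec_bijective hV he
  obtain ⟨q, hq⟩ := (hb W le_rfl).2 (ε.inv.app W (oneSec X W))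
  refine ⟨q, fun V hV => ?_⟩
  rw [← (hb V hV).of_comp_iff']
  have hg := ((gen_oneSec (X := X) W).map ε.inv) V hV
  refine (congrArg Function.Bijective (funext fun r => ?_)).mpr hg
  simp only [Function.comp_apply]
  rw [tmulSec_smul_left, ← hq, res_self, res_tmulSec]

/-- Maps out of inverses of powers, one for each of finitely many spanning sections over an affine locus. -/
theorem exists_generators [CompactSpace X] [IsAffineHom (pullback.diagonal (terminal.from X))] (F : X.Modules)
    [F.IsQuasicoherent] (hF : CohB1.IsFT F) {P : X.Modules} (hP : PicF.IsInvertible P) (T : Γ(P, ⊤))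
    (hT : IsAffineOpen (gloc T)) :
    ∃ (Q : X.Modules) (m : ℕ) (ψ : Fin m → (Q ⟶ F)) (S : Set Γ(F, gloc T)), PicF.IsInvertible Q ∧
      LocSpan F (gloc T) S ∧ ∀ s ∈ S, ∃ (i : Fin m) (q : Γ(Q, gloc T)), (ψ i).app (gloc T) q = s := by
  classical
  obtain ⟨S, hS⟩ := exists_locSpan F hF hT
  choose k₀ hk₀ using fun g : Γ(F, gloc T) => exists_extend_of_affineDiag F hP T g
  let k := S.sup k₀
  have hPk := isInvertible_tensorPow hP k
  choose b hb using fun g : S => hk₀ g.1 k (Finset.le_sup g.2)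
  obtain ⟨Q, hQ, ⟨ε⟩⟩ := exists_inverse hPk
  let α : CohB1.tensorMod (CohB1.tensorMod F (CohB1.tensorPow P k)) Q ≅ F :=
    (exists_associator _ _ _).choose ≪≫
      PicGrp.tensorModIso (Iso.refl F) ((exists_braiding _ _).choose ≪≫ ε) ≪≫ SecTwist.unitorR F
  obtain ⟨U, e, hU, hxU, he, hcov⟩ := PropsBasic.Ample.exists_gen_cover hQ
  let W := gloc T
  have hgen := (gen_gloc T le_rfl).pow k
  obtain ⟨q, hq⟩ : ∃ q : Γ(Q, W), Gen Q W q := exists_gen_of_inverse hgen ε
  let eqv := (Finset.equivFin S)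
  let m₀ := fun g : S => HilbStab.mulSec (b g) Q ≫ (exists_braiding Q _).choose.hom ≫ α.hom
  refine ⟨Q, S.card, fun i => m₀ (eqv.symm i), _, hQ, (hS.tensor hgen).tensor hq |>.map α, ?_⟩
  rintro _ ⟨_, ⟨_, ⟨g, hg, rfl⟩, rfl⟩, rfl⟩
  refine ⟨eqv ⟨g, hg⟩, q, ?_⟩
  simp only [Equiv.symm_apply_apply, m₀, Scheme.Modules.Hom.comp_app, ConcreteCategory.comp_apply,
    HilbStab.mulSec_app]
  rw [(exists_braiding Q _).choose_spec]
  congr 2
  exact hb ⟨g, hg⟩

/-- An ample family gives the resolution property. -/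
theorem hasResolutionProperty (h : MoreMor.HasAmpleFamily X) : PerfAux.HasResolutionProperty X := by
  intro F hqc hF
  haveI := h.1
  haveI := isAffineHom_diagonal_of_hasAmpleFamily h
  haveI : F.IsQuasicoherent := hqc
  choose L n s hL hn hx hs using h.2
  obtain ⟨t, ht⟩ := isCompact_univ.elim_finite_subcover
    (fun x => (CohB1.genLocus (CohB1.tensorPow (L x) (n x)) (s x) : Set X))
    (fun x => Opens.isOpen _) (fun x _ => Set.mem_iUnion.2 ⟨x, hx x⟩)
  choose Q m ψ S hQ hS hSψ using fun x : t => exists_generators F hF (isInvertible_tensorPow (hL x.1) (n x.1))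
    (gsec (s x.1)) (by rw [← genLocus_eq_gloc]; exact hs x.1)
  let N := Fintype.card (Σ x : t, Fin (m x))
  let e : (Σ x : t, Fin (m x)) ≃ Fin N := Fintype.equivFin _
  let G : Fin N → X.Modules := fun i => Q (e.symm i).1
  refine ⟨∐ fun i : ULift.{u} (Fin N) => G i.down, Sigma.desc fun i => ψ (e.symm i.down).1 (e.symm i.down).2,
    ?_, ⟨fun {Z} a a' ha => ?_⟩⟩
  · exact Groth.KTheory.LocFree.isFinLocFree_of_iso (Sigma.reindex Equiv.ulift G).symm
      (isFinLocFree_sigma_finite (Fin N) G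
      fun i => isFinLocFree_inv (hQ _))
  have hψ : ∀ (x : t) (i : Fin (m x)), ψ x i ≫ a = ψ x i ≫ a' := fun x i => by
    have h1 := congrArg (Sigma.ι (fun i : ULift.{u} (Fin N) => G i.down) ⟨e ⟨x, i⟩⟩ ≫ ·) ha
    simp only [Sigma.ι_desc_assoc] at h1
    have key : ∀ p : Σ x : t, Fin (m x), p = ⟨x, i⟩ → ψ p.1 p.2 ≫ a = ψ p.1 p.2 ≫ a' →
        ψ x i ≫ a = ψ x i ≫ a' := fun p hp h2 => by
      subst hp
      exact h2
    exact key _ (e.symm_apply_apply _) h1
  refine hom_ext_cover (U := fun x : t => gloc (gsec (s x.1))) (top_le_iff.1 fun y _ => ?_) fun x V hV y => ?_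
  · obtain ⟨x, hx⟩ := Set.mem_iUnion₂.1 (ht (Set.mem_univ y))
    refine Opens.mem_iSup.2 ⟨⟨x, hx.1⟩, ?_⟩
    rw [← genLocus_eq_gloc]
    exact hx.2
  choose V' h1 h2 hy' hmem using hS x V hV y
  refine res_ext (fun z : V => V' z.1 z.2) (fun z => h1 z.1 z.2)
    (fun z hz => Opens.mem_iSup.2 ⟨⟨z, hz⟩, hy' z hz⟩) fun z => ?_
  rw [← app_res, ← app_res]
  have hm := hmem z.1 z.2
  generalize res F (h1 z.1 z.2) y = y' at hm ⊢
  induction hm using Submodule.span_induction with
  | mem w hw =>
    obtain ⟨g, hg, rfl⟩ := hw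
    obtain ⟨i, q, rfl⟩ := hSψ x g hg
    rw [← app_res (ψ x i)]
    have := congr(($(hψ x i)).app _ (res (Q x) (h2 z.1 z.2) q))
    simp only [Scheme.Modules.Hom.comp_app, ConcreteCategory.comp_apply] at this
    exact this
  | zero => rw [map_zero, map_zero]
  | add p p' _ _ hp hp' => rw [map_add, map_add, hp, hp']
  | smul r p _ hp => rw [Scheme.Modules.Hom.app_smul, Scheme.Modules.Hom.app_smul, hp]

end Groth.FlatmorThree.ResProp
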