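import Mathlib.FieldTheory.PurelyInseparable.PerfectClosure
import Mathlib.FieldTheory.IsAlgClosed.AlgebraicClosure
import Mathlib.RingTheory.Etale.Descent
import Mathlib.RingTheory.Smooth.Field
import Mathlib.RingTheory.Smooth.Locus
import Mathlib.RingTheory.TensorProduct.Quotient
import Mathlib.RingTheory.Localization.BaseChange
import Mathlib.RingTheory.Ideal.MinimalPrime.Localization
import Mathlib.RingTheory.Ideal.MinimalPrime.Noetherian
import Mathlib.RingTheory.Polynomial.Basic
import Mathlib.RingTheory.Nilpotent.Lemmas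
import Mathlib.Algebra.Category.Ring.Basic
import Mathlib.RingTheory.KrullDimension.Zero
import Mathlib.RingTheory.LocalProperties.Reduced
import Mathlib.RingTheory.Flat.FaithfullyFlat.Basic

/-!
# Generic smoothness after a finite purely inseparable extension

For an algebra of finite type `A` over a field `k` there are a finite purely inseparable extension
`k'` and an element `g` outside all minimal primes of `A` such that `(k' ⊗ A_g)_red` is smooth.
-/

universe u
open TensorProduct

namespace Groth.FlatmorThree.GenericSmooth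

lemma exists_finset_mem_range {k A P : Type u} [Field k] [CommRing A] [Algebra k A] [Field P]
    [Algebra k P] (x : P ⊗[k] A) :
    ∃ F : Finset P, ∀ k' : IntermediateField k P, ↑F ⊆ (k' : Set P) →
      x ∈ (Algebra.TensorProduct.map k'.val (AlgHom.id k A)).range := by
  classical
  induction x with
  | zero => exact ⟨∅, fun k' _ => zero_mem _⟩
  | tmul c a => exact ⟨{c}, fun k' h => ⟨(⟨c, h (by simp)⟩ : k') ⊗ₜ a, by simp⟩⟩
  | add x y hx hy =>
    obtain ⟨F, hF⟩ := hx
    obtain ⟨G, hG⟩ := hy
    exact ⟨F ∪ G, fun k' h => add_mem (hF k' fun z hz => h (by simp [Finset.mem_coe.mp hz]))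
      (hG k' fun z hz => h (by simp [Finset.mem_coe.mp hz]))⟩

lemma mem_minimalPrimes_mul {R : Type u} [CommRing R] {p : Ideal R} (hp : p ∈ minimalPrimes R)
    {x : R} (hx : x ∈ p) : ∃ y, ¬ IsNilpotent y ∧ IsNilpotent (x * y) := by
  have h := (Ideal.iUnion_minimalPrimes (I := (⊥ : Ideal R))).subset (Set.mem_biUnion hp hx)
  obtain ⟨y, hy, hxy⟩ := h
  exact ⟨y, fun h' => hy h', hxy⟩

lemma eq_zero_of_mul_eq_zero {R : Type u} [CommRing R] [IsReduced R] {b y : R}
    (hb : ∀ q ∈ minimalPrimes R, b ∉ q) (h : b * y = 0) : y = 0 := by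
  by_contra hy
  have hmem : b ∈ ⋃ q ∈ (⊥ : Ideal R).minimalPrimes, (q : Set R) := by
    rw [Ideal.iUnion_minimalPrimes]
    refine ⟨y, fun hr => hy (IsReduced.eq_zero y hr), ?_⟩
    rw [h]
    exact zero_mem _
  simp only [Set.mem_iUnion, SetLike.mem_coe, exists_prop] at hmem
  obtain ⟨q, hq, hbq⟩ := hmem
  exact hb q hq hbq

/-- A reduced algebra of finite type over a perfect field is smooth on a dense basic open. -/
lemma exists_smooth_away {P B : Type u} [Field P] [PerfectField P] [CommRing B] [Algebra P B]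
    [Algebra.FiniteType P B] [IsReduced B] :
    ∃ b : B, (∀ q ∈ minimalPrimes B, b ∉ q) ∧ Algebra.Smooth P (Localization.Away b) := by
  have : IsNoetherianRing B := Algebra.FiniteType.isNoetherianRing P B
  have : Algebra.FinitePresentation P B := Algebra.FinitePresentation.of_finiteType.mp inferInstance
  obtain ⟨J, hJ⟩ := (PrimeSpectrum.isClosed_iff_zeroLocus_ideal _).mp
    (Algebra.isOpen_smoothLocus (R := P) (A := B)).isClosed_compl
  have hfin : (minimalPrimes B).Finite := minimalPrimes.finite_of_isNoetherianRing B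
  have hnot : ∀ q ∈ minimalPrimes B, ¬ J ≤ q := by
    intro q hq hle
    have : q.IsPrime := hq.1.1
    have hsub : Subsingleton (PrimeSpectrum (Localization.AtPrime q)) :=
      IsLocalization.subsingleton_primeSpectrum_of_mem_minimalPrimes q hq _
    have : IsReduced (Localization.AtPrime q) := inferInstanceAs (IsReduced (Localization q.primeCompl))
    have hfield : IsField (Localization.AtPrime q) :=
      PrimeSpectrum.subsingleton_iff_isField_of_isReduced.mp hsub
    let := hfield.toField
    have hsm : Algebra.IsSmoothAt P q := Algebra.FormallySmooth.of_perfectField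
    have hmem : (⟨q, inferInstance⟩ : PrimeSpectrum B) ∈ PrimeSpectrum.zeroLocus (J : Set B) := hle
    rw [← hJ] at hmem
    exact hmem hsm
  have hun : ¬ (J : Set B) ⊆ ⋃ q ∈ (↑hfin.toFinset : Set (Ideal B)), ((id q : Ideal B) : Set B) := by
    rw [Ideal.subset_union_prime (f := id) ⊥ ⊥ (fun q hq _ _ => (hfin.mem_toFinset.mp hq).1.1)]
    rintro ⟨q, hq, hle⟩
    exact hnot q (hfin.mem_toFinset.mp hq) hle
  obtain ⟨b, hbJ, hb⟩ := Set.not_subset.mp hun
  simp only [Set.mem_iUnion, SetLike.mem_coe, exists_prop, not_exists, not_and,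
    Set.Finite.coe_toFinset, id_eq] at hb
  refine ⟨b, hb, ?_⟩
  rw [← Algebra.basicOpen_subset_smoothLocus_iff_smooth]
  intro x hx
  by_contra hns
  have h2 : x ∈ PrimeSpectrum.zeroLocus (J : Set B) := by
    rw [← hJ]
    exact hns
  exact hx (h2 hbJ)

/-- Smoothness of a basic open descends along an extension of the base field. -/
lemma smooth_away_of_baseChange {K P C₀ B : Type u} [Field K] [Field P] [Algebra K P]
    [CommRing C₀] [Algebra K C₀] [CommRing B] [Algebra P B] [Algebra.FiniteType P B]
    (e : P ⊗[K] C₀ ≃ₐ[P] B) (c : C₀) (b : B) (n : ℕ) (hn : 0 < n)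
    (hey : e ((1 : P) ⊗ₜ[K] c) = b ^ n) (hsm : Algebra.Smooth P (Localization.Away b)) :
    Algebra.Smooth K (Localization.Away c) := by
  have : Algebra.FinitePresentation P B :=
    have : IsNoetherianRing P := inferInstance
    Algebra.FinitePresentation.of_finiteType.mp inferInstance
  have hsmn : Algebra.Smooth P (Localization.Away (b ^ n)) := by
    rw [← Algebra.basicOpen_subset_smoothLocus_iff_smooth] at hsm ⊢
    rwa [PrimeSpectrum.basicOpen_pow _ _ hn]
  let algD : Algebra (P ⊗[K] C₀) (Localization.Away (b ^ n)) :=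
    ((algebraMap B (Localization.Away (b ^ n))).comp e.toRingHom).toAlgebra
  have : IsScalarTower P (P ⊗[K] C₀) (Localization.Away (b ^ n)) :=
    IsScalarTower.of_algebraMap_eq fun r => by
      show _ = algebraMap B (Localization.Away (b ^ n)) (e (algebraMap P (P ⊗[K] C₀) r))
      rw [e.commutes, ← IsScalarTower.algebraMap_apply]
  have hloc : IsLocalization ((Submonoid.powers c).map
      (Algebra.TensorProduct.includeRight (R := K) (A := P))) (Localization.Away (b ^ n)) := by
    have h0 := IsLocalization.isLocalization_of_base_ringEquiv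
      (Submonoid.powers (b ^ n)) (Localization.Away (b ^ n)) e.symm.toRingEquiv
    convert h0 using 1
    rw [Submonoid.map_powers, Submonoid.map_powers]
    congr 1
    show (1 : P) ⊗ₜ[K] c = e.symm (b ^ n)
    rw [← hey, AlgEquiv.symm_apply_apply]
    · rfl
  let E : P ⊗[K] Localization.Away c ≃ₐ[P] Localization.Away (b ^ n) :=
    IsLocalization.tensorProductEquivOfMapIncludeRight K P (Submonoid.powers c)
      (Localization.Away c) (Localization.Away (b ^ n))
  have : Algebra.Smooth P (P ⊗[K] Localization.Away c) := Algebra.Smooth.of_equiv E.symm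
  exact Algebra.Smooth.of_smooth_tensorProduct_of_faithfullyFlat P

variable {k A P : Type u} [Field k] [CommRing A] [Algebra k A] [Algebra.FiniteType k A]
  [Field P] [Algebra k P] [IsPurelyInseparable k P] [PerfectField P]

omit [IsPurelyInseparable k P] [PerfectField P] in
/-- Descending smoothness of a basic open of `(P ⊗ A)_red` to `K ⊂ P`. -/
theorem descend {K : Type u} [Field K] [Algebra k K] [Algebra K P] [IsScalarTower k K P]
    (x : P ⊗[k] A) (a : A) (n : ℕ) (hn : 0 < n) (hxn : x ^ n = (1 : P) ⊗ₜ[k] a)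
    (hsm : Algebra.Smooth P
      (Localization.Away (Ideal.Quotient.mk (nilradical (P ⊗[k] A)) x)))
    (s : Finset (P ⊗[k] A)) (hs : Ideal.span (s : Set (P ⊗[k] A)) = nilradical (P ⊗[k] A))
    (hgen : ∀ z ∈ s, z ∈ (Algebra.TensorProduct.map (IsScalarTower.toAlgHom k K P)
      (AlgHom.id k A)).range) :
    ∃ (C : CommRingCat.{u}) (_ : Algebra K C) (_ : IsReduced C) (_ : Algebra.Smooth K C)
      (π : K ⊗[k] Localization.Away a →ₐ[K] C),
      Function.Surjective π ∧ ∀ x, π x = 0 → IsNilpotent x := by
  let R := P ⊗[k] A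
  have : IsNoetherianRing R := Algebra.FiniteType.isNoetherianRing P R
  let N : Ideal R := nilradical R
  let B := R ⧸ N
  have hBred : IsReduced B :=
    (Ideal.isRadical_iff_quotient_reduced N).mp (Ideal.radical_isRadical _)
  have hBft : Algebra.FiniteType P B :=
    Algebra.FiniteType.of_surjective (Ideal.Quotient.mkₐ P N) Ideal.Quotient.mk_surjective
  let R' := K ⊗[k] A
  let θ : R' →ₐ[k] R := Algebra.TensorProduct.map (IsScalarTower.toAlgHom k K P) (AlgHom.id k A)
  have hθ : Function.Injective θ :=
    Module.Flat.rTensor_preserves_injective_linearMap (IsScalarTower.toAlgHom k K P).toLinearMap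
      (algebraMap K P).injective
  have hmap : (nilradical R').map θ = N := by
    apply le_antisymm
    · exact Ideal.map_le_iff_le_comap.mpr fun z hz =>
        mem_nilradical.mpr ((mem_nilradical.mp hz).map θ)
    · refine hs.ge.trans (Ideal.span_le.mpr ?_)
      intro z hz
      obtain ⟨w, hw⟩ := hgen z hz
      have hwnil : IsNilpotent w := by
        rw [← IsNilpotent.map_iff hθ]
        exact mem_nilradical.mp (by rw [show θ w = z from hw]; exact hs ▸ Ideal.subset_span hz)
      exact (show θ w = z from hw) ▸ Ideal.mem_map_of_mem θ (mem_nilradical.mpr hwnil)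
  let C₀ := R' ⧸ nilradical R'
  have hC₀red : IsReduced C₀ :=
    (Ideal.isRadical_iff_quotient_reduced _).mp (Ideal.radical_isRadical _)
  let gC : C₀ := Ideal.Quotient.mk _ ((1 : K) ⊗ₜ[k] a)
  let C := Localization.Away gC
  -- base change of `C₀` to `P`
  let e₀ : P ⊗[K] R' ≃ₐ[P] R := Algebra.TensorProduct.cancelBaseChange k K P P A
  have he₀ : ∀ z : K ⊗[k] A, e₀ ((1 : P) ⊗ₜ[K] z) = θ z := fun z => by
    induction z with
    | zero => simp
    | tmul c y =>
      show Algebra.TensorProduct.cancelBaseChange k K P P A _ = _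
      rw [Algebra.TensorProduct.cancelBaseChange_tmul, Algebra.smul_def, mul_one]
      rfl
    | add u v hu hv => simp only [TensorProduct.tmul_add, map_add, hu, hv]
  let e : P ⊗[K] C₀ ≃ₐ[P] B :=
    (Algebra.TensorProduct.tensorQuotientEquiv P R' P (nilradical R')).trans
      (Ideal.quotientEquivAlg _ N e₀ (by
        rw [← hmap]
        refine le_antisymm (Ideal.map_le_iff_le_comap.mpr fun z hz => ?_) ?_
        · rw [Ideal.mem_comap, ← he₀ z]
          exact Ideal.mem_map_of_mem _ (Ideal.mem_map_of_mem _ hz)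
        · refine Ideal.map_le_iff_le_comap.mpr (Ideal.map_le_iff_le_comap.mpr fun z hz => ?_)
          show e₀ ((1 : P) ⊗ₜ[K] z) ∈ Ideal.map θ (nilradical R')
          rw [he₀]
          exact Ideal.mem_map_of_mem θ hz))
  have hey : e ((1 : P) ⊗ₜ[K] gC) = Ideal.Quotient.mk N x ^ n := by
    rw [← map_pow, hxn]
    show Ideal.Quotient.mk N (e₀ ((1 : P) ⊗ₜ[K] ((1 : K) ⊗ₜ[k] a))) = _
    rw [he₀]
    show Ideal.Quotient.mk N (Algebra.TensorProduct.map _ _ _) = _
    rw [Algebra.TensorProduct.map_tmul, map_one]
    rfl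
  have hBfp : Algebra.FiniteType P B := hBft
  have hCsm : Algebra.Smooth K C := smooth_away_of_baseChange e gC _ n hn hey hsm
  have hCred : IsReduced C :=
    inferInstanceAs (IsReduced (Localization (Submonoid.powers gC)))
  -- the projection
  let R'' := K ⊗[k] Localization.Away a
  let ψ : R' →ₐ[K] R'' :=
    Algebra.TensorProduct.map (AlgHom.id K K) (IsScalarTower.toAlgHom k A (Localization.Away a))
  let algR : Algebra R' R'' := ψ.toRingHom.toAlgebra
  have : IsScalarTower K R' R'' := .of_algebraMap_eq fun c => (ψ.commutes c).symm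
  have hlocR : IsLocalization ((Submonoid.powers a).map
      (Algebra.TensorProduct.includeRight (R := k) (A := K))) R'' :=
    IsLocalization.tensorProduct_tensorProduct_right k K (Submonoid.powers a) (Localization.Away a)
      (RingHom.ext fun y => rfl)
  let φ : R' →ₐ[K] C :=
    (IsScalarTower.toAlgHom K C₀ C).comp (Ideal.Quotient.mkₐ K (nilradical R'))
  have hφu : ∀ m : (Submonoid.powers a).map
      (Algebra.TensorProduct.includeRight (R := k) (A := K)), IsUnit (φ m) := by
    rintro ⟨_, _, ⟨m, rfl⟩, rfl⟩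
    show IsUnit (φ (Algebra.TensorProduct.includeRight (a ^ m)))
    rw [map_pow, map_pow]
    exact (IsLocalization.Away.algebraMap_isUnit (S := C) gC).pow m
  let π : R'' →ₐ[K] C := IsLocalization.liftAlgHom hφu
  have hπ : ∀ z, π (algebraMap R' R'' z) = φ z := fun z => IsLocalization.lift_eq hφu z
  refine ⟨CommRingCat.of C, inferInstanceAs (Algebra K C), hCred, hCsm, π, fun c => ?_,
    fun z hz => ?_⟩
  · obtain ⟨⟨y, ⟨_, m, rfl⟩⟩, hy⟩ := IsLocalization.surj (Submonoid.powers gC) c
    obtain ⟨y, rfl⟩ := Ideal.Quotient.mk_surjective y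
    refine ⟨IsLocalization.mk' R'' y (⟨_, Submonoid.mem_map_of_mem _ ⟨m, rfl⟩⟩ :
      (Submonoid.powers a).map (Algebra.TensorProduct.includeRight (R := k) (A := K))), ?_⟩
    show IsLocalization.lift hφu _ = c
    rw [IsLocalization.lift_mk'_spec]
    show φ y = φ (Algebra.TensorProduct.includeRight (a ^ m)) * c
    rw [map_pow, map_pow, mul_comm]
    show algebraMap C₀ C (Ideal.Quotient.mk _ y) = c * algebraMap C₀ C gC ^ m
    rw [← map_pow]
    exact hy.symm
  · obtain ⟨⟨y, m⟩, hy⟩ := IsLocalization.surj ((Submonoid.powers a).map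
      (Algebra.TensorProduct.includeRight (R := k) (A := K))) z
    have h1 : φ y = 0 := by rw [← hπ, ← hy, map_mul, hz, zero_mul]
    obtain ⟨⟨_, j, rfl⟩, hj⟩ := (IsLocalization.map_eq_zero_iff (Submonoid.powers gC) C _).mp h1
    have h2 : IsNilpotent (((1 : K) ⊗ₜ[k] a) ^ j * y) := by
      refine mem_nilradical.mp (Ideal.Quotient.eq_zero_iff_mem.mp ?_)
      rw [map_mul, map_pow]
      exact hj
    have hu : IsUnit (algebraMap R' R'' (((1 : K) ⊗ₜ[k] a) ^ j)) := by
      rw [map_pow]
      exact (IsLocalization.map_units R''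
        (⟨_, Submonoid.mem_map_of_mem _ (Submonoid.mem_powers a)⟩ :
          (Submonoid.powers a).map (Algebra.TensorProduct.includeRight (R := k) (A := K)))).pow j
    have h3 : IsNilpotent (algebraMap R' R'' (((1 : K) ⊗ₜ[k] a) ^ j) * algebraMap R' R'' y) := by
      rw [← map_mul]
      exact h2.map _
    rw [← hy] at h3
    obtain ⟨i, hi⟩ := h3
    rw [mul_pow, mul_pow] at hi
    exact ⟨i, (IsUnit.mul_left_eq_zero ((IsLocalization.map_units R'' m).pow i)).mp
      ((IsUnit.mul_right_eq_zero (hu.pow i)).mp hi)⟩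

variable (k A P) in
/-- Descending the smooth locus of `(P ⊗ A)_red` to a finite subextension. -/
theorem exists_finite_smooth : ∃ g : A, (∀ p ∈ minimalPrimes A, g ∉ p) ∧
    ∃ k' : IntermediateField k P, FiniteDimensional k k' ∧ IsPurelyInseparable k k' ∧
      ∃ (C : CommRingCat.{u}) (_ : Algebra k' C) (_ : IsReduced C) (_ : Algebra.Smooth k' C)
        (π : k' ⊗[k] Localization.Away g →ₐ[k'] C),
        Function.Surjective π ∧ ∀ x, π x = 0 → IsNilpotent x := by
  classical
  let R := P ⊗[k] A
  have : IsNoetherianRing R := Algebra.FiniteType.isNoetherianRing P R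
  let N : Ideal R := nilradical R
  let B := R ⧸ N
  have hBred : IsReduced B :=
    (Ideal.isRadical_iff_quotient_reduced N).mp (Ideal.radical_isRadical _)
  have hBft : Algebra.FiniteType P B :=
    Algebra.FiniteType.of_surjective (Ideal.Quotient.mkₐ P N) Ideal.Quotient.mk_surjective
  obtain ⟨b, hb, hsm⟩ := exists_smooth_away (P := P) (B := B)
  obtain ⟨x, rfl⟩ := Ideal.Quotient.mk_surjective b
  obtain ⟨n, hn, a, ha⟩ := IsPurelyInseparable.exists_pow_mem_range_tensorProduct
    (Algebra.TensorProduct.comm k P A x)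
  have hxn : x ^ n = (1 : P) ⊗ₜ[k] a := by
    apply (Algebra.TensorProduct.comm k P A).injective
    rw [map_pow, ← ha]
    simp [Algebra.TensorProduct.algebraMap_apply]
  refine ⟨a, fun p hp hap => ?_, ?_⟩
  · obtain ⟨y, hy, hay⟩ := mem_minimalPrimes_mul hp hap
    let ι : A →ₐ[k] R := Algebra.TensorProduct.includeRight
    have h1 : Ideal.Quotient.mk N (ι (a * y)) = 0 :=
      Ideal.Quotient.eq_zero_iff_mem.mpr (mem_nilradical.mpr (hay.map ι))
    rw [map_mul, show ι a = x ^ n from hxn.symm, map_mul, map_pow] at h1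
    have h2 : ∀ (m : ℕ) (z : B), Ideal.Quotient.mk N x ^ m * z = 0 → z = 0 := by
      intro m
      induction m with
      | zero => intro z hz; simpa using hz
      | succ m ih =>
        intro z hz
        exact ih z (eq_zero_of_mul_eq_zero hb (by rwa [← mul_assoc, ← pow_succ']))
    have h3 : IsNilpotent (ι y) :=
      mem_nilradical.mp (Ideal.Quotient.eq_zero_iff_mem.mp (h2 n _ h1))
    exact hy ((IsNilpotent.map_iff (f := ι)
      (Algebra.TensorProduct.includeRight_injective (algebraMap k P).injective)).mp h3)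
  obtain ⟨s, hs⟩ := (IsNoetherian.noetherian N : N.FG)
  choose F hF using exists_finset_mem_range (k := k) (A := A) (P := P)
  obtain ⟨k', hk'⟩ : ∃ K : IntermediateField k P,
      K = IntermediateField.adjoin k (s.biUnion F : Set P) := ⟨_, rfl⟩
  have hfin : FiniteDimensional k k' := by
    rw [hk']
    exact IntermediateField.finiteDimensional_adjoin fun z _ =>
      (IsPurelyInseparable.isIntegral' k z)
  have hpi : IsPurelyInseparable k k' := IsPurelyInseparable.tower_bot k k' P
  refine ⟨k', hfin, hpi, descend (K := k') x a n hn hxn hsm s hs fun z hz => ?_⟩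
  exact hF z k' fun c hc => hk' ▸ IntermediateField.subset_adjoin k _
    (Finset.mem_coe.mpr (Finset.mem_biUnion.mpr ⟨z, hz, hc⟩))

/-- For `A` of finite type over a field, `(k' ⊗ A_g)_red` is smooth for some finite purely
inseparable `k'` and some `g` outside all minimal primes. -/
theorem exists_pi_smooth (k A : Type u) [Field k] [CommRing A] [Algebra k A]
    [Algebra.FiniteType k A] : ∃ g : A, (∀ p ∈ minimalPrimes A, g ∉ p) ∧
    ∃ (k' : Type u) (_ : Field k') (_ : Algebra k k') (_ : Module.Finite k k')
      (_ : IsPurelyInseparable k k') (C : CommRingCat.{u}) (_ : Algebra k' C) (_ : IsReduced C)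
      (_ : Algebra.Smooth k' C) (π : k' ⊗[k] Localization.Away g →ₐ[k'] C),
        Function.Surjective π ∧ ∀ x, π x = 0 → IsNilpotent x := by
  obtain ⟨g, hg, k', h1, h2, C, a1, a2, a3, π, hπ⟩ :=
    exists_finite_smooth k A (perfectClosure k (AlgebraicClosure k))
  exact ⟨g, hg, k', inferInstance, inferInstance, h1, h2, C, a1, a2, a3, π, hπ⟩

end Groth.FlatmorThree.GenericSmooth
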