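import Mathlib.RingTheory.Etale.Kaehler
import Mathlib.RingTheory.Unramified.Finite
import Mathlib.RingTheory.Extension.Cotangent.BaseChange
import Mathlib.RingTheory.Localization.Away.Basic

/-!
# Flat unramified algebras are formally étale

No finite presentation is needed: the base change of `H¹(L_{B/A})` along the flat map `A → B` is
killed by the idempotent cutting out the diagonal.
-/

universe u
open TensorProduct

namespace Groth.FlatmorThree

section

attribute [local instance] Algebra.TensorProduct.rightAlgebra

lemma tensorH1CotangentOfFlat_lTensor {R S T : Type u} [CommRing R] [CommRing S] [CommRing T]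
    [Algebra R S] [Algebra R T] [Module.Flat R T] (x : Algebra.H1Cotangent R S)
    (v : T ⊗[R] S) :
    Algebra.tensorH1CotangentOfFlat R S T
        (((LinearMap.toSpanSingleton S (Algebra.H1Cotangent R S) x).restrictScalars R).lTensor T v) =
      v • Algebra.tensorH1CotangentOfFlat R S T (1 ⊗ₜ x) := by
  induction v with
  | zero => simp
  | add a b ha hb => simp only [map_add, ha, hb, add_smul]
  | tmul t s =>
    rw [LinearMap.lTensor_tmul, LinearMap.restrictScalars_apply, LinearMap.toSpanSingleton_apply,
      Algebra.tensorH1CotangentOfFlat_tmul, Algebra.tensorH1CotangentOfFlat_tmul, one_smul,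
      map_smul, ← algebraMap_smul (T ⊗[R] S) s, ← algebraMap_smul (T ⊗[R] S) t, smul_smul,
      Algebra.TensorProduct.right_algebraMap_apply, Algebra.TensorProduct.algebraMap_apply,
      Algebra.TensorProduct.tmul_mul_tmul]
    simp

end

/-- A flat, formally unramified algebra of finite type is formally étale. -/
theorem formallyEtale_of_flat_of_formallyUnramified {A B : Type u} [CommRing A] [CommRing B]
    [Algebra A B] [Module.Flat A B] [Algebra.FormallyUnramified A B] [Algebra.FiniteType A B] :
    Algebra.FormallyEtale A B := by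
  obtain ⟨t, ht1, ht2⟩ :=
    (Algebra.FormallyUnramified.iff_exists_tensorProduct (R := A) (S := B)).mp inferInstance
  let μ : B ⊗[A] B →ₐ[A] B := Algebra.TensorProduct.lmul' A
  let : Algebra (B ⊗[A] B) B := μ.toRingHom.toAlgebra
  have : IsScalarTower B (B ⊗[A] B) B := .of_algebraMap_eq fun b => by
    show b = μ (b ⊗ₜ 1)
    simp [μ]
  have hker : ∀ x : B ⊗[A] B, μ x = 0 → x * t = 0 := by
    intro x hx
    have hle : KaehlerDifferential.ideal A B ≤ (Ideal.span {t}).annihilator := by
      rw [← KaehlerDifferential.span_range_eq_ideal, Ideal.span_le]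
      rintro _ ⟨s, rfl⟩
      exact (Submodule.mem_annihilator_span_singleton _ _).mpr (ht1 s)
    exact (Submodule.mem_annihilator_span_singleton _ _).mp (hle hx)
  have he : IsIdempotentElem t := by
    have := hker (1 - t) (by rw [map_sub, map_one, ht2, sub_self])
    rw [sub_mul, one_mul, sub_eq_zero] at this
    exact this.symm
  have hloc : IsLocalization.Away t B := by
    refine IsLocalization.away_of_isIdempotentElem he ?_ fun b => ⟨b ⊗ₜ 1, by
      show μ (b ⊗ₜ 1) = b
      simp [μ]⟩
    ext x
    rw [RingHom.mem_ker, Ideal.mem_span_singleton]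
    refine ⟨fun hx => ⟨x, ?_⟩, fun ⟨c, hc⟩ => ?_⟩
    · rw [sub_mul, one_mul, mul_comm t, hker x hx, sub_zero]
    · show μ x = 0
      rw [hc, map_mul, map_sub, map_one, ht2, sub_self, zero_mul]
  have hkill : ∀ y : Algebra.H1Cotangent B (B ⊗[A] B), t • y = 0 := by
    intro y
    obtain ⟨⟨_, n, rfl⟩, hn⟩ := (IsLocalizedModule.eq_iff_exists (Submonoid.powers t)
      (Algebra.H1Cotangent.map B B (B ⊗[A] B) B) (x₁ := y) (x₂ := 0)).mp
        (Subsingleton.elim _ _)
    rw [smul_zero] at hn
    replace hn : t ^ n • y = 0 := hn
    rcases n with _ | n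
    · rw [pow_zero, one_smul] at hn
      rw [hn, smul_zero]
    · rwa [he.pow_succ_eq] at hn
  have hsub : Subsingleton (Algebra.H1Cotangent A B) := by
    refine subsingleton_of_forall_eq 0 fun x => ?_
    let l := (LinearMap.toSpanSingleton B (Algebra.H1Cotangent A B) x).restrictScalars A
    have h1 : l.lTensor B t = 0 := by
      refine (Algebra.tensorH1CotangentOfFlat A B B).injective ?_
      rw [map_zero, tensorH1CotangentOfFlat_lTensor, hkill]
    let m : B ⊗[A] Algebra.H1Cotangent A B →ₗ[A] Algebra.H1Cotangent A B :=
      TensorProduct.lift ((LinearMap.lsmul B (Algebra.H1Cotangent A B)).restrictScalars₁₂ A A)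
    have h2 : ∀ u : B ⊗[A] B, m (l.lTensor B u) = μ u • x := by
      intro u
      induction u with
      | zero => simp
      | add a b ha hb => simp only [map_add, ha, hb, add_smul]
      | tmul a b => simp [m, l, μ, smul_smul, mul_comm b a]
    have h3 := h2 t
    rw [h1, map_zero, ht2, one_smul] at h3
    exact h3.symm
  have hΩ : Subsingleton (Ω[B⁄A]) :=
    (Algebra.formallyUnramified_iff A B).mp inferInstance
  have : Algebra.FormallySmooth A B := ⟨inferInstance, hsub⟩
  exact Algebra.FormallyEtale.of_formallyUnramified_and_formallySmooth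

end Groth.FlatmorThree
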