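import Groth.Agent.FlatmorThree.NLComplex
import Groth.Agent.Hensel1.Transfer
import Groth.Agent.EtaleAlgebra.HensEtale
import Mathlib.Algebra.Homology.Refinements
import Mathlib.RingTheory.Etale.Kaehler

/-!
The naive cotangent complex and (strict) henselisation.

A formally étale flat algebra over `B` which lifts along a presentation `P → B` does not change
`H⁻¹`; henselisations lift, being henselisations of a quotient.
-/

set_option autoImplicit false
universe u

open CategoryTheory TensorProduct IsLocalRing

namespace Groth.FlatmorThree.NLHens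

section Hens

open Groth.Hensel1

/-- A quotient of a henselian local ring is henselian. -/
theorem henselianLocalRing_of_surjective {S T : Type u} [CommRing S] [HenselianLocalRing S] [CommRing T]
    [IsLocalRing T] (π : S →+* T) (hπ : Function.Surjective π) : HenselianLocalRing T where
  is_henselian f hf a₀ h₁ h₂ := by
    have := IsLocalHom.of_surjective π hπ
    obtain ⟨F, hF, -, hFm⟩ := Polynomial.lifts_and_natDegree_eq_and_monic
      ((Polynomial.mem_lifts _).mpr (Polynomial.map_surjective π hπ f)) hf
    obtain ⟨b, rfl⟩ := hπ a₀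
    subst hF
    obtain ⟨a, ha, ha'⟩ := HenselianLocalRing.is_henselian F hFm b
      (by
        rw [mem_maximalIdeal, mem_nonunits_iff] at h₁ ⊢
        intro hu
        exact h₁ (by rw [Polynomial.eval_map_apply]; exact hu.map π))
      (isUnit_of_map_unit π _ (by rw [← Polynomial.eval_map_apply, ← Polynomial.derivative_map]; exact h₂))
    refine ⟨π a, by rw [Polynomial.IsRoot, Polynomial.eval_map_apply, ha.eq_zero, map_zero], ?_⟩
    rw [← map_sub]
    rw [mem_maximalIdeal, mem_nonunits_iff] at ha' ⊢
    exact fun hu => ha' (isUnit_of_map_unit π _ hu)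

/-- `Hens R Ω` modulo the kernel of a surjection `R → B` of local rings is `Hens B Ω`. -/
theorem exists_lift_local {R B : Type u} [CommRing R] [IsLocalRing R] [CommRing B] [IsLocalRing B]
    [Algebra R B] (hsurj : Function.Surjective (algebraMap R B)) {Ω : Type u} [Field Ω] [Algebra B Ω]
    [Algebra R Ω] [IsScalarTower R B Ω] [Algebra (ResidueField B) Ω] [IsScalarTower B (ResidueField B) Ω]
    [Algebra.IsSeparable (ResidueField B) Ω]
    [Algebra (ResidueField R) Ω] [IsScalarTower R (ResidueField R) Ω]
    [Algebra.IsSeparable (ResidueField R) Ω] [Algebra R (Hens B Ω)] [IsScalarTower R B (Hens B Ω)] :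
    ∃ ψ : Hens R Ω →ₐ[R] Hens B Ω, Function.Surjective ψ ∧
      RingHom.ker ψ = (RingHom.ker (algebraMap R B)).map (algebraMap R (Hens R Ω)) := by
  let S := Hens R Ω
  let H := Hens B Ω
  let eH := RingEquiv.ofBijective _ (Hens.residuePt_bijective (R := B) (Ω := Ω))
  let eS := RingEquiv.ofBijective _ (Hens.residuePt_bijective (R := R) (Ω := Ω))
  obtain ⟨ψ, hψ, -⟩ := Hens.existsUnique_lift (R := R) (Ω := Ω) (T := H) eH.symm.toRingHom fun r => by
    apply eH.injective
    show eH (eH.symm (algebraMap R Ω r)) = _
    rw [RingEquiv.apply_symm_apply]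
    show _ = Hens.pt (algebraMap R H r)
    rw [IsScalarTower.algebraMap_apply R B H, AlgHom.commutes, ← IsScalarTower.algebraMap_apply]
  have hψpt : ∀ x, Hens.pt (ψ x) = Hens.pt x := fun x => by
    have := congrArg eH (hψ x)
    rwa [show eH (eH.symm.toRingHom (Hens.pt x)) = Hens.pt x from eH.apply_symm_apply _] at this
  let J : Ideal S := (RingHom.ker (algebraMap R B)).map (algebraMap R S)
  have hJ : J ≤ maximalIdeal S := by
    refine (Ideal.map_mono (le_maximalIdeal (RingHom.ker_ne_top _))).trans ?_
    exact (Hens.map_maximalIdeal (R := R) (Ω := Ω)).le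
  have : Nontrivial (S ⧸ J) := Ideal.Quotient.nontrivial_iff.mpr fun h =>
    (maximalIdeal.isMaximal S).ne_top (top_le_iff.mp (h ▸ hJ))
  have : IsLocalRing (S ⧸ J) := IsLocalRing.of_surjective' (Ideal.Quotient.mk J) Ideal.Quotient.mk_surjective
  have : HenselianLocalRing (S ⧸ J) :=
    henselianLocalRing_of_surjective (Ideal.Quotient.mk J) Ideal.Quotient.mk_surjective
  have := IsLocalHom.of_surjective (Ideal.Quotient.mk J) Ideal.Quotient.mk_surjective
  have hJψ : J ≤ RingHom.ker ψ := Ideal.map_le_iff_le_comap.mpr fun r (hr : algebraMap R B r = 0) => by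
    show ψ (algebraMap R S r) = 0
    rw [AlgHom.commutes, IsScalarTower.algebraMap_apply R B H, hr, map_zero]
  let j : B →+* S ⧸ J := RingHom.liftOfSurjective (algebraMap R B) hsurj
    ⟨(Ideal.Quotient.mk J).comp (algebraMap R S), fun r hr =>
      Ideal.Quotient.eq_zero_iff_mem.mpr (Ideal.mem_map_of_mem _ hr)⟩
  let _ : Algebra B (S ⧸ J) := j.toAlgebra
  have hj : ∀ r, algebraMap B (S ⧸ J) (algebraMap R B r) = Ideal.Quotient.mk J (algebraMap R S r) := fun r =>
    RingHom.liftOfRightInverse_comp_apply (algebraMap R B) _ _ _ r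
  let τ : Ω →+* ResidueField (S ⧸ J) := (ResidueField.map (Ideal.Quotient.mk J)).comp eS.symm.toRingHom
  obtain ⟨φ, hφ, huniq⟩ := Hens.existsUnique_lift (R := B) (Ω := Ω) (T := S ⧸ J) τ fun b => by
    obtain ⟨r, rfl⟩ := hsurj b
    rw [hj, ← IsScalarTower.algebraMap_apply]
    show ResidueField.map (Ideal.Quotient.mk J) (eS.symm (algebraMap R Ω r)) = _
    have h1 : eS.symm (algebraMap R Ω r) = residue S (algebraMap R S r) := by
      rw [RingEquiv.symm_apply_eq]
      exact ((Hens.pt (R := R) (Ω := Ω)).commutes r).symm
    rw [h1]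
    rfl
  have hτ : ∀ x : S, τ (Hens.pt x) = residue (S ⧸ J) (Ideal.Quotient.mk J x) := fun x => by
    show ResidueField.map (Ideal.Quotient.mk J) (eS.symm (Hens.pt x)) = _
    have h1 : eS.symm (Hens.pt x) = residue S x := by
      rw [RingEquiv.symm_apply_eq]
      rfl
    rw [h1]
    rfl
  let φR : H →ₐ[R] S ⧸ J :=
    { φ.toRingHom with
      commutes' := fun r => by
        show φ (algebraMap R H r) = _
        rw [IsScalarTower.algebraMap_apply R B H, AlgHom.commutes, hj]
        rfl }
  have hφψ : φR.comp ψ = Ideal.Quotient.mkₐ R J := by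
    have hkey : ∀ x, residue (S ⧸ J) ((φR.comp ψ) x) = τ (Hens.pt x) := fun x => by
      show residue _ (φ (ψ x)) = _
      rw [hφ, hψpt]
    obtain ⟨g, -, hg⟩ := Hens.existsUnique_lift (R := R) (Ω := Ω) (T := S ⧸ J) τ fun r => by
      show τ (algebraMap R Ω r) = _
      rw [← (Hens.pt (R := R) (Ω := Ω)).commutes r, hτ]
      rfl
    exact (hg _ hkey).trans (hg (Ideal.Quotient.mkₐ R J) fun x => (hτ x).symm).symm
  have hψφ : ∀ h : H, (Ideal.Quotient.liftₐ J ψ fun a ha => hJψ ha) (φ h) = h := fun h => by
    let χ : H →ₐ[B] H :=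
      { (Ideal.Quotient.liftₐ J ψ fun a ha => hJψ ha).toRingHom.comp φ.toRingHom with
        commutes' := fun b => by
          obtain ⟨r, rfl⟩ := hsurj b
          show (Ideal.Quotient.liftₐ J ψ fun a ha => hJψ ha) (φ (algebraMap B H (algebraMap R B r))) = _
          rw [AlgHom.commutes, hj, ← IsScalarTower.algebraMap_apply R B H]
          exact ψ.commutes r }
    have hres : ∀ x, residue H (χ x) = eH.symm.toRingHom (Hens.pt x) := fun x => by
      obtain ⟨s, hs⟩ := Ideal.Quotient.mk_surjective (φ x)
      show residue H ((Ideal.Quotient.liftₐ J ψ fun a ha => hJψ ha) (φ x)) = _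
      rw [← hs]
      show residue H (ψ s) = _
      rw [hψ]
      congr 1
      apply τ.injective
      rw [hτ, hs, hφ]
    obtain ⟨g, -, hg⟩ := Hens.existsUnique_lift (R := B) (Ω := Ω) (T := H) eH.symm.toRingHom fun b => by
      apply eH.injective
      show eH (eH.symm (algebraMap B Ω b)) = _
      rw [RingEquiv.apply_symm_apply]
      exact ((Hens.pt (R := B) (Ω := Ω)).commutes b).symm
    have hid : ∀ x, residue H (AlgHom.id B H x) = eH.symm.toRingHom (Hens.pt x) := fun x =>
      (eH.symm_apply_apply (residue H x)).symm
    exact DFunLike.congr_fun ((hg χ hres).trans (hg _ hid).symm) h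
  refine ⟨ψ, fun h => ?_, le_antisymm (fun s hs => ?_) hJψ⟩
  · obtain ⟨s, hs⟩ := Ideal.Quotient.mk_surjective (φ h)
    refine ⟨s, ?_⟩
    have := hψφ h
    rw [← hs] at this
    exact this
  · have h1 := DFunLike.congr_fun hφψ s
    rw [RingHom.mem_ker] at hs
    simp only [AlgHom.comp_apply, hs, map_zero] at h1
    exact Ideal.Quotient.eq_zero_iff_mem.mp h1.symm

/-- A (strict) henselisation of `B` lifts to a flat formally étale algebra along a surjection `P → B`. -/
theorem exists_lift {P B Bh : Type u} [CommRing P] [CommRing B] [IsLocalRing B] [CommRing Bh] [IsLocalRing Bh]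
    [Algebra B Bh] [IsLocalHom (algebraMap B Bh)] (M : HensModel B Bh) [Algebra P B]
    (hπ : Function.Surjective (algebraMap P B)) :
    ∃ (S : Type u) (_ : CommRing S) (_ : Algebra P S) (ρ : S →+* Bh),
      Module.Flat P S ∧ Algebra.FormallyEtale P S ∧ Function.Surjective ρ ∧
      ρ.comp (algebraMap P S) = (algebraMap B Bh).comp (algebraMap P B) ∧
      RingHom.ker ρ = (RingHom.ker (algebraMap P B)).map (algebraMap P S) := by
  let m := (maximalIdeal B).comap (algebraMap P B)
  let R := Localization.AtPrime m
  let π : R →+* B := IsLocalization.lift (M := m.primeCompl) (g := algebraMap P B) fun y =>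
    not_not.mp fun h => y.2 (show algebraMap P B y.1 ∈ maximalIdeal B from h)
  let _ : Algebra R B := π.toAlgebra
  have : IsScalarTower P R B := IsScalarTower.of_algebraMap_eq fun p => (IsLocalization.lift_eq _ p).symm
  have hRB : Function.Surjective (algebraMap R B) := fun b => by
    obtain ⟨p, rfl⟩ := hπ b
    exact ⟨algebraMap P R p, (IsScalarTower.algebraMap_apply P R B p).symm⟩
  have := IsLocalHom.of_surjective (algebraMap R B) hRB
  let _ : Algebra R M.Ω := ((algebraMap B M.Ω).comp (algebraMap R B)).toAlgebra
  have : IsScalarTower R B M.Ω := IsScalarTower.of_algebraMap_eq fun _ => rfl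
  let κ := ResidueField.map (algebraMap R B)
  let eκ : ResidueField R ≃+* ResidueField B := RingEquiv.ofBijective κ
    ⟨κ.injective, fun x => by
      obtain ⟨b, rfl⟩ := residue_surjective x
      obtain ⟨r, rfl⟩ := hRB b
      exact ⟨residue R r, rfl⟩⟩
  let _ : Algebra (ResidueField R) M.Ω := ((algebraMap (ResidueField B) M.Ω).comp κ).toAlgebra
  have : IsScalarTower R (ResidueField R) M.Ω := IsScalarTower.of_algebraMap_eq fun r => by
    show algebraMap B M.Ω (algebraMap R B r) = algebraMap (ResidueField B) M.Ω (κ (residue R r))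
    rw [IsScalarTower.algebraMap_apply B (ResidueField B) M.Ω]
    rfl
  have : Algebra.IsSeparable (ResidueField R) M.Ω :=
    Algebra.IsSeparable.of_equiv_equiv eκ.symm (RingEquiv.refl M.Ω) (RingHom.ext fun x => by
      show algebraMap (ResidueField B) M.Ω (κ (eκ.symm x)) = algebraMap (ResidueField B) M.Ω x
      congr 1
      exact eκ.apply_symm_apply x)
  let _ : Algebra R (Hens B M.Ω) := ((algebraMap B (Hens B M.Ω)).comp (algebraMap R B)).toAlgebra
  have : IsScalarTower R B (Hens B M.Ω) := IsScalarTower.of_algebraMap_eq fun _ => rfl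
  obtain ⟨ψ, hψs, hψk⟩ := exists_lift_local (R := R) (B := B) hRB (Ω := M.Ω)
  let S := Hens R M.Ω
  let _ : Algebra P S := ((algebraMap R S).comp (algebraMap P R)).toAlgebra
  have : IsScalarTower P R S := IsScalarTower.of_algebraMap_eq fun _ => rfl
  have : Module.Flat P R := IsLocalization.flat R m.primeCompl
  have : Module.Flat R S := Hens.flat
  have : Algebra.FormallyEtale P R := .of_isLocalization m.primeCompl
  have : Algebra.FormallyEtale R S := Groth.EtaleAlgebra.formallyEtale_hens
  have hker : RingHom.ker (algebraMap R B) = (RingHom.ker (algebraMap P B)).map (algebraMap P R) := by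
    refine le_antisymm (fun x hx => ?_) (Ideal.map_le_iff_le_comap.mpr fun p (hp : algebraMap P B p = 0) => ?_)
    · obtain ⟨p, s, rfl⟩ := IsLocalization.exists_mk'_eq m.primeCompl x
      rw [IsLocalization.mk'_mem_map_algebraMap_iff]
      refine ⟨1, one_mem _, ?_⟩
      have h1 : π (IsLocalization.mk' R p s) = 0 := hx
      rw [IsLocalization.lift_mk'_spec, mul_zero] at h1
      rw [one_mul]
      exact h1
    · show algebraMap R B (algebraMap P R p) = 0
      rw [← IsScalarTower.algebraMap_apply, hp]
  refine ⟨S, inferInstance, inferInstance, M.equiv.toRingEquiv.toRingHom.comp ψ.toRingHom,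
    Module.Flat.trans P R S, Algebra.FormallyEtale.comp P R S, M.equiv.surjective.comp hψs, ?_, ?_⟩
  · ext p
    show M.equiv (ψ (algebraMap R S (algebraMap P R p))) = algebraMap B Bh (algebraMap P B p)
    rw [ψ.commutes, IsScalarTower.algebraMap_apply R B (Hens B M.Ω), AlgEquiv.commutes,
      ← IsScalarTower.algebraMap_apply P R B]
  · rw [RingHom.ker_equiv_comp, show RingHom.ker ψ.toRingHom = RingHom.ker ψ from rfl, hψk, hker, Ideal.map_map]
    rfl

end Hens

section H1

open Algebra Algebra.Extension

variable {A B C : Type u} [CommRing A] [CommRing B] [CommRing C] [Algebra A B] [Algebra B C] [Algebra A C]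
  [IsScalarTower A B C]

set_option backward.isDefEq.respectTransparency false in
/-- `H⁻¹` commutes with a flat algebra lifted by a formally étale algebra. -/
theorem h1_bijective_of_lift [Module.Flat B C] {S : Type u} [CommRing S]
    [algS : Algebra (Generators.self A B).toExtension.Ring S] (ρ : S →+* C)
    [Module.Flat (Generators.self A B).toExtension.Ring S]
    [Algebra.FormallyEtale (Generators.self A B).toExtension.Ring S] (hρ : Function.Surjective ρ)
    (hρc : ρ.comp (algebraMap (Generators.self A B).toExtension.Ring S) =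
      (algebraMap B C).comp (algebraMap (Generators.self A B).toExtension.Ring B))
    (hker : RingHom.ker ρ = (RingHom.ker (algebraMap (Generators.self A B).toExtension.Ring B)).map
      (algebraMap (Generators.self A B).toExtension.Ring S)) :
    Function.Bijective ((H1Cotangent.map A A B C).liftBaseChange C) := by
  let P₀ := (Generators.self A B).toExtension
  let _ : Algebra A S := ((algebraMap P₀.Ring S).comp (algebraMap A P₀.Ring)).toAlgebra
  have : IsScalarTower A P₀.Ring S := IsScalarTower.of_algebraMap_eq fun _ => rfl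
  let ρA : S →ₐ[A] C :=
    { ρ with
      commutes' := fun a => by
        show (ρ.comp (algebraMap P₀.Ring S)) (algebraMap A P₀.Ring a) = _
        rw [hρc]
        show algebraMap B C (algebraMap P₀.Ring B (algebraMap A P₀.Ring a)) = _
        rw [← IsScalarTower.algebraMap_apply A P₀.Ring B, ← IsScalarTower.algebraMap_apply A B C] }
  let Q : Extension A C := .ofSurjective ρA hρ
  let _ : Algebra P₀.Ring Q.Ring := algS
  let f : P₀.Hom Q :=
    { toRingHom := algebraMap P₀.Ring S
      toRingHom_algebraMap := fun x => rfl
      algebraMap_toRingHom := fun x => RingHom.congr_fun hρc x }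
  have hH₁ : f.toRingHom.FormallyEtale := RingHom.formallyEtale_algebraMap.mpr ‹_›
  have hH₂ : Function.Bijective ((f.mapKer rfl).liftBaseChange Q.Ring) := by
    constructor
    · let i := (Submodule.subtype P₀.ker).lTensor S
      have hi : Function.Injective i :=
        Module.Flat.lTensor_preserves_injective_linearMap _ Subtype.val_injective
      have h1 : ∀ z : S ⊗[P₀.Ring] P₀.ker, ((f.mapKer rfl).liftBaseChange Q.Ring z).1 = TensorProduct.rid P₀.Ring S (i z) := fun z => by
        induction z using TensorProduct.induction_on with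
        | zero => simp
        | add a b ha hb => simp only [map_add, Submodule.coe_add, ha, hb]
        | tmul a x =>
          show a * algebraMap P₀.Ring S x.1 = x.1 • a
          rw [Algebra.smul_def, mul_comm]
      intro a b hab
      apply hi
      apply (TensorProduct.rid P₀.Ring S).injective
      rw [← h1, ← h1, hab]
    · intro y
      have hy : y.1 ∈ (RingHom.ker (algebraMap P₀.Ring B)).map (algebraMap P₀.Ring S) := hker.le y.2
      suffices ∀ z ∈ (RingHom.ker (algebraMap P₀.Ring B)).map (algebraMap P₀.Ring S),
          ∀ hz : z ∈ Q.ker, (⟨z, hz⟩ : Q.ker) ∈ LinearMap.range ((f.mapKer rfl).liftBaseChange Q.Ring) from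
        this _ hy y.2
      intro z hz
      induction hz using Submodule.span_induction with
      | mem z hz =>
        obtain ⟨x, hx, rfl⟩ := hz
        intro _
        exact ⟨1 ⊗ₜ ⟨x, hx⟩, by rw [LinearMap.liftBaseChange_tmul, one_smul]; rfl⟩
      | zero => intro _; exact ⟨0, by rw [map_zero]; rfl⟩
      | add a b ha hb iha ihb =>
        intro _
        obtain ⟨u, hu⟩ := iha (hker.ge ha)
        obtain ⟨v, hv⟩ := ihb (hker.ge hb)
        exact ⟨u + v, by rw [map_add, hu, hv]; rfl⟩
      | smul c a ha iha =>
        intro _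
        obtain ⟨u, hu⟩ := iha (hker.ge ha)
        exact ⟨(show Q.Ring from c) • u, by rw [map_smul, hu]; rfl⟩
  have : Algebra.FormallySmooth A P₀.Ring :=
    inferInstanceAs (Algebra.FormallySmooth A (MvPolynomial _ _))
  have : Algebra.FormallySmooth P₀.Ring S := inferInstance
  have : Algebra.FormallySmooth A Q.Ring := Algebra.FormallySmooth.comp A P₀.Ring S
  have : Algebra.FormallySmooth A (Generators.self A C).toExtension.Ring :=
    inferInstanceAs (Algebra.FormallySmooth A (MvPolynomial _ _))
  let d := Algebra.Extension.defaultHom A C Q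
  have hd : Function.Bijective (Extension.H1Cotangent.map d) := by
    rw [← LinearMap.coe_toAddHom]
    have := (Extension.H1Cotangent.equivOfFormallySmooth (Generators.self A C).toExtension Q).bijective
    rwa [show ⇑(Extension.H1Cotangent.equivOfFormallySmooth (Generators.self A C).toExtension Q) =
      ⇑(Extension.H1Cotangent.map d) from
      funext (Extension.H1Cotangent.equivOfFormallySmooth_apply d)] at this
  have hb := (tensorH1CotangentOfFormallyEtale f rfl hH₁ hH₂).bijective
  have hcomp : ∀ z, Extension.H1Cotangent.map d ((H1Cotangent.map A A B C).liftBaseChange C z) =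
      (Extension.H1Cotangent.map f).liftBaseChange C z := fun z => by
    induction z using TensorProduct.induction_on with
    | zero => simp
    | add a b ha hb => simp only [map_add, ha, hb]
    | tmul c x =>
      simp only [LinearMap.liftBaseChange_tmul, map_smul]
      congr 1
      show Extension.H1Cotangent.map d (Extension.H1Cotangent.map _ x) = _
      rw [← Extension.H1Cotangent.map_comp_apply, Extension.H1Cotangent.map_eq]
  rw [← hd.of_comp_iff']
  have he : (Extension.H1Cotangent.map d) ∘ ((H1Cotangent.map A A B C).liftBaseChange C) =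
      (Extension.H1Cotangent.map f).liftBaseChange C := funext hcomp
  rw [he]
  exact hb

end H1

section Etale

open Algebra Algebra.Generators

variable (A A' C : Type u) [CommRing A] [CommRing A'] [CommRing C] [Algebra A A'] [Algebra A' C] [Algebra A C]
  [IsScalarTower A A' C] [Algebra.FormallyEtale A A']

set_option backward.isDefEq.respectTransparency false in
/-- `H⁻¹` does not see a formally étale extension of the base. -/
theorem h1_bijective_of_formallyEtale : Function.Bijective (Algebra.H1Cotangent.map A A' C C) := by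
  refine ⟨fun x y hxy => ?_, fun y => ?_⟩
  · rw [← sub_eq_zero]
    have h0 : Algebra.H1Cotangent.map A A' C C (x - y) = 0 := by rw [map_sub, hxy, sub_self]
    generalize x - y = z at h0
    let Q := Generators.self A' C
    let P := Generators.self A A'
    let W := Generators.self A C
    let e := Generators.H1Cotangent.equiv W (Q.comp P)
    suffices e z = 0 by exact e.injective (by rw [this, map_zero])
    have h1 : Extension.H1Cotangent.map (Q.ofComp P).toExtensionHom (e z) = 0 := by
      rw [← h0]
      show Extension.H1Cotangent.map _ (Extension.H1Cotangent.map _ z) = Extension.H1Cotangent.map _ z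
      rw [← Extension.H1Cotangent.map_comp_apply, Extension.H1Cotangent.map_eq]
    generalize e z = w at h1
    have hbij : Function.Bijective P.toExtension.cotangentComplex := by
      have : Algebra.FormallySmooth A P.toExtension.Ring :=
        inferInstanceAs (Algebra.FormallySmooth A (MvPolynomial _ _))
      refine ⟨(Algebra.Extension.cotangentComplex_injective_iff P.toExtension).mpr inferInstance, fun s => ?_⟩
      exact (P.toExtension.exact_cotangentComplex_toKaehler s).mp (Subsingleton.elim _ _)
    have hbij' : Function.Bijective (P.toExtension.cotangentComplex.baseChange C) :=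
      ((LinearEquiv.ofBijective _ hbij).baseChange A' C).bijective
    have h2 : Extension.Cotangent.map (Q.ofComp P).toExtensionHom w.1 = 0 := congrArg Subtype.val h1
    obtain ⟨t, ht⟩ := (Generators.Cotangent.exact Q P w.1).mp h2
    have h3 : (Q.comp P).toExtension.cotangentComplex w.1 = 0 := w.2
    rw [← ht] at h3
    have h4 := LinearMap.congr_fun (Generators.H1Cotangent.map_comp_cotangentComplex_baseChange Q P) t
    simp only [LinearMap.comp_apply] at h4
    rw [h3] at h4
    have h5 : t = 0 := hbij'.1 (by
      rw [map_zero]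
      exact Generators.CotangentSpace.map_toComp_injective Q P (by rw [map_zero]; exact h4))
    apply Subtype.ext
    rw [← ht, h5, map_zero]
    rfl
  · exact (Algebra.H1Cotangent.exact_map_δ A A' C y).mp (Subsingleton.elim _ _)

/-- `Ω` does not see a formally unramified extension of the base. -/
theorem kaehler_map_bijective : Function.Bijective (KaehlerDifferential.map A A' C C) := by
  refine ⟨fun x y hxy => ?_, KaehlerDifferential.map_surjective A A' C⟩
  rw [← sub_eq_zero]
  obtain ⟨z, hz⟩ := (KaehlerDifferential.exact_mapBaseChange_map A A' C (x - y)).mp (by rw [map_sub, hxy, sub_self])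
  rw [← hz, Subsingleton.elim z 0, map_zero]

end Etale

section QuasiIso

open CategoryTheory.Limits HomologicalComplex Groth.FlatmorThree.NL

variable {R : Type u} [CommRing R] {X₀ X₁ Y₀ Y₁ : ModuleCat.{u} R} (d : X₀ ⟶ X₁) (e : Y₀ ⟶ Y₁)

theorem exists_lift_free {X Y : ModuleCat.{u} R} (f : X ⟶ Y) (A : ModuleCat.{u} R) (g : A → Y)
    (h : ∀ a, ∃ x, f x = g a) :
    ∃ k : ModuleCat.of R (A →₀ R) ⟶ X, ∀ a : A, f (k (Finsupp.single a 1)) = g a := by
  choose x hx using h
  exact ⟨ModuleCat.ofHom (Finsupp.linearCombination R x), fun a => by simp [hx]⟩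

theorem free_hom_ext {X : ModuleCat.{u} R} {A : ModuleCat.{u} R} {f g : ModuleCat.of R (A →₀ R) ⟶ X}
    (h : ∀ a : A, f (Finsupp.single a 1) = g (Finsupp.single a 1)) : f = g :=
  ModuleCat.hom_ext (Finsupp.lhom_ext' fun a => LinearMap.ext_ring (h a))

/-- Quasi-isomorphisms of two-term complexes, on elements. -/
theorem quasiIso_double (F : double d rel_neg_one ⟶ double e rel_neg_one) (φ₀ : X₀ ⟶ Y₀) (φ₁ : X₁ ⟶ Y₁)
    (h₀ : (iX₀ d).inv ≫ F.f (-1) ≫ (iX₀ e).hom = φ₀) (h₁ : (iX₁ d).inv ≫ F.f 0 ≫ (iX₁ e).hom = φ₁)
    (hinj : ∀ x, d x = 0 → φ₀ x = 0 → x = 0) (hsurj : ∀ y, e y = 0 → ∃ x, d x = 0 ∧ φ₀ x = y)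
    (hinj' : ∀ z, φ₁ z ∈ LinearMap.range e.hom → z ∈ LinearMap.range d.hom)
    (hsurj' : ∀ w, ∃ z y, w = φ₁ z + e y) : QuasiIso F := by
  have hF₀ : F.f (-1) = (iX₀ d).hom ≫ φ₀ ≫ (iX₀ e).inv := by rw [← h₀]; simp
  have hF₁ : F.f 0 = (iX₁ d).hom ≫ φ₁ ≫ (iX₁ e).inv := by rw [← h₁]; simp
  have hdd : (double d rel_neg_one).d (-1) 0 = (iX₀ d).hom ≫ d ≫ (iX₁ d).inv := double_d d rel_neg_one (by decide)
  have hde : (double e rel_neg_one).d (-1) 0 = (iX₀ e).hom ≫ e ≫ (iX₁ e).inv := double_d e rel_neg_one (by decide)
  have z2 : ∀ {P Q : ModuleCat.{u} R} (g : P ⟶ Q), IsZero ((double g rel_neg_one).X (-2)) := fun g =>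
    isZero_double_X g rel_neg_one (-2) (by decide) (by decide)
  have epiπ : ∀ A : ModuleCat.{u} R, Epi (ModuleCat.ofHom (Finsupp.linearCombination R (id : A → A))) := fun A =>
    (ModuleCat.epi_iff_surjective _).2 fun a => ⟨Finsupp.single a 1, by simp⟩
  rw [quasiIso_iff]
  intro n
  rw [quasiIsoAt_iff_isIso_homologyMap]
  by_cases hn : n = -1
  · subst hn
    have : Mono (homologyMap F (-1)) := by
      rw [mono_homologyMap_iff_up_to_refinements _ (-2) (-1) 0 (by simp) (by simp)]
      intro A x₂ hx₂ y₁ hy₁
      refine ⟨A, 𝟙 A, inferInstance, 0, ?_⟩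
      rw [Category.id_comp, zero_comp]
      have hy : x₂ ≫ F.f (-1) = 0 := by rw [hy₁, (z2 e).eq_of_tgt y₁ 0, zero_comp]
      rw [← cancel_mono (iX₀ d).hom, zero_comp]
      ext a
      refine hinj _ ?_ ?_
      · have := ConcreteCategory.congr_hom (hx₂ =≫ (iX₁ d).hom) a
        simpa [hdd] using this
      · have := ConcreteCategory.congr_hom (hy =≫ (iX₀ e).hom) a
        simpa [hF₀] using this
    have : Epi (homologyMap F (-1)) := by
      rw [epi_homologyMap_iff_up_to_refinements _ (-2) (-1) 0 (by simp) (by simp)]
      intro A y₂ hy₂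
      choose x hx hxy using fun a : A => hsurj ((y₂ ≫ (iX₀ e).hom) a) (by
        have := ConcreteCategory.congr_hom (hy₂ =≫ (iX₁ e).hom) a
        simpa [hde] using this)
      refine ⟨_, _, epiπ A, ModuleCat.ofHom (Finsupp.linearCombination R x) ≫ (iX₀ d).inv, ?_, 0, ?_⟩
      · rw [hdd]
        simp only [Category.assoc, Iso.inv_hom_id_assoc]
        rw [← Category.assoc, ← cancel_mono (iX₁ d).hom, zero_comp]
        simp only [Category.assoc, Iso.inv_hom_id, Category.comp_id]
        exact free_hom_ext fun a => by simpa using hx a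
      · rw [zero_comp, add_zero, hF₀, ← cancel_mono (iX₀ e).hom]
        simp only [Category.assoc, Iso.inv_hom_id, Iso.inv_hom_id_assoc, Category.comp_id]
        exact free_hom_ext fun a => by simpa using (hxy a).symm
    exact isIso_of_mono_of_epi _
  by_cases hn' : n = 0
  · subst hn'
    have z1 : ∀ {P Q : ModuleCat.{u} R} (g : P ⟶ Q), IsZero ((double g rel_neg_one).X 1) := fun g =>
      isZero_double_X g rel_neg_one 1 (by decide) (by decide)
    have : Mono (homologyMap F 0) := by
      rw [mono_homologyMap_iff_up_to_refinements _ (-1) 0 1 (by simp) (by simp)]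
      intro A x₂ _ y₁ hy₁
      choose x hx using fun a : A => hinj' ((x₂ ≫ (iX₁ d).hom) a) ⟨(y₁ ≫ (iX₀ e).hom) a, by
        have := ConcreteCategory.congr_hom (hy₁ =≫ (iX₁ e).hom) a
        simpa [hF₁, hde] using this.symm⟩
      refine ⟨_, _, epiπ A, ModuleCat.ofHom (Finsupp.linearCombination R x) ≫ (iX₀ d).inv, ?_⟩
      rw [hdd, ← cancel_mono (iX₁ d).hom]
      simp only [Category.assoc, Iso.inv_hom_id, Iso.inv_hom_id_assoc, Category.comp_id]
      exact free_hom_ext fun a => by simpa using (hx a).symm
    have : Epi (homologyMap F 0) := by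
      rw [epi_homologyMap_iff_up_to_refinements _ (-1) 0 1 (by simp) (by simp)]
      intro A y₂ _
      choose z y hzy using fun a : A => hsurj' ((y₂ ≫ (iX₁ e).hom) a)
      refine ⟨_, _, epiπ A, ModuleCat.ofHom (Finsupp.linearCombination R z) ≫ (iX₁ d).inv,
        (z1 d).eq_of_tgt _ _, ModuleCat.ofHom (Finsupp.linearCombination R y) ≫ (iX₀ e).inv, ?_⟩
      rw [hF₁, hde, ← cancel_mono (iX₁ e).hom]
      simp only [Category.assoc, Preadditive.add_comp, Iso.inv_hom_id, Iso.inv_hom_id_assoc, Category.comp_id]
      exact free_hom_ext fun a => by simpa using hzy a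
    exact isIso_of_mono_of_epi _
  · have hz : ∀ {P Q : ModuleCat.{u} R} (g : P ⟶ Q), IsZero ((double g rel_neg_one).homology n) := fun g =>
      (exactAt_iff_isZero_homology _ _).1 (ShortComplex.exact_of_isZero_X₂ _ (isZero_double_X g rel_neg_one n hn hn'))
    exact isIso_of_source_target_iso_zero _ (hz d).isoZero (hz e).isoZero

end QuasiIso

section Main

open Algebra Algebra.Extension Groth.FlatmorThree.NL

variable {A B A' B' : Type u} [CommRing A] [CommRing B] [CommRing A'] [CommRing B'] [Algebra A B]
  [Algebra A' B'] [Algebra A A'] [Algebra B B'] [Algebra A B'] [IsScalarTower A A' B'] [IsScalarTower A B B']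

/-- `H⁰` of the base-change map. -/
theorem toKaehler_spaceMap {P : Extension.{u} A B} {P' : Extension.{u} A' B'} (f : P.Hom P')
    (z : B' ⊗[B] P.CotangentSpace) :
    P'.toKaehler (spaceMap f z) =
      (KaehlerDifferential.map A A' B B').liftBaseChange B' (P.toKaehler.baseChange B' z) := by
  induction z using TensorProduct.induction_on with
  | zero => simp
  | add a b ha hb => simp only [map_add, ha, hb]
  | tmul c y =>
    simp only [LinearMap.liftBaseChange_tmul, LinearMap.baseChange_tmul, map_smul]
    congr 1
    induction y using TensorProduct.induction_on with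
    | zero => simp
    | add a b ha hb => simp only [map_add, ha, hb]
    | tmul b w =>
      obtain ⟨w, rfl⟩ := KaehlerDifferential.linearCombination_surjective A P.Ring w
      induction w using Finsupp.induction_linear with
      | zero => simp
      | add a b ha hb => simp only [map_add, tmul_add, ha, hb]
      | single p r =>
        simp [Finsupp.linearCombination_single, tmul_smul, smul_tmul', ← IsScalarTower.algebraMap_apply]
        rw [← smul_assoc, LinearMap.map_smul, KaehlerDifferential.map_D]

/-- The base-change map is a quasi-isomorphism when `B'` is flat and lifts, and `A'` is formally étale. -/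
theorem quasiIso_bcMapSelf [Algebra.FormallyEtale A A'] [Algebra.FormallyEtale B B'] [Module.Flat B B']
    (hH : Function.Bijective ((Algebra.H1Cotangent.map A A B B').liftBaseChange B')) :
    QuasiIso (NLCx.bcMapSelf A B A' B') := by
  let P := (Generators.self A B).toExtension
  let P' := (Generators.self A' B').toExtension
  let f : P.Hom P' := ((Generators.self A B).defaultHom (Generators.self A' B')).toExtensionHom
  have hH1 : Function.Bijective ((Algebra.H1Cotangent.map A A' B B').liftBaseChange B') := by
    have hc : ∀ z, (Algebra.H1Cotangent.map A A' B B').liftBaseChange B' z =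
        Algebra.H1Cotangent.map A A' B' B' ((Algebra.H1Cotangent.map A A B B').liftBaseChange B' z) := fun z => by
      induction z using TensorProduct.induction_on with
      | zero => simp
      | add a b ha hb => simp only [map_add, ha, hb]
      | tmul c x =>
        simp only [LinearMap.liftBaseChange_tmul, map_smul]
        congr 1
        show Extension.H1Cotangent.map _ x = Extension.H1Cotangent.map _ (Extension.H1Cotangent.map _ x)
        rw [← Extension.H1Cotangent.map_comp_apply]
        exact LinearMap.congr_fun (Extension.H1Cotangent.map_eq _ _) x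
    rw [show ⇑((Algebra.H1Cotangent.map A A' B B').liftBaseChange B') = _ from funext hc]
    exact (h1_bijective_of_formallyEtale A A' B').comp hH
  have hH0 : Function.Bijective ((KaehlerDifferential.map A A' B B').liftBaseChange B') := by
    have hc : ∀ z, (KaehlerDifferential.map A A' B B').liftBaseChange B' z =
        KaehlerDifferential.map A A' B' B' (KaehlerDifferential.mapBaseChange A B B' z) := fun z => by
      induction z using TensorProduct.induction_on with
      | zero => simp
      | add a b ha hb => simp only [map_add, ha, hb]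
      | tmul c x =>
        simp only [LinearMap.liftBaseChange_tmul, KaehlerDifferential.mapBaseChange_tmul, map_smul]
        congr 1
        obtain ⟨w, rfl⟩ := KaehlerDifferential.linearCombination_surjective A B x
        induction w using Finsupp.induction_linear with
        | zero => simp
        | add a b ha hb => simp only [map_add, ha, hb]
        | single p r => simp [Finsupp.linearCombination_single, ← IsScalarTower.algebraMap_apply]
    rw [show ⇑((KaehlerDifferential.map A A' B B').liftBaseChange B') = _ from funext hc]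
    exact (kaehler_map_bijective A A' B').comp
      (KaehlerDifferential.tensorKaehlerEquivOfFormallyEtale A B B').bijective
  have hexact : Function.Exact (h1Cotangentι (P := P) |>.baseChange B') (P.cotangentComplex.baseChange B') :=
    Module.Flat.lTensor_exact B' P.exact_hCotangentι_cotangentComplex
  have hι : Function.Injective (h1Cotangentι (P := P) |>.baseChange B') :=
    Module.Flat.lTensor_preserves_injective_linearMap _ h1Cotangentι_injective
  have hval : ∀ z, Groth.FlatmorThree.NL.cotMap f ((h1Cotangentι (P := P)).baseChange B' z) =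
      ((Algebra.H1Cotangent.map A A' B B').liftBaseChange B' z).1 := fun z => by
    induction z using TensorProduct.induction_on with
    | zero => simp
    | add a b ha hb => rw [map_add, map_add, ha, hb, map_add]; rfl
    | tmul c x =>
      simp only [LinearMap.baseChange_tmul, LinearMap.liftBaseChange_tmul]
      rfl
  have hKex : Function.Exact (P.cotangentComplex.baseChange B') (P.toKaehler.baseChange B') :=
    lTensor_exact B' P.exact_cotangentComplex_toKaehler P.toKaehler_surjective
  have hKs : Function.Surjective (P.toKaehler.baseChange B') :=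
    LinearMap.lTensor_surjective B' P.toKaehler_surjective
  refine quasiIso_double _ _ (bcM f) (ModuleCat.ofHom (Groth.FlatmorThree.NL.cotMap f)) (ModuleCat.ofHom (spaceMap f))
    (bcMap_f₀ f) (bcMap_f₁ f) ?_ ?_ ?_ ?_
  · intro x hx hx'
    obtain ⟨z, rfl⟩ := (hexact x).mp hx
    have : z = 0 := hH1.1 (Subtype.ext ((hval z).symm.trans (hx'.trans (by rw [map_zero]; rfl))))
    rw [this, map_zero]
  · intro y hy
    obtain ⟨z, hz⟩ := hH1.2 ⟨y, hy⟩
    exact ⟨_, hexact.apply_apply_eq_zero z, (hval z).trans (congrArg Subtype.val hz)⟩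
  · rintro z ⟨y, hy⟩
    refine (hKex z).mp (hH0.1 ?_)
    rw [← toKaehler_spaceMap f z, map_zero, ← show _ = spaceMap f z from hy]
    exact P'.exact_cotangentComplex_toKaehler.apply_apply_eq_zero y
  · intro w
    obtain ⟨v, hv⟩ := hH0.2 (P'.toKaehler w)
    obtain ⟨z, rfl⟩ := hKs v
    obtain ⟨y, hy⟩ := (P'.exact_cotangentComplex_toKaehler (w - spaceMap f z)).mp (by
      rw [map_sub, toKaehler_spaceMap, hv, sub_self])
    exact ⟨z, y, show w = spaceMap f z + P'.cotangentComplex y by rw [hy, add_sub_cancel]⟩

/-- Base change along (strict) henselisations. -/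
theorem quasiIso_bcMapSelf_hens (A B Ah Bh : Type u) [CommRing A] [CommRing B] [CommRing Ah] [CommRing Bh]
    [IsLocalRing A] [IsLocalRing B] [IsLocalRing Bh] [Algebra A B]
    [Algebra A Ah] [Algebra.FormallyEtale A Ah]
    [Algebra B Bh] [IsLocalHom (algebraMap B Bh)] (M : Groth.Hensel1.HensModel B Bh) [Algebra Ah Bh] [Algebra A Bh]
    [IsScalarTower A Ah Bh] [IsScalarTower A B Bh] : QuasiIso (NLCx.bcMapSelf A B Ah Bh) := by
  have : Algebra.FormallyEtale B Bh := Groth.EtaleAlgebra.HensModel.formallyEtale M
  have : Module.Flat B Bh := M.flat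
  let P₀ := (Generators.self A B).toExtension
  obtain ⟨S, _, _, ρ, hfl, hfe, hρ, hρc, hker⟩ := exists_lift (P := P₀.Ring) M P₀.algebraMap_surjective
  exact quasiIso_bcMapSelf (h1_bijective_of_lift (A := A) (B := B) (C := Bh) ρ hρ hρc hker)

end Main

end Groth.FlatmorThree.NLHens
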