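import Mathlib.RingTheory.Flat.Localization
import Mathlib.RingTheory.Flat.Stability
import Mathlib.RingTheory.IsTensorProduct
import Mathlib.RingTheory.Localization.BaseChange
import Mathlib.LinearAlgebra.TensorProduct.Tower
import Mathlib.RingTheory.Localization.AtPrime.Basic

set_option autoImplicit false
universe u

namespace Groth.FlatmorThree

open scoped TensorProduct

/-- Tensoring an `R`-flat `S`-module by a flat `S`-module gives an `R`-flat module. -/
theorem flat_tensor_of_flat {R S : Type*} [CommRing R] [CommRing S] [Algebra R S]
    (F N : Type*) [AddCommGroup F] [Module S F] [AddCommGroup N] [Module S N] [Module R N]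
    [IsScalarTower R S N] [Module R F] [IsScalarTower R S F] [Module.Flat S F] [Module.Flat R N] :
    Module.Flat R (F ⊗[S] N) := by
  rw [Module.Flat.iff_lTensor_preserves_injective_linearMap]
  intro Q Q' _ _ _ _ g hg
  let e := TensorProduct.AlgebraTensorModule.assoc R S S F N Q
  let e' := TensorProduct.AlgebraTensorModule.assoc R S S F N Q'
  have h1 : Function.Injective (TensorProduct.AlgebraTensorModule.map (LinearMap.id (R := S) (M := N)) g) :=
    Module.Flat.lTensor_preserves_injective_linearMap g hg
  have h2 := Module.Flat.lTensor_preserves_injective_linearMap (M := F) _ h1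
  have h3 : ⇑(g.lTensor (F ⊗[S] N)) = e'.symm ∘
      (LinearMap.lTensor F (TensorProduct.AlgebraTensorModule.map (LinearMap.id (R := S) (M := N)) g)) ∘ e := by
    funext x
    induction x using TensorProduct.induction_on with
    | zero => simp
    | tmul a q =>
      induction a using TensorProduct.induction_on with
      | zero => simp
      | tmul f n => simp [e, e']
      | add a b ha hb => simp only [TensorProduct.add_tmul, map_add, ha, hb, Function.comp_apply] at *
    | add a b ha hb => simp only [map_add, ha, hb, Function.comp_apply] at *
  rw [h3]
  exact e'.symm.injective.comp (h2.comp e.injective)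

/-- Localizing an `R`-flat `S`-module at a submonoid of `S` keeps it `R`-flat. -/
theorem flat_localizedModule {R S : Type*} [CommRing R] [CommRing S] [Algebra R S]
    (N : Type*) [AddCommGroup N] [Module S N] [Module R N] [IsScalarTower R S N]
    (T : Submonoid S) [Module.Flat R N] : Module.Flat R (LocalizedModule T N) := by
  have : Module.Flat S (Localization T) := IsLocalization.flat _ T
  have := flat_tensor_of_flat (R := R) (S := S) (Localization T) N
  refine Module.Flat.of_linearEquiv (M := Localization T ⊗[S] N) ?_
  exact ((LocalizedModule.equivTensorProduct T N).restrictScalars R)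

end Groth.FlatmorThree
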