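import Groth.Prelude.Def_FlatCA
import Groth.Agent.FlatmorThree.FlatAt

set_option autoImplicit false
universe u

namespace Groth.FlatmorThree

open scoped TensorProduct

/-- `FlatAt` is stable under base change. -/
theorem flatAt_baseChange {R S R' S' : Type u} [CommRing R] [CommRing S] [CommRing R'] [CommRing S']
    [Algebra R S] [Algebra R R'] [Algebra S S'] [Algebra R' S'] [Algebra R S'] [IsScalarTower R S S']
    [IsScalarTower R R' S'] [Algebra.IsPushout R S R' S']
    {M M' : Type u} [AddCommGroup M] [Module S M] [Module R M] [IsScalarTower R S M]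
    [AddCommGroup M'] [Module S' M'] [Module R' M'] [IsScalarTower R' S' M'] [Module S M'] [IsScalarTower S S' M']
    (f : M →ₗ[S] M') (hf : IsBaseChange S' f) (q : Ideal S) [q.IsPrime] (q' : Ideal S') [q'.IsPrime]
    (hq : q'.comap (algebraMap S S') = q)
    (h : FlatCA.FlatAt R q M) : FlatCA.FlatAt R' q' M' := by
  unfold FlatCA.FlatAt at h ⊢
  let N := S' ⊗[S] LocalizedModule q.primeCompl M
  have : Algebra.IsPushout R R' S S' := Algebra.IsPushout.symm inferInstance
  have hN : Module.Flat R' N :=
    Module.Flat.of_linearEquiv (M := R' ⊗[R] LocalizedModule q.primeCompl M)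
      (Algebra.IsPushout.cancelBaseChange R R' S S' (LocalizedModule q.primeCompl M))
  have hL : Module.Flat R' (LocalizedModule q'.primeCompl N) := flat_localizedModule N q'.primeCompl
  let L := LocalizedModule q'.primeCompl N
  let L' := LocalizedModule q'.primeCompl M'
  -- maps
  let m₀ : M →ₗ[S] N :=
    (TensorProduct.mk S S' (LocalizedModule q.primeCompl M) 1) ∘ₗ LocalizedModule.mkLinearMap q.primeCompl M
  let a : M' →ₗ[S'] L := LocalizedModule.mkLinearMap q'.primeCompl N ∘ₗ hf.lift m₀
  have hu : ∀ x : q'.primeCompl, IsUnit ((algebraMap S' (Module.End S' L)) x) :=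
    IsLocalizedModule.map_units (LocalizedModule.mkLinearMap q'.primeCompl N)
  have hu' : ∀ x : q'.primeCompl, IsUnit ((algebraMap S' (Module.End S' L')) x) :=
    IsLocalizedModule.map_units (LocalizedModule.mkLinearMap q'.primeCompl M')
  let φ : L' →ₗ[S'] L := IsLocalizedModule.lift q'.primeCompl (LocalizedModule.mkLinearMap q'.primeCompl M') a hu
  have huS : ∀ x : q.primeCompl, IsUnit ((algebraMap S (Module.End S L')) x) := by
    intro x
    have hx : algebraMap S S' x ∈ q'.primeCompl := fun hx => x.2 (hq ▸ hx)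
    rw [Module.End.isUnit_iff]
    have := (Module.End.isUnit_iff _).mp (hu' ⟨_, hx⟩)
    convert this using 1
    ext y
    exact (algebraMap_smul S' (x : S) y).symm
  let b₀ : LocalizedModule q.primeCompl M →ₗ[S] L' :=
    IsLocalizedModule.lift q.primeCompl (LocalizedModule.mkLinearMap q.primeCompl M)
      ((LocalizedModule.mkLinearMap q'.primeCompl M').restrictScalars S ∘ₗ f) huS
  let b : N →ₗ[S'] L' := b₀.liftBaseChange S'
  let ψ : L →ₗ[S'] L' := IsLocalizedModule.lift q'.primeCompl (LocalizedModule.mkLinearMap q'.primeCompl N) b hu'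
  have hφ : ∀ x, φ (LocalizedModule.mkLinearMap q'.primeCompl M' x) = a x := fun x =>
    IsLocalizedModule.lift_apply _ _ _ hu x
  have hψ : ∀ x, ψ (LocalizedModule.mkLinearMap q'.primeCompl N x) = b x := fun x =>
    IsLocalizedModule.lift_apply _ _ _ hu' x
  have hm : ∀ x, b (m₀ x) = LocalizedModule.mkLinearMap q'.primeCompl M' (f x) := fun x => by
    show b ((1 : S') ⊗ₜ[S] LocalizedModule.mkLinearMap q.primeCompl M x) = _
    refine (LinearMap.liftBaseChange_tmul _ _ _ _).trans ?_
    rw [one_smul]
    exact IsLocalizedModule.lift_apply _ _ _ huS x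
  have h1 : ψ ∘ₗ φ = LinearMap.id := by
    apply IsLocalizedModule.ext q'.primeCompl (LocalizedModule.mkLinearMap q'.primeCompl M') hu'
    apply hf.algHom_ext
    intro x
    simp only [LinearMap.coe_comp, Function.comp_apply, LinearMap.id_coe, id_eq, hφ, a, hψ, hf.lift_eq, hm]
  have h2 : φ ∘ₗ ψ = LinearMap.id := by
    apply IsLocalizedModule.ext q'.primeCompl (LocalizedModule.mkLinearMap q'.primeCompl N) hu
    apply (TensorProduct.isBaseChange S (LocalizedModule q.primeCompl M) S').algHom_ext
    intro y
    let F : LocalizedModule q.primeCompl M →ₗ[S] L :=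
      (((φ ∘ₗ ψ) ∘ₗ LocalizedModule.mkLinearMap q'.primeCompl N).restrictScalars S) ∘ₗ TensorProduct.mk S S' _ 1
    let G : LocalizedModule q.primeCompl M →ₗ[S] L :=
      ((LinearMap.id ∘ₗ LocalizedModule.mkLinearMap q'.primeCompl N).restrictScalars S) ∘ₗ TensorProduct.mk S S' _ 1
    have huL : ∀ x : q.primeCompl, IsUnit ((algebraMap S (Module.End S L)) x) := by
      intro x
      have hx : algebraMap S S' x ∈ q'.primeCompl := fun hx => x.2 (hq ▸ hx)
      rw [Module.End.isUnit_iff]
      have := (Module.End.isUnit_iff _).mp (hu ⟨_, hx⟩)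
      convert this using 1
      ext y
      exact (algebraMap_smul S' (x : S) y).symm
    have : F = G := by
      apply IsLocalizedModule.ext q.primeCompl (LocalizedModule.mkLinearMap q.primeCompl M) huL
      apply LinearMap.ext
      intro x
      show φ (ψ (LocalizedModule.mkLinearMap q'.primeCompl N (m₀ x))) = LocalizedModule.mkLinearMap q'.primeCompl N (m₀ x)
      rw [hψ, hm, hφ]
      simp only [a, LinearMap.coe_comp, Function.comp_apply, hf.lift_eq]
    exact LinearMap.congr_fun this y
  exact Module.Flat.of_linearEquiv (M := L) ((LinearEquiv.ofLinearMap φ ψ h2 h1).restrictScalars R')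

end Groth.FlatmorThree
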