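import Groth.Prelude.Def_MoreMor
import Mathlib.FieldTheory.SeparableDegree

/-! Invariance of fibre integrals under isomorphisms of the source. -/

set_option autoImplicit false
universe u
open CategoryTheory CategoryTheory.Limits AlgebraicGeometry

namespace Groth.FlatmorThree

theorem fibreIntegral_iso {U U' V : Scheme.{u}} (e : U ⟶ U') [IsIso e] (π' : U' ⟶ V) (w : U' → ℤ)
    (v : V) :
    MoreMor.fibreIntegral (e ≫ π') (fun u => w (e u)) v = MoreMor.fibreIntegral π' w v := by
  unfold MoreMor.fibreIntegral
  let h := Scheme.homeoOfIso (asIso e)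
  refine finsum_eq_of_bijective
    (fun x => (⟨e x.1, (Scheme.Hom.comp_apply e π' x.1).symm.trans x.2⟩ : {u : U' // π' u = v}))
    ⟨fun x y hxy => Subtype.ext (h.injective (congrArg Subtype.val hxy)), fun y => ?_⟩ fun x => ?_
  · obtain ⟨x, hx⟩ := h.surjective y.1
    exact ⟨⟨x, (Scheme.Hom.comp_apply e π' x).trans ((congrArg π' hx).trans y.2)⟩, Subtype.ext hx⟩
  · obtain ⟨x, hx⟩ := x
    show w (e x) * _ = w (e x) * _
    congr 1
    let a := (π'.residueFieldMap (e x)).hom
    let _ := a.toAlgebra
    let _ : Algebra (V.residueField (π' (e x))) (U.residueField x) :=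
      ((e ≫ π').residueFieldMap x).hom.toAlgebra
    let r : U'.residueField (e x) ≅ U.residueField x := asIso (e.residueFieldMap x)
    let i : U'.residueField (e x) ≃ₐ[V.residueField (π' (e x))] U.residueField x :=
      AlgEquiv.ofRingEquiv (f := r.commRingCatIsoToRingEquiv) fun c => by
        show (π'.residueFieldMap (e x) ≫ e.residueFieldMap x).hom c = _
        rw [← Scheme.residueFieldMap_comp]
        rfl
    have hi := Field.finSepDegree_eq_of_equiv _ _ _ i
    exact congrArg _ hi.symm

end Groth.FlatmorThree
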