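import Groth.Agent.FlatmorThree.AmpleFamily
import Groth.Agent.SpecFerrand.BasisTools
import Groth.Agent.S7184

/-!
Ample families on disjoint unions.
-/

universe u

open CategoryTheory CategoryTheory.Limits AlgebraicGeometry Opposite TopologicalSpace

set_option backward.isDefEq.respectTransparency.types false

namespace Groth.FlatmorThree.AmpleFam

open Groth.PicAux Groth.PropsBasic.Ample

variable {X : Scheme.{u}}

theorem isZero_restrict_pushforward {A B : X.Opens} (hAB : A ⊓ B = ⊥) (NB : (B : Scheme.{u}).Modules) :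
    IsZero (((Scheme.Modules.pushforward B.ι).obj NB).restrict A.ι) := by
  rw [IsZero.iff_id_eq_zero]
  refine Scheme.Modules.hom_ext _ _ fun U => ?_
  apply AddCommGrpCat.hom_ext
  ext s
  have : Subsingleton Γ(((Scheme.Modules.pushforward B.ι).obj NB).restrict A.ι, U) :=
    Groth.SpecFerrand.subsingleton_of_bot NB (U := B.ι ⁻¹ᵁ (A.ι ''ᵁ U)) fun y hy => by
      have : (B.ι y : X) ∈ A ⊓ B := ⟨A.ι_image_le U hy, y.2⟩
      rw [hAB] at this
      exact this.elim
  exact Subsingleton.elim _ _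

theorem nonempty_restrict_biprod {A B : X.Opens} (hAB : A ⊓ B = ⊥) (NA : (A : Scheme.{u}).Modules)
    (NB : (B : Scheme.{u}).Modules) :
    Nonempty (((Scheme.Modules.pushforward A.ι).obj NA ⊞ (Scheme.Modules.pushforward B.ι).obj NB).restrict A.ι ≅
      NA) := by
  have : PreservesBinaryBiproducts (Scheme.Modules.restrictFunctor A.ι) :=
    preservesBinaryBiproducts_of_preservesBinaryCoproducts _
  exact ⟨(Scheme.Modules.restrictFunctor A.ι).mapBiprod _ _ ≪≫
    (isoBiprodZero (isZero_restrict_pushforward hAB NB)).symm ≪≫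
    asIso ((Scheme.Modules.restrictAdjunction A.ι).counit.app NA)⟩

/-- An invertible module on one of two complementary opens extends to an invertible module. -/
theorem exists_extend_clopen {W W' : X.Opens} (hd : W ⊓ W' = ⊥) (hc : W ⊔ W' = ⊤)
    {N : (W : Scheme.{u}).Modules} (hN : PicF.IsInvertible N) :
    ∃ M : X.Modules, PicF.IsInvertible M ∧ Nonempty (M.restrict W.ι ≅ N) := by
  let O' : (W' : Scheme.{u}).Modules := Coh.structureModule _
  obtain ⟨e⟩ := nonempty_restrict_biprod hd N O'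
  obtain ⟨e'⟩ := nonempty_restrict_biprod (A := W') (B := W) (by rwa [inf_comm]) O' N
  refine ⟨_, Groth.Ega2Proj.isInvertible_of_cover fun x => ?_, ⟨e⟩⟩
  rcases Opens.mem_sup.1 (hc.ge (Opens.mem_top x)) with h | h
  · exact ⟨W, h, PicAux.isInvertible_of_iso hN e.symm⟩
  · exact ⟨W', h, PicAux.isInvertible_of_iso (Groth.Ega2Proj.isInvertible_structure _)
      (e'.symm ≪≫ (Scheme.Modules.restrictFunctor W'.ι).mapIso (biprod.braiding _ _))⟩

/-- The idempotent of a clopen piece. -/
theorem exists_basicOpen_clopen {W W' : X.Opens} (hd : W ⊓ W' = ⊥) (hc : W ⊔ W' = ⊤) :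
    ∃ e : Γ(X, ⊤), X.basicOpen e = W := by
  let V : Bool → X.Opens := fun b => bif b then W else W'
  let sf : ∀ b, Γ(X, V b) := fun b => match b with
    | true => 1
    | false => 0
  have hcomp : TopCat.Presheaf.IsCompatible X.sheaf.1 V sf := by
    intro a b
    cases a <;> cases b
    · rfl
    · exact (Groth.SpecFerrand.subsingleton_functions_of_bot
        (show V false ⊓ V true ≤ ⊥ by rw [inf_comm]; exact hd.le)).elim _ _
    · exact (Groth.SpecFerrand.subsingleton_functions_of_bot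
        (show V true ⊓ V false ≤ ⊥ from hd.le)).elim _ _
    · rfl
  obtain ⟨e, he, -⟩ := TopCat.Sheaf.existsUnique_gluing' X.sheaf V ⊤ (fun b => homOfLE le_top)
    (fun x _ => by
      rcases Opens.mem_sup.1 (hc.ge (Opens.mem_top x)) with h | h
      · exact Opens.mem_iSup.2 ⟨true, h⟩
      · exact Opens.mem_iSup.2 ⟨false, h⟩) sf hcomp
  refine ⟨e, ?_⟩
  have h1 := X.basicOpen_res e (homOfLE (le_top : W ≤ ⊤)).op
  have h0 := X.basicOpen_res e (homOfLE (le_top : W' ≤ ⊤)).op
  erw [he true] at h1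
  erw [he false] at h0
  rw [Scheme.basicOpen_of_isUnit _ isUnit_one] at h1
  rw [Scheme.basicOpen_zero] at h0
  refine le_antisymm (fun x hx => ?_) (h1.le.trans inf_le_right)
  rcases Opens.mem_sup.1 (hc.ge (Opens.mem_top x)) with h | h
  · exact h
  · exact (h0.ge ⟨h, hx⟩).elim

/-- Points of a clopen piece with an ample family lie in affine loci of global sections. -/
theorem exists_affine_locus_clopen [CompactSpace X] [QuasiSeparatedSpace X] {W W' : X.Opens}
    (hd : W ⊓ W' = ⊥) (hc : W ⊔ W' = ⊤) (hW : MoreMor.HasAmpleFamily (W : Scheme.{u})) (x : W) :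
    ∃ (N : X.Modules) (σ : Γ(N, ⊤)), PicF.IsInvertible N ∧ W.ι x ∈ gloc σ ∧ IsAffineOpen (gloc σ) := by
  obtain ⟨L, n, s, hL, -, hxs, hs⟩ := hW.2 x
  rw [genLocus_eq_gloc] at hxs hs
  obtain ⟨M, hM, ⟨φ⟩⟩ := exists_extend_clopen hd hc (isInvertible_tensorPow hL n)
  obtain ⟨e, he⟩ := exists_basicOpen_clopen hd hc
  obtain ⟨N, σ, hN, hσ⟩ := exists_locus hM (Groth.Ega2Proj.isInvertible_structure X)
    (e : Γ(Coh.structureModule X, ⊤)) ((Groth.Ega2Proj.gloc_structure _).trans he) (φ.inv.app ⊤ (gsec s))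
  rw [gloc_map φ.inv] at hσ
  refine ⟨N, σ, hN, ?_, ?_⟩
  · rw [hσ]; exact ⟨x, hxs, rfl⟩
  · rw [hσ]; exact hs.image_of_isOpenImmersion _

/-- Complementary opens with ample families give an ample family. -/
theorem hasAmpleFamily_of_clopen {W W' : X.Opens} (hd : W ⊓ W' = ⊥) (hc : W ⊔ W' = ⊤)
    (hW : MoreMor.HasAmpleFamily (W : Scheme.{u})) (hW' : MoreMor.HasAmpleFamily (W' : Scheme.{u})) :
    MoreMor.HasAmpleFamily X := by
  have := hW.1
  have := hW'.1
  have := quasiSeparatedSpace_of_hasAmpleFamily hW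
  have := quasiSeparatedSpace_of_hasAmpleFamily hW'
  have hqW : IsQuasiSeparated (W : Set X) :=
    (isQuasiSeparated_iff_quasiSeparatedSpace (W : Set X) W.2).2 ‹_›
  have hqW' : IsQuasiSeparated (W' : Set X) :=
    (isQuasiSeparated_iff_quasiSeparatedSpace (W' : Set X) W'.2).2 ‹_›
  have hcW : IsCompact (W : Set X) := isCompact_iff_compactSpace.2 ‹_›
  have hcW' : IsCompact (W' : Set X) := isCompact_iff_compactSpace.2 ‹_›
  have huniv : (W : Set X) ∪ W' = Set.univ := by
    rw [← Opens.coe_sup, hc, Opens.coe_top]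
  haveI : CompactSpace X := ⟨huniv ▸ hcW.union hcW'⟩
  haveI : QuasiSeparatedSpace X := ⟨fun U V hUo hUc hVo hVc => by
    have hcl : ∀ A B : X.Opens, A ⊓ B = ⊥ → A ⊔ B = ⊤ → IsClosed (A : Set X) := fun A B h h' => by
      rw [← isOpen_compl_iff]
      convert! B.2 using 1
      ext y
      refine ⟨fun hy => (Opens.mem_sup.1 (h'.ge (Opens.mem_top y))).resolve_left hy, fun hy hy' => ?_⟩
      exact (h.le ⟨hy', hy⟩).elim
    rw [← Set.inter_univ (U ∩ V), ← huniv, Set.inter_union_distrib_left, Set.inter_inter_distrib_right,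
      Set.inter_inter_distrib_right U V]
    exact (hqW _ _ Set.inter_subset_right (hUo.inter W.2) (hUc.inter_right (hcl W W' hd hc))
        Set.inter_subset_right (hVo.inter W.2) (hVc.inter_right (hcl W W' hd hc))).union
      (hqW' _ _ Set.inter_subset_right (hUo.inter W'.2)
        (hUc.inter_right (hcl W' W (by rwa [inf_comm]) (by rwa [sup_comm])))
        Set.inter_subset_right (hVo.inter W'.2)
        (hVc.inter_right (hcl W' W (by rwa [inf_comm]) (by rwa [sup_comm]))))⟩
  refine hasAmpleFamily_of_loci fun x => ?_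
  rcases Opens.mem_sup.1 (hc.ge (Opens.mem_top x)) with h | h
  · exact exists_affine_locus_clopen hd hc hW ⟨x, h⟩
  · exact exists_affine_locus_clopen (by rwa [inf_comm]) (by rwa [sup_comm]) hW' ⟨x, h⟩

theorem hasAmpleFamily_of_isEmpty (Y : Scheme.{u}) [IsEmpty Y] : MoreMor.HasAmpleFamily Y :=
  ⟨inferInstance, fun y => isEmptyElim y⟩

/-- A disjoint union of two schemes with ample families has an ample family. -/
theorem hasAmpleFamily_coprod {A B : Scheme.{u}} (hA : MoreMor.HasAmpleFamily A) (hB : MoreMor.HasAmpleFamily B) :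
    MoreMor.HasAmpleFamily (A ⨿ B) := by
  have h := isCompl_opensRange_inl_inr A B
  refine hasAmpleFamily_of_clopen (W := (coprod.inl : A ⟶ A ⨿ B).opensRange)
    (W' := (coprod.inr : B ⟶ A ⨿ B).opensRange) h.inf_eq_bot h.sup_eq_top ?_ ?_
  · exact Groth.Agent.S7184.result (coprod.inl : A ⟶ A ⨿ B).isoOpensRange.inv (Or.inl inferInstance) hA
  · exact Groth.Agent.S7184.result (coprod.inr : B ⟶ A ⨿ B).isoOpensRange.inv (Or.inl inferInstance) hB

end Groth.FlatmorThree.AmpleFam
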