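import Mathlib.AlgebraicGeometry.ZariskisMainTheorem
import Mathlib.AlgebraicGeometry.Morphisms.ClosedImmersion
import Mathlib.AlgebraicGeometry.Fiber
import Mathlib.AlgebraicGeometry.Pullbacks
import Mathlib.RingTheory.LocalRing.Module
import Mathlib.RingTheory.Support

/-! A morphism whose fibre over a point is at most that point is a closed immersion nearby,
provided it is universally closed there. -/

set_option autoImplicit false

universe u

open CategoryTheory CategoryTheory.Limits AlgebraicGeometry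
open scoped TensorProduct

namespace Groth.FlatmorThree.FibreCI

variable {X Y : Scheme.{u}}

/-- Base change along a factorisation. -/
theorem snd_of_factor (P : MorphismProperty Scheme.{u}) [P.IsStableUnderBaseChange] (f : X ⟶ Y)
    {T T' : Scheme.{u}} (b : T' ⟶ Y) (c : T ⟶ T') (a : T ⟶ Y) (hc : c ≫ b = a)
    (h : P (pullback.snd f b)) : P (pullback.snd f a) := by
  subst hc
  let t : pullback f (c ≫ b) ⟶ pullback f b :=
    pullback.lift (pullback.fst _ _) (pullback.snd _ _ ≫ c)
      (by rw [Category.assoc]; exact pullback.condition)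
  have hsq : IsPullback t (pullback.snd f (c ≫ b)) (pullback.snd f b) c :=
    .of_right (h₁₂ := pullback.fst f b)
      (by rw [show t ≫ pullback.fst f b = _ from pullback.lift_fst _ _ _]
          exact IsPullback.of_hasPullback _ _)
      (pullback.lift_snd _ _ _) (IsPullback.of_hasPullback f b)
  exact MorphismProperty.of_isPullback hsq h

theorem snd_ι_iff (P : MorphismProperty Scheme.{u}) [P.IsStableUnderBaseChange] (f : X ⟶ Y)
    (U : Y.Opens) : P (f ∣_ U) ↔ P (pullback.snd f U.ι) := by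
  have : P.RespectsIso := inferInstance
  have h := (isPullback_morphismRestrict f U).flip
  rw [show f ∣_ U = h.isoPullback.hom ≫ pullback.snd f U.ι from h.isoPullback_hom_snd.symm,
    P.cancel_left_of_respectsIso]

theorem isClosedImmersion_SpecMap_iff {R S : CommRingCat.{u}} (φ : R ⟶ S) :
    IsClosedImmersion (Spec.map φ) ↔ Function.Surjective φ.hom := by
  refine ⟨fun h => ?_, fun h => IsClosedImmersion.spec_of_surjective φ h⟩
  have h' := (IsClosedImmersion.isAffine_surjective_of_isAffine (Spec.map φ)).2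
  have he : φ = (Scheme.ΓSpecIso R).inv ≫ (Spec.map φ).appTop ≫ (Scheme.ΓSpecIso S).hom := by
    simp [Scheme.ΓSpecIso_naturality]
  rw [he]
  exact ((Scheme.ΓSpecIso S).commRingCatIsoToRingEquiv.surjective.comp h').comp
    (Scheme.ΓSpecIso R).commRingCatIsoToRingEquiv.symm.surjective

/-- Finite, with fibre over `y` inside `Spec κ(y)`: closed immersion near `y`. -/
theorem exists_of_finite (f : X ⟶ Y) {A : CommRingCat.{u}} (j : Spec A ⟶ Y) [IsOpenImmersion j]
    (hfin : IsFinite (pullback.snd f j)) (p : PrimeSpectrum A)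
    (hfib : IsClosedImmersion (f.fiberToSpecResidueField (j p))) :
    ∃ U : Y.Opens, j p ∈ U ∧ IsClosedImmersion (f ∣_ U) := by
  have : IsAffine (pullback f j) := isAffine_of_isAffineHom (pullback.snd f j)
  let e := (pullback f j).isoSpec
  let B := Γ(pullback f j, ⊤)
  obtain ⟨φ, hφ⟩ := Spec.map_surjective (e.inv ≫ pullback.snd f j)
  have hpb : IsPullback (e.inv ≫ pullback.fst f j) (Spec.map φ) f j :=
    (IsPullback.of_hasPullback f j).of_iso e (Iso.refl _) (Iso.refl _) (Iso.refl _)
      (by simp) (by simp [hφ]) (by simp) (by simp)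
  have hφfin : φ.hom.Finite := by
    have : IsFinite (Spec.map φ) := by rw [hφ]; infer_instance
    rw [RingHom.finite_iff_isIntegral_and_finiteType]
    exact ⟨IsIntegralHom.SpecMap_iff.mp inferInstance,
      (HasRingHomProperty.Spec_iff (P := @LocallyOfFiniteType)).mp inferInstance⟩
  algebraize [φ.hom]
  have key : ∀ (S : Type u) [CommRing S] [Algebra A S],
      IsClosedImmersion (pullback.snd f (Spec.map (CommRingCat.ofHom (algebraMap A S)) ≫ j)) ↔
        Function.Surjective (Algebra.TensorProduct.includeLeftRingHom : S →+* S ⊗[A] B) := by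
    intro S _ _
    have h1 : IsPullback
        (Spec.map (CommRingCat.ofHom (Algebra.TensorProduct.includeRight (R := A) (A := S) (B := B)).toRingHom))
        (Spec.map (CommRingCat.ofHom (Algebra.TensorProduct.includeLeftRingHom : S →+* S ⊗[A] B)))
        (Spec.map φ) (Spec.map (CommRingCat.ofHom (algebraMap A S))) :=
      (isPullback_SpecMap_of_isPushout _ _ _ _ (CommRingCat.isPushout_tensorProduct A S B)).flip
    have h2 := h1.paste_horiz hpb
    have h3 := isClosedImmersion_SpecMap_iff (CommRingCat.ofHom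
      (Algebra.TensorProduct.includeLeftRingHom : S →+* S ⊗[A] B))
    rw [← h2.isoPullback_hom_snd,
      MorphismProperty.cancel_left_of_respectsIso @IsClosedImmersion] at h3
    exact h3
  -- the fibre
  let K := p.asIdeal.ResidueField
  let a : Spec (CommRingCat.of K) ⟶ Y := Spec.map (CommRingCat.ofHom (algebraMap A K)) ≫ j
  have ha : a (IsLocalRing.closedPoint K) = j p := by
    show j ((Spec.map (CommRingCat.ofHom (algebraMap A K))) (IsLocalRing.closedPoint K)) = j p
    congr 1
    apply PrimeSpectrum.ext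
    show Ideal.comap (algebraMap A K) (IsLocalRing.maximalIdeal K) = p.asIdeal
    rw [Ideal.eq_bot_of_prime (IsLocalRing.maximalIdeal K)]
    exact p.asIdeal.ker_algebraMap_residueField
  have hK : IsClosedImmersion (pullback.snd f a) := by
    refine snd_of_factor @IsClosedImmersion f _ _ a
      (Scheme.descResidueField_stalkClosedPointTo_fromSpecResidueField K Y a) ?_
    exact ha.symm ▸ hfib
  have hsurj : Function.Surjective
      (Algebra.TensorProduct.includeLeftRingHom : K →+* K ⊗[A] B) := (key K).mp hK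
  -- Nakayama
  let Q := (B : Type u) ⧸ LinearMap.range (Algebra.linearMap A B)
  have hQ : (⟨p.asIdeal, p.2⟩ : PrimeSpectrum A) ∉ Module.support A Q := by
    rw [Module.mem_support_iff_nontrivial_residueField_tensorProduct, not_nontrivial_iff_subsingleton]
    let π : K ⊗[A] B →ₗ[A] K ⊗[A] Q := (Submodule.mkQ _).lTensor K
    have hπ : Function.Surjective π := LinearMap.lTensor_surjective K (Submodule.mkQ_surjective _)
    refine subsingleton_of_forall_eq 0 fun z => ?_
    obtain ⟨w, rfl⟩ := hπ z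
    obtain ⟨c, rfl⟩ := hsurj w
    show c ⊗ₜ[A] (Submodule.mkQ _ (1 : B)) = 0
    rw [show Submodule.mkQ _ (1 : B) = (0 : Q) from (Submodule.Quotient.mk_eq_zero _).mpr
      ⟨1, by simp⟩, TensorProduct.tmul_zero]
  rw [Module.support_eq_zeroLocus, PrimeSpectrum.mem_zeroLocus, Set.not_subset] at hQ
  obtain ⟨g, hg, hgp⟩ := hQ
  have hg' : ∀ b : B, ∃ c : A, algebraMap A B c = g • b := fun b =>
    (Submodule.Quotient.mk_eq_zero _).mp (Module.mem_annihilator.mp hg (Submodule.Quotient.mk b))
  let l : Spec (CommRingCat.of (Localization.Away g)) ⟶ Spec A :=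
    Spec.map (CommRingCat.ofHom (algebraMap A (Localization.Away g)))
  have : IsOpenImmersion l := IsOpenImmersion.of_isLocalization (S := Localization.Away g) g
  refine ⟨(l ≫ j).opensRange, ?_, ?_⟩
  · obtain ⟨q, hq⟩ : p ∈ Set.range l := by
      have := PrimeSpectrum.localization_away_comap_range (Localization.Away g) g
      exact (Set.ext_iff.mp this p).mpr hgp
    exact ⟨q, (Scheme.Hom.comp_apply _ _ _).trans (congrArg j hq)⟩
  · rw [MorphismProperty.arrow_mk_iso_iff (P := @IsClosedImmersion)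
      (morphismRestrictOpensRange f (l ≫ j)), key]
    intro w
    induction w with
    | zero => exact ⟨0, map_zero _⟩
    | tmul s b =>
      obtain ⟨c, hc⟩ := hg' b
      obtain ⟨v, hv⟩ := (IsLocalization.Away.algebraMap_isUnit (S := Localization.Away g) g).exists_right_inv
      refine ⟨s * v * algebraMap A _ c, ?_⟩
      rw [Algebra.TensorProduct.includeLeftRingHom_apply, mul_comm _ (algebraMap A _ c),
        ← Algebra.smul_def, TensorProduct.smul_tmul, ← Algebra.algebraMap_eq_smul_one, hc,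
        ← TensorProduct.smul_tmul, Algebra.smul_def, mul_left_comm, hv, mul_one]
    | add x y hx hy =>
      obtain ⟨a, ha⟩ := hx
      obtain ⟨b, hb⟩ := hy
      exact ⟨a + b, by rw [map_add, ha, hb]⟩

/-- Universally closed near `y` with fibre inside `Spec κ(y)`: closed immersion near `y`. -/
theorem exists_of_universallyClosed (f : X ⟶ Y) [LocallyOfFiniteType f] (y : Y)
    (hfib : IsClosedImmersion (f.fiberToSpecResidueField y)) (V : Y.Opens) (hyV : y ∈ V)
    (hV : UniversallyClosed (f ∣_ V)) : ∃ U : Y.Opens, y ∈ U ∧ IsClosedImmersion (f ∣_ U) := by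
  have hsub : Subsingleton (f.fiber y) :=
    (f.fiberToSpecResidueField y).isClosedEmbedding.injective.subsingleton
  have hfinset : (f ⁻¹' {y}).Subsingleton := fun a ha b hb =>
    congrArg Subtype.val ((f.fiberHomeo y).symm.injective
      (hsub.elim ((f.fiberHomeo y).symm ⟨a, ha⟩) ((f.fiberHomeo y).symm ⟨b, hb⟩)))
  -- an affine open containing the fibre
  obtain ⟨W, hW, hfW⟩ : ∃ W : X.Opens, IsAffineOpen W ∧ f ⁻¹' {y} ⊆ W := by
    rcases (f ⁻¹' {y}).eq_empty_or_nonempty with h | ⟨x, hx⟩
    · exact ⟨⊥, isAffineOpen_bot X, h.le.trans (Set.empty_subset _)⟩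
    · obtain ⟨_, ⟨(W : X.Opens), hW, rfl⟩, hxW, -⟩ :=
        X.isBasis_affineOpens.exists_subset_of_mem_open (Set.mem_univ x) isOpen_univ
      exact ⟨W, hW, fun x' hx' => hfinset hx hx' ▸ hxW⟩
  let C : Set (V : Scheme) := (f ∣_ V) '' (((f ⁻¹ᵁ V).ι ⁻¹' (W : Set X))ᶜ)
  have hC : IsClosed C :=
    (f ∣_ V).isClosedMap _ ((W.2.preimage (f ⁻¹ᵁ V).ι.continuous).isClosed_compl)
  let O : Y.Opens := V.ι ''ᵁ ⟨Cᶜ, hC.isOpen_compl⟩
  have hyO : y ∈ O := by
    refine ⟨⟨y, hyV⟩, ?_, rfl⟩
    rintro ⟨x, hx, hxy⟩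
    refine hx (hfW ?_)
    have := congrArg V.ι hxy
    rw [← Scheme.Hom.comp_apply, morphismRestrict_ι] at this
    exact this
  have hOW : f ⁻¹ᵁ O ≤ W := by
    rintro x ⟨v, hv, hvx⟩
    by_contra hxW
    have hxV : x ∈ f ⁻¹ᵁ V := by
      show f x ∈ V
      rw [← hvx]; exact v.2
    refine hv ⟨⟨x, hxV⟩, hxW, V.ι.isOpenEmbedding.injective ?_⟩
    show ((f ∣_ V) ≫ V.ι) _ = _
    rw [morphismRestrict_ι]
    exact hvx.symm
  have hOV : O ≤ V := by
    rintro _ ⟨v, -, rfl⟩
    exact v.2
  obtain ⟨_, ⟨(U : Y.Opens), hU, rfl⟩, hyU, hUO⟩ :=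
    Y.isBasis_affineOpens.exists_subset_of_mem_open hyO O.2
  have hUW : f ⁻¹ᵁ U ≤ W := fun x hx => hOW (hUO hx)
  have hprop : IsProper (f ∣_ U) := by
    have h1 : UniversallyClosed (f ∣_ U) := by
      rw [snd_ι_iff @UniversallyClosed]
      exact snd_of_factor @UniversallyClosed f V.ι (Y.homOfLE (hUO.trans hOV)) U.ι
        (Scheme.homOfLE_ι _ _) ((snd_ι_iff @UniversallyClosed f V).mp hV)
    have : IsAffine W := hW
    have h2 : IsSeparated ((f ∣_ U) ≫ terminal.from _) := by
      rw [show (f ∣_ U) ≫ terminal.from _ = X.homOfLE hUW ≫ terminal.from _ from Subsingleton.elim _ _]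
      infer_instance
    have : IsSeparated (f ∣_ U) := IsSeparated.of_comp _ (terminal.from _)
    exact ⟨⟩
  obtain ⟨U₁, hyU₁, hU₁⟩ := exists_isFinite_morphismRestrict_of_finite_preimage_singleton
    (f ∣_ U) ⟨y, hyU⟩ (by
      refine Set.Subsingleton.finite fun a ha b hb => (f ⁻¹ᵁ U).ι.isOpenEmbedding.injective ?_
      have : ∀ a, (f ∣_ U) a = ⟨y, hyU⟩ → f ((f ⁻¹ᵁ U).ι a) = y := fun a ha => by
        rw [← Scheme.Hom.comp_apply, ← morphismRestrict_ι, Scheme.Hom.comp_apply, ha]
        rfl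
      exact hfinset (this a ha) (this b hb))
  have : MorphismProperty.RespectsIso (@IsFinite : MorphismProperty Scheme.{u}) :=
    MorphismProperty.IsStableUnderBaseChange.respectsIso
  have hfinU : IsFinite (f ∣_ U.ι ''ᵁ U₁) :=
    (MorphismProperty.arrow_mk_iso_iff (P := @IsFinite) (morphismRestrictRestrict f U U₁)).mp hU₁
  obtain ⟨_, ⟨(U₂ : Y.Opens), hU₂, rfl⟩, hyU₂, hU₂le⟩ :=
    Y.isBasis_affineOpens.exists_subset_of_mem_open
      (show y ∈ (U.ι ''ᵁ U₁ : Y.Opens) from ⟨⟨y, hyU⟩, hyU₁, rfl⟩) (U.ι ''ᵁ U₁).2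
  obtain ⟨p, hp⟩ : y ∈ Set.range hU₂.fromSpec := by rw [hU₂.range_fromSpec]; exact hyU₂
  subst hp
  have := hU₂.isOpenImmersion_fromSpec
  refine exists_of_finite f hU₂.fromSpec ?_ p hfib
  refine snd_of_factor @IsFinite f (U.ι ''ᵁ U₁).ι (hU₂.isoSpec.inv ≫ Y.homOfLE hU₂le) _ ?_
    ((snd_ι_iff @IsFinite f _).mp hfinU)
  rw [Category.assoc]
  exact (congrArg (hU₂.isoSpec.inv ≫ ·) (Scheme.homOfLE_ι _ _)).trans hU₂.isoSpec_inv_ι

end Groth.FlatmorThree.FibreCI
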