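import Groth.Prelude.Def_DRing2
import Mathlib.CategoryTheory.Abelian.Projective.Extend
import Mathlib.Algebra.Category.ModuleCat.Projective
import Mathlib.RingTheory.Noetherian.Basic
import Mathlib.LinearAlgebra.StdBasis
import Mathlib.Algebra.Homology.ShortComplex.ModuleCat
import Mathlib.RingTheory.Finiteness.Basic
import Mathlib.LinearAlgebra.FreeModule.Finite.Basic

/-!
# Finite modules over Noetherian rings are pseudo-coherent

Construction of a resolution by finite free modules.
-/

universe u
open CategoryTheory Limits

attribute [local instance] HasDerivedCategory.standard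

namespace Groth.FlatmorThree.FFRes

noncomputable section

variable (R : Type u) [CommRing R]

/-- Finite modules. -/
structure FinMod where
  M : ModuleCat.{u} R
  finite : Module.Finite R M

variable {R}

/-- The number of generators chosen. -/
def rk (N : FinMod R) : ℕ :=
  (@Module.Finite.exists_fin' R N.M _ _ _ N.finite).choose

/-- The chosen surjection from a finite free module. -/
def cover (N : FinMod R) : (Fin (rk N) → R) →ₗ[R] N.M :=
  (@Module.Finite.exists_fin' R N.M _ _ _ N.finite).choose_spec.choose

lemma cover_surjective (N : FinMod R) : Function.Surjective (cover N) :=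
  (@Module.Finite.exists_fin' R N.M _ _ _ N.finite).choose_spec.choose_spec

variable [IsNoetherianRing R]

/-- The next syzygy. -/
def next (N : FinMod R) : FinMod R :=
  ⟨ModuleCat.of R (LinearMap.ker (cover N)),
    inferInstanceAs (Module.Finite R (LinearMap.ker (cover N)))⟩

/-- The syzygies. -/
def syz (N : FinMod R) : ℕ → FinMod R
  | 0 => N
  | n + 1 => next (syz N n)

/-- The terms of the resolution. -/
def term (N : FinMod R) (n : ℕ) : ModuleCat.{u} R := ModuleCat.of R (Fin (rk (syz N n)) → R)

/-- The differentials. -/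
def diff (N : FinMod R) (n : ℕ) : term N (n + 1) ⟶ term N n :=
  ModuleCat.ofHom ((LinearMap.ker (cover (syz N n))).subtype ∘ₗ cover (syz N (n + 1)))

lemma mem_range_diff {N : FinMod R} {n : ℕ} {x : Fin (rk (syz N n)) → R} :
    (∃ y, (diff N n).hom y = x) ↔ cover (syz N n) x = 0 := by
  constructor
  · rintro ⟨y, rfl⟩
    exact (cover (syz N (n + 1)) y).2
  · intro hx
    obtain ⟨y, hy⟩ := cover_surjective (syz N (n + 1)) (⟨x, hx⟩ : LinearMap.ker (cover (syz N n)))
    exact ⟨y, congrArg Subtype.val hy⟩

lemma diff_eq_zero_iff {N : FinMod R} {n : ℕ} {x : Fin (rk (syz N (n + 1))) → R} :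
    (diff N n).hom x = 0 ↔ cover (syz N (n + 1)) x = 0 :=
  ⟨fun h => Subtype.ext h, fun h => congrArg Subtype.val h⟩

/-- The resolution. -/
def complex (N : FinMod R) : ChainComplex (ModuleCat.{u} R) ℕ :=
  ChainComplex.of (term N) (diff N) fun n => ModuleCat.hom_ext <| LinearMap.ext fun x => by
    show (diff N n).hom ((diff N (n + 1)).hom x) = 0
    exact diff_eq_zero_iff.mpr ((mem_range_diff (n := n + 1)).mp ⟨x, rfl⟩)

lemma complex_d (N : FinMod R) (n : ℕ) : (complex N).d (n + 1) n = diff N n :=
  ChainComplex.of_d _ _ _

/-- The augmentation. -/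
def aug (N : FinMod R) : (complex N).X 0 ⟶ N.M := ModuleCat.ofHom (cover N)

lemma d_aug (N : FinMod R) : (complex N).d 1 0 ≫ aug N = 0 := by
  rw [complex_d]
  exact ModuleCat.hom_ext <| LinearMap.ext fun x => (mem_range_diff (N := N) (n := 0)).mp ⟨x, rfl⟩

instance projective_term (N : FinMod R) (n : ℕ) : Projective ((complex N).X n) :=
  ModuleCat.projective_of_free (Pi.basisFun R (Fin (rk (syz N n))))

/-- The resolution as a projective resolution. -/
def resolution (N : FinMod R) : ProjectiveResolution N.M where
  complex := complex N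
  π := (ChainComplex.toSingle₀Equiv _ _).symm ⟨aug N, d_aug N⟩
  quasiIso := ⟨fun n => by
    cases n with
    | zero =>
      rw [ChainComplex.quasiIsoAt₀_iff, ShortComplex.quasiIso_iff_of_zeros']
      · refine (ShortComplex.exact_and_epi_g_iff_of_iso
          (S₂ := ShortComplex.mk ((complex N).d 1 0) (aug N) (d_aug N)) ?_).2 ⟨?_, ?_⟩
        · exact ShortComplex.isoMk (Iso.refl _) (Iso.refl _) (Iso.refl _)
            (by erw [Category.id_comp]) (by erw [Category.id_comp])
        · rw [ShortComplex.moduleCat_exact_iff]
          intro x hx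
          obtain ⟨y, hy⟩ := (mem_range_diff (N := N) (n := 0)).mpr hx
          exact ⟨y, by simp only [complex_d]; exact hy⟩
        · exact (ModuleCat.epi_iff_surjective _).mpr (cover_surjective N)
      all_goals rfl
    | succ n =>
      rw [quasiIsoAt_iff_exactAt']
      · rw [HomologicalComplex.exactAt_iff' _ (n + 1 + 1) (n + 1) n (by simp) (by simp),
          ShortComplex.moduleCat_exact_iff]
        intro x hx
        have hx' : (diff N n).hom x = 0 := by rw [← complex_d]; exact hx
        obtain ⟨y, hy⟩ := (mem_range_diff (n := n + 1)).mpr (diff_eq_zero_iff.mp hx')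
        exact ⟨y, by
          show ((complex N).d (n + 1 + 1) (n + 1)).hom y = x
          rw [complex_d]
          exact hy⟩
      · exact ChainComplex.exactAt_succ_single_obj _ _⟩

/-- A finite module over a Noetherian ring is pseudo-coherent. -/
theorem isPseudoCoherentModule'_of_finite (M : Type u) [AddCommGroup M] [Module R M]
    [hM : Module.Finite R M] : DRing.IsPseudoCoherentModule' R M := by
  let P := resolution (⟨ModuleCat.of R M, hM⟩ : FinMod R)
  refine ⟨P.cochainComplex, 0, fun i hi => CochainComplex.isZero_of_isStrictlyLE _ 0 i hi,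
    fun i => ?_, ⟨asIso (DerivedCategory.Q.map P.π') ≪≫
      ((DerivedCategory.singleFunctorIsoCompQ (ModuleCat.{u} R) 0).app _).symm⟩⟩
  by_cases hi : i ≤ 0
  · obtain ⟨k, rfl⟩ := Int.exists_eq_neg_ofNat hi
    let e := (P.cochainComplexXIso (-k) k).toLinearEquiv
    let n := rk (syz (⟨ModuleCat.of R M, hM⟩ : FinMod R) k)
    have h1 : Module.Finite R (Fin n → R) := Module.Finite.pi
    have h2 : Module.Free R (Fin n → R) := Module.Free.of_basis (Pi.basisFun R (Fin n))
    let e' : (Fin n → R) ≃ₗ[R] (P.cochainComplex.X (-(k : ℤ))) := e.symm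
    exact ⟨Module.Finite.equiv e', Module.Free.of_equiv e'⟩
  · have := ModuleCat.subsingleton_of_isZero
      (CochainComplex.isZero_of_isStrictlyLE P.cochainComplex 0 i (not_le.mp hi))
    exact ⟨inferInstance, Module.Free.of_subsingleton R _⟩

end

end Groth.FlatmorThree.FFRes
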