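import Groth.Agent.FlatmorThree.GeomIrred
import Groth.Agent.FlatmorThree.Pencil
import Mathlib.RingTheory.AlgebraicIndependent.Transcendental
import Mathlib.Algebra.MvPolynomial.Equiv

/-! Generic linear sections of a geometrically irreducible field extension. -/

set_option autoImplicit false
set_option maxHeartbeats 1000000

universe u

open IntermediateField TensorProduct

namespace Groth.FlatmorThree.GenericSection

theorem exists_field_quotient {k K A : Type u} [Field k] [Field K] [Algebra k K] [CommRing A]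
    [Algebra K A] (hN : (nilradical A).IsPrime) :
    ∃ (M : Type u) (_ : Field M) (_ : Algebra K M) (_ : Algebra k M) (_ : IsScalarTower k K M)
      (q : A →ₐ[K] M), ∀ z, q z = 0 → IsNilpotent z := by
  let _ : Algebra k (FractionRing (A ⧸ nilradical A)) :=
    ((algebraMap K (FractionRing (A ⧸ nilradical A))).comp (algebraMap k K)).toAlgebra
  refine ⟨FractionRing (A ⧸ nilradical A), inferInstance, inferInstance, inferInstance,
    IsScalarTower.of_algebraMap_eq fun _ => rfl,
    (IsScalarTower.toAlgHom K (A ⧸ nilradical A) (FractionRing (A ⧸ nilradical A))).comp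
      (Ideal.Quotient.mkₐ K (nilradical A)), fun z hz => ?_⟩
  refine mem_nilradical.mp (Ideal.Quotient.eq_zero_iff_mem.mp ?_)
  exact IsFractionRing.injective (A ⧸ nilradical A) (FractionRing (A ⧸ nilradical A))
    (hz.trans (map_zero _).symm)

theorem isSeparable_map {L Ω F Ω' : Type u} [Field L] [Field Ω] [Algebra L Ω] [Field F] [Field Ω']
    [Algebra F Ω'] (f : Ω →+* Ω') (e : L →+* F)
    (he : (algebraMap F Ω').comp e = f.comp (algebraMap L Ω)) {a : Ω} (ha : IsSeparable L a) :
    IsSeparable F (f a) := by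
  refine Polynomial.Separable.of_dvd (Polynomial.Separable.map ha (f := e)) (minpoly.dvd _ _ ?_)
  rw [Polynomial.aeval_def, Polynomial.eval₂_map, he]
  have h0 := congrArg f (minpoly.aeval L a)
  rw [Polynomial.aeval_def, map_zero, Polynomial.hom_eval₂] at h0
  exact h0

section SepClosed

variable {k K : Type u} [Field k] [Field K] [Algebra k K] {ι : Type}

local notation "P" => MvPolynomial ι K
local notation "Ω'" => FractionRing (MvPolynomial ι K)

/-- The subfield `k(x)` of `K(x)`. -/
noncomputable abbrev base (k K : Type u) (ι : Type) [Field k] [Field K] [Algebra k K] :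
    IntermediateField k (FractionRing (MvPolynomial ι K)) :=
  adjoin k (Set.range fun i => algebraMap (MvPolynomial ι K) (FractionRing (MvPolynomial ι K))
    (MvPolynomial.X i))

/-- `k(x)` is separably closed in `K(x)` if `K` is geometrically irreducible over `k`. -/
theorem sepClosedIn_base (hK : ∀ (F : Type u) [Field F] [Algebra k F], (nilradical (K ⊗[k] F)).IsPrime) :
    ∀ a : Ω', IsSeparable (base k K ι) a → a ∈ Set.range (algebraMap (base k K ι) Ω') := by
  refine Groth.VarietyBC.sepClosedIn_self_of_nilradical_isPrime ?_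
  obtain ⟨M, _, _, _, _, q, hq⟩ := exists_field_quotient (k := k) (K := K) (hK Ω')
  let w : P →ₐ[K] K ⊗[k] Ω' := MvPolynomial.aeval fun i => (1 : K) ⊗ₜ algebraMap P Ω' (MvPolynomial.X i)
  let μ : K ⊗[k] Ω' →ₐ[K] Ω' :=
    Algebra.TensorProduct.lift (Algebra.ofId K Ω') (AlgHom.id k Ω') fun _ _ => Commute.all _ _
  have hμw : μ.comp w = IsScalarTower.toAlgHom K P Ω' :=
    MvPolynomial.algHom_ext fun i => by simp [μ, w]
  have hπ : Function.Injective (q.comp w) := (injective_iff_map_eq_zero _).mpr fun p hp => by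
    have h : IsNilpotent (μ (w p)) := (hq (w p) hp).map μ
    rw [show μ (w p) = algebraMap P Ω' p from DFunLike.congr_fun hμw p] at h
    exact IsFractionRing.injective P Ω' (h.eq_zero.trans (map_zero _).symm)
  let Φl : Ω' →ₐ[K] M := IsFractionRing.liftAlgHom hπ
  have hΦl : ∀ p : P, Φl (algebraMap P Ω' p) = q (w p) := fun p =>
    IsFractionRing.lift_algebraMap hπ p
  let Φr : Ω' →ₐ[k] M := (q.restrictScalars k).comp Algebra.TensorProduct.includeRight
  have hagree : ∀ x ∈ base k K ι, Φl x = Φr x := by
    intro x hx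
    induction hx using adjoin_induction with
    | mem x hx =>
      obtain ⟨i, rfl⟩ := hx
      rw [hΦl]
      rw [show w (MvPolynomial.X i) = (1 : K) ⊗ₜ algebraMap P Ω' (MvPolynomial.X i) from
        MvPolynomial.aeval_X _ i]
      rfl
    | algebraMap c =>
      rw [Φr.commutes]
      exact (Φl.restrictScalars k).commutes c
    | add x y _ _ hx hy => rw [map_add, map_add, hx, hy]
    | inv x _ hx => rw [map_inv₀, map_inv₀, hx]
    | mul x y _ _ hx hy => rw [map_mul, map_mul, hx, hy]
  let _ : Algebra (base k K ι) M := (Φr.toRingHom.comp (algebraMap (base k K ι) Ω')).toAlgebra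
  let Φl' : Ω' →ₐ[base k K ι] M := ⟨Φl.toRingHom, fun c => hagree _ c.2⟩
  let Φr' : Ω' →ₐ[base k K ι] M := ⟨Φr.toRingHom, fun c => rfl⟩
  let Φ : Ω' ⊗[base k K ι] Ω' →ₐ[base k K ι] M :=
    Algebra.TensorProduct.lift Φl' Φr' fun _ _ => Commute.all _ _
  let ψ : K ⊗[k] Ω' →+* Ω' ⊗[base k K ι] Ω' :=
    (Algebra.TensorProduct.lift
      (((Algebra.TensorProduct.includeLeft :
          Ω' →ₐ[base k K ι] Ω' ⊗[base k K ι] Ω').restrictScalars k).comp (IsScalarTower.toAlgHom k K Ω'))
      ((Algebra.TensorProduct.includeRight (A := Ω')).restrictScalars k)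
      fun _ _ => Commute.all _ _).toRingHom
  have hψt : ∀ (a : K) (f : Ω'), ψ (a ⊗ₜ f) = algebraMap K Ω' a ⊗ₜ f := fun a f => by
    simp [ψ]
  have hψw : ∀ p : P, ψ (w p) = algebraMap P Ω' p ⊗ₜ 1 := by
    intro p
    refine RingHom.congr_fun (MvPolynomial.ringHom_ext (f := ψ.comp w.toRingHom)
      (g := (Algebra.TensorProduct.includeLeftRingHom).comp (algebraMap P Ω')) (fun c => ?_)
      fun i => ?_) p
    · show ψ (w (MvPolynomial.C c)) = algebraMap P Ω' (MvPolynomial.C c) ⊗ₜ 1
      rw [show w (MvPolynomial.C c) = c ⊗ₜ 1 from (w.commutes c).trans rfl, hψt,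
        IsScalarTower.algebraMap_apply K P Ω', MvPolynomial.algebraMap_eq]
    · show ψ (w (MvPolynomial.X i)) = algebraMap P Ω' (MvPolynomial.X i) ⊗ₜ 1
      let e : base k K ι := ⟨_, subset_adjoin k _ ⟨i, rfl⟩⟩
      rw [show w (MvPolynomial.X i) = 1 ⊗ₜ algebraMap P Ω' (MvPolynomial.X i) from
        MvPolynomial.aeval_X _ i, hψt, map_one,
        show algebraMap P Ω' (MvPolynomial.X i) = e • (1 : Ω') from (mul_one _).symm,
        TensorProduct.smul_tmul]
  have hΦψ : ∀ z, Φ (ψ z) = q z := by
    intro z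
    induction z with
    | zero => simp only [map_zero]
    | tmul a f =>
      rw [hψt, show Φ (algebraMap K Ω' a ⊗ₜ f) = Φl' (algebraMap K Ω' a) * Φr' f from
          Algebra.TensorProduct.lift_tmul _ _ _ _ _,
        show a ⊗ₜ[k] f = (a ⊗ₜ[k] (1 : Ω')) * ((1 : K) ⊗ₜ f) by simp, map_mul]
      exact congrArg (· * _) ((Φl.commutes a).trans (q.commutes a).symm)
    | add x y hx hy => simp only [map_add, hx, hy]
  have hfrac : ∀ z : Ω' ⊗[base k K ι] Ω', ∃ p : P, p ≠ 0 ∧ ∃ v, z * (algebraMap P Ω' p ⊗ₜ 1) = ψ v := by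
    intro z
    induction z with
    | zero => exact ⟨1, one_ne_zero, 0, by rw [zero_mul, map_zero]⟩
    | tmul y f =>
      obtain ⟨a, b, hb, rfl⟩ := IsFractionRing.div_surjective P y
      have hb0 : algebraMap P Ω' b ≠ 0 := fun h =>
        nonZeroDivisors.ne_zero hb (IsFractionRing.injective P Ω' (h.trans (map_zero _).symm))
      refine ⟨b, nonZeroDivisors.ne_zero hb, w a * (1 ⊗ₜ f), ?_⟩
      rw [map_mul, hψw, hψt, map_one, Algebra.TensorProduct.tmul_mul_tmul,
        Algebra.TensorProduct.tmul_mul_tmul, mul_one, mul_one, one_mul, div_mul_cancel₀ _ hb0]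
    | add x y hx hy =>
      obtain ⟨p, hp, v, hv⟩ := hx
      obtain ⟨p', hp', v', hv'⟩ := hy
      refine ⟨p * p', mul_ne_zero hp hp', v * w p' + v' * w p, ?_⟩
      rw [map_add, map_mul ψ, map_mul ψ, hψw, hψw, ← hv, ← hv', map_mul]
      simp only [add_mul, mul_assoc, Algebra.TensorProduct.tmul_mul_tmul, mul_one]
      rw [mul_comm (algebraMap P Ω' p) (algebraMap P Ω' p')]
  have hker : ∀ z, Φ z = 0 → IsNilpotent z := by
    intro z hz
    obtain ⟨p, hp, v, hv⟩ := hfrac z
    have h1 : IsNilpotent (ψ v) :=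
      (hq v (by rw [← hΦψ, ← hv, map_mul, hz, zero_mul])).map ψ
    have hu : IsUnit (algebraMap P Ω' p ⊗ₜ[base k K ι] (1 : Ω')) := by
      refine (IsUnit.mk0 (algebraMap P Ω' p) ?_).map
        (Algebra.TensorProduct.includeLeftRingHom (R := base k K ι) (A := Ω') (B := Ω'))
      exact fun h => hp (IsFractionRing.injective P Ω' (h.trans (map_zero _).symm))
    rwa [← (hu.isNilpotent_mul_unit_of_commute_iff (Commute.all _ _)), hv]
  have : nilradical (Ω' ⊗[base k K ι] Ω') = RingHom.ker Φ := by
    ext z
    refine ⟨fun h => ((mem_nilradical.mp h).map Φ).eq_zero, fun h => mem_nilradical.mpr (hker z h)⟩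
  rw [this]
  exact RingHom.ker_isPrime _

end SepClosed

section Main

open MvPolynomial (C X aeval)

variable {k K : Type u} [Field k] [Field K] [Algebra k K] {α : Type}

local notation "P" => MvPolynomial (Option α) K
local notation "Ω'" => FractionRing (MvPolynomial (Option α) K)
local notation "Ω" => FractionRing (MvPolynomial α K)

/-- The variables of `K(x, Y)`. -/
noncomputable abbrev gen (o : Option α) : Ω' := algebraMap P Ω' (X o)

/-- The inclusion of `K(x)` into `K(x, Y)`. -/
noncomputable def incl : Ω →ₐ[K] Ω' :=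
  IsFractionRing.liftAlgHom (g := (IsScalarTower.toAlgHom K P Ω').comp (MvPolynomial.rename some))
    ((IsFractionRing.injective P Ω').comp (MvPolynomial.rename_injective _ (Option.some_injective _)))

theorem incl_algebraMap (p : MvPolynomial α K) :
    incl (algebraMap (MvPolynomial α K) Ω p) = algebraMap P Ω' (MvPolynomial.rename some p) :=
  IsFractionRing.lift_algebraMap
    (g := ((IsScalarTower.toAlgHom K P Ω').comp (MvPolynomial.rename some)).toRingHom)
    ((IsFractionRing.injective P Ω').comp (MvPolynomial.rename_injective _ (Option.some_injective _))) p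

theorem incl_X (i : α) : incl (algebraMap (MvPolynomial α K) Ω (X i)) = gen (some i) := by
  rw [incl_algebraMap, MvPolynomial.rename_X]

/-- The extra variable is transcendental over `K(x)`. -/
theorem eq_zero_of_eval₂_gen_none (p : Polynomial Ω)
    (h : p.eval₂ (incl : Ω →ₐ[K] Ω').toRingHom (gen none) = 0) : p = 0 := by
  let _ : Algebra Ω Ω' := (incl : Ω →ₐ[K] Ω').toRingHom.toAlgebra
  let _ : Algebra (MvPolynomial α K) Ω' :=
    ((incl : Ω →ₐ[K] Ω').toRingHom.comp (algebraMap (MvPolynomial α K) Ω)).toAlgebra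
  have : IsScalarTower (MvPolynomial α K) Ω Ω' := .of_algebraMap_eq fun _ => rfl
  have hY : Transcendental (MvPolynomial α K) (gen none : Ω') := by
    rw [transcendental_iff_injective]
    have heq : (Polynomial.aeval (R := MvPolynomial α K) (gen none : Ω')).toRingHom =
        (algebraMap P Ω').comp (MvPolynomial.optionEquivLeft K α).symm.toRingEquiv.toRingHom := by
      refine Polynomial.ringHom_ext (fun r => ?_) ?_
      · show Polynomial.aeval _ (Polynomial.C r) = algebraMap P Ω' _
        rw [Polynomial.aeval_C]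
        refine (incl_algebraMap r).trans (congrArg _ ?_)
        show MvPolynomial.rename some r = (MvPolynomial.optionEquivLeft K α).symm (Polynomial.C r)
        rw [MvPolynomial.optionEquivLeft_symm_apply, Polynomial.aevalTower_C]
      · show Polynomial.aeval _ Polynomial.X = algebraMap P Ω' _
        rw [Polynomial.aeval_X]
        refine congrArg (algebraMap P Ω') ?_
        show (X none : P) = (MvPolynomial.optionEquivLeft K α).symm Polynomial.X
        rw [MvPolynomial.optionEquivLeft_symm_apply, Polynomial.aevalTower_X]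
    show Function.Injective (Polynomial.aeval (R := MvPolynomial α K) (gen none : Ω')).toRingHom
    rw [heq]
    exact (IsFractionRing.injective P Ω').comp (AlgEquiv.injective _)
  have : Algebra.IsAlgebraic (MvPolynomial α K) Ω :=
    IsLocalization.isAlgebraic _ (nonZeroDivisors (MvPolynomial α K))
  exact transcendental_iff.mp (hY.extendScalars Ω) p h

/-- The transvection `x ↦ x + d Y^j`, `Y ↦ Y`. -/
noncomputable def shiftHom (d : α → k) (j : ℕ) : P →ₐ[K] P :=
  MvPolynomial.aeval fun o => o.elim (X none) fun i => X (some i) + C (algebraMap k K (d i)) * X none ^ j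

theorem shiftHom_comp (d : α → k) (j : ℕ) :
    (shiftHom d j).comp (shiftHom (K := K) (-d) j) = AlgHom.id K P :=
  MvPolynomial.algHom_ext fun o => by
    cases o
    · simp [shiftHom]
    · simp [shiftHom]

noncomputable def shift (d : α → k) (j : ℕ) : P ≃ₐ[K] P :=
  AlgEquiv.ofAlgHom (shiftHom d j) (shiftHom (-d) j) (shiftHom_comp d j)
    (by simpa using shiftHom_comp (K := K) (-d) j)

noncomputable def shiftFrac (d : α → k) (j : ℕ) : Ω' ≃ₐ[K] Ω' :=
  IsFractionRing.algEquivOfAlgEquiv (shift d j)

theorem shiftFrac_gen_none (d : α → k) (j : ℕ) :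
    shiftFrac d j (gen none : Ω') = gen none := by
  simp [shiftFrac, shift, shiftHom, gen]

theorem shiftFrac_gen_some (d : α → k) (j : ℕ) (i : α) :
    shiftFrac d j (gen (some i) : Ω') =
      gen (some i) + algebraMap K Ω' (algebraMap k K (d i)) * gen none ^ j := by
  simp [shiftFrac, shift, shiftHom, gen, IsScalarTower.algebraMap_apply K P Ω']

theorem shiftFrac_mem (d : α → k) (j : ℕ) (o : Option α) :
    shiftFrac d j (gen o : Ω') ∈ base k K (Option α) := by
  have hm : ∀ o : Option α, (gen o : Ω') ∈ base k K (Option α) := fun o =>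
    subset_adjoin k _ ⟨o, rfl⟩
  cases o with
  | none => rw [shiftFrac_gen_none]; exact hm _
  | some i =>
    rw [shiftFrac_gen_some, ← IsScalarTower.algebraMap_apply k K Ω']
    exact add_mem (hm _) (mul_mem ((base k K (Option α)).algebraMap_mem _) (pow_mem (hm _) j))

theorem shiftFrac_image (d : α → k) (j : ℕ) :
    shiftFrac d j '' (base k K (Option α) : Set Ω') = base k K (Option α) := by
  have key : ∀ e : α → k, (base k K (Option α)).map
      ((shiftFrac e j : Ω' ≃ₐ[K] Ω').toAlgHom.restrictScalars k) ≤ base k K (Option α) := fun e => by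
    rw [base, adjoin_map, adjoin_le_iff]
    rintro _ ⟨_, ⟨o, rfl⟩, rfl⟩
    exact shiftFrac_mem e j o
  refine Set.Subset.antisymm (fun _ ⟨x, hx, hxy⟩ => hxy ▸ key d ⟨x, hx, rfl⟩) fun x hx => ?_
  refine ⟨(shiftFrac d j).symm x, ?_, AlgEquiv.apply_symm_apply _ _⟩
  have : ((shiftFrac d j).symm : Ω' ≃ₐ[K] Ω').toAlgHom = (shiftFrac (-d) j).toAlgHom := by
    apply IsLocalization.algHom_ext (nonZeroDivisors P)
    refine MvPolynomial.algHom_ext fun o => ?_
    show (shiftFrac d j).symm (gen o) = shiftFrac (-d) j (gen o)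
    rw [AlgEquiv.symm_apply_eq]
    cases o with
    | none => rw [shiftFrac_gen_none, shiftFrac_gen_none]
    | some i =>
      rw [shiftFrac_gen_some, map_add, map_mul, map_pow, shiftFrac_gen_some, shiftFrac_gen_none,
        AlgEquiv.commutes, Pi.neg_apply, map_neg, map_neg]
      ring
  rw [show (shiftFrac d j).symm x = shiftFrac (-d) j x from DFunLike.congr_fun this x]
  exact key (-d) ⟨x, hx, rfl⟩

set_option synthInstance.maxHeartbeats 200000 in
/-- The generic linear section: `k(x, ξ)` is separably closed in `K(x)`. -/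
theorem sepClosedIn [Fintype α] [Algebra.EssFiniteType k K]
    (hK : ∀ (F : Type u) [Field F] [Algebra k F], (nilradical (K ⊗[k] F)).IsPrime)
    (g : α → K) (c : α → k)
    (hind : AlgebraicIndependent k (Sum.elim (fun i : α => algebraMap (MvPolynomial α K) Ω (X i))
      ![∑ i, algebraMap K Ω (g i) * algebraMap (MvPolynomial α K) Ω (X i),
        algebraMap K Ω (∑ i, c i • g i)]))
    (a : Ω)
    (ha : IsSeparable (adjoin k (Set.range (fun i : α => algebraMap (MvPolynomial α K) Ω (X i)) ∪
      {∑ i, algebraMap K Ω (g i) * algebraMap (MvPolynomial α K) Ω (X i)})) a) :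
    a ∈ adjoin k (Set.range (fun i : α => algebraMap (MvPolynomial α K) Ω (X i)) ∪
      {∑ i, algebraMap K Ω (g i) * algebraMap (MvPolynomial α K) Ω (X i)}) := by
  classical
  let k₀ := base k K (Option α)
  let ξ₀ : Ω := ∑ i, algebraMap K Ω (g i) * algebraMap (MvPolynomial α K) Ω (X i)
  let η₀ : Ω := algebraMap K Ω (∑ i, c i • g i)
  let x₀ : α → Ω := fun i => algebraMap (MvPolynomial α K) Ω (X i)
  let L := adjoin k (Set.range x₀ ∪ {ξ₀})
  let ι : Ω →ₐ[K] Ω' := incl
  let ιk : Ω →ₐ[k] Ω' := ι.restrictScalars k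
  let ξ : Ω' := ι ξ₀
  let η : Ω' := ι η₀
  have hξ : ξ = ∑ i, algebraMap K Ω' (g i) * gen (some i) := by
    simp only [ξ, ξ₀, map_sum, map_mul, AlgHom.commutes, ι, incl_X]
  have hY : ∀ p : Polynomial Ω, p.eval₂ ι.toRingHom (gen none) = 0 → p = 0 :=
    eq_zero_of_eval₂_gen_none
  let T : ℕ → k₀ := fun j => (⟨gen none, subset_adjoin k _ ⟨none, rfl⟩⟩ : k₀) ^ j
  have hT : Function.Injective T := fun i j h => by
    by_contra hij
    have h0 := hY (Polynomial.X ^ i - Polynomial.X ^ j) (by
      rw [Polynomial.eval₂_sub, Polynomial.eval₂_X_pow, Polynomial.eval₂_X_pow]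
      exact sub_eq_zero.mpr (by simpa [T] using congrArg Subtype.val h))
    have := congrArg (Polynomial.coeff · i) h0
    simp [Polynomial.coeff_X_pow, hij] at this
  have : Infinite k₀ := Infinite.of_injective T hT
  have : Algebra.EssFiniteType k Ω' := by
    have : Algebra.EssFiniteType K P := inferInstance
    have : Algebra.EssFiniteType P Ω' :=
      Algebra.EssFiniteType.of_isLocalization _ (nonZeroDivisors P)
    have : Algebra.EssFiniteType k P := Algebra.EssFiniteType.comp k K P
    exact Algebra.EssFiniteType.comp k P Ω'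
  have : Algebra.EssFiniteType k₀ Ω' := Algebra.EssFiniteType.of_comp k k₀ Ω'
  -- algebraic independence
  have hind' : AlgebraicIndependent k₀ ![ξ, η] := by
    let fam : α ⊕ Fin 2 → Ω := Sum.elim x₀ ![ξ₀, η₀]
    have h1 : AlgebraicIndependent k (ιk ∘ fam) := hind.map' ι.injective
    have h2 : AlgebraicIndependent k fun o : Option (α ⊕ Fin 2) => o.elim (gen none) (ιk ∘ fam) := by
      rw [h1.option_iff_transcendental, transcendental_iff]
      intro p hp
      let A := Algebra.adjoin k (Set.range (ιk ∘ fam))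
      have hA : A = (Algebra.adjoin k (Set.range fam)).map ιk := by
        rw [AlgHom.map_adjoin, ← Set.range_comp]
      have hlift : ∀ i, ∃ y : Ω, ιk y = (p.coeff i : Ω') := fun i => by
        obtain ⟨y, -, hy⟩ := hA.le (p.coeff i).2
        exact ⟨y, hy⟩
      have hmem : p.map (algebraMap A Ω') ∈ Polynomial.lifts ι.toRingHom :=
        (Polynomial.lifts_iff_coeff_lifts _).mpr fun i => by
          rw [Polynomial.coeff_map]
          exact hlift i
      obtain ⟨q, hq⟩ := hmem
      rw [Polynomial.coe_mapRingHom] at hq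
      have hq0 : q = 0 := hY q (by
        rw [← Polynomial.eval_map, hq, Polynomial.eval_map]
        exact hp)
      rw [hq0, Polynomial.map_zero] at hq
      exact (Polynomial.map_eq_zero_iff Subtype.val_injective).mp hq.symm
    have h3 : AlgebraicIndependent k (Sum.elim ![ξ, η] (gen : Option α → Ω')) := by
      have := h2.comp (Sum.elim (fun l => some (Sum.inr l)) fun o : Option α => o.map Sum.inl) ?_
      · convert this using 1
        funext l
        rcases l with l | (_ | i)
        · fin_cases l <;> rfl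
        · rfl
        · exact (incl_X i).symm
      · rintro (l | (_ | i)) (l' | (_ | i')) h <;> simp_all
    have h4 := (AlgebraicIndependent.sumElim_iff.mp h3)
    exact algebraicIndependent_adjoin_iff.mpr h4.2
  -- the pencil
  have hσξ : ∀ j, shiftFrac c j ξ = ξ + T j • η := fun j => by
    rw [hξ, map_sum, show T j • η = gen none ^ j * η by simp [T, Algebra.smul_def, IntermediateField.coe_pow]]
    simp only [map_mul, AlgEquiv.commutes, shiftFrac_gen_some, η, η₀, ι, AlgHom.commutes, map_sum,
      Algebra.smul_def, mul_add, Finset.sum_add_distrib, Finset.mul_sum]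
    congr 1
    exact Finset.sum_congr rfl fun i _ => by ring
  have hrange : Set.range (algebraMap k₀ Ω') = (k₀ : Set Ω') := Subtype.range_coe
  let Lf : IntermediateField k Ω' := (adjoin k₀ {ξ}).restrictScalars k
  have hLf : ∀ y ∈ L, ιk y ∈ Lf := by
    intro y hy
    have hle : L.map ιk ≤ Lf := by
      rw [adjoin_map, adjoin_le_iff]
      rintro _ ⟨z, (⟨i, rfl⟩ | rfl), rfl⟩
      · show ι (x₀ i) ∈ adjoin k₀ {ξ}
        rw [show ι (x₀ i) = gen (some i) from incl_X i]
        exact (adjoin k₀ {ξ}).algebraMap_mem (⟨_, subset_adjoin k _ ⟨some i, rfl⟩⟩ : k₀)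
      · exact mem_adjoin_simple_self k₀ ξ
    exact hle ⟨y, hy, rfl⟩
  have haS : IsSeparable k₀⟮ξ⟯ (ι a) := by
    let e : L →+* k₀⟮ξ⟯ := (ι.toRingHom.comp (algebraMap L Ω)).codRestrict k₀⟮ξ⟯.toSubfield fun y => hLf _ y.2
    exact isSeparable_map ι.toRingHom e rfl ha
  have hσk : ∀ j, (shiftFrac c j).toRingEquiv '' Set.range (algebraMap k₀ Ω') =
      Set.range (algebraMap k₀ Ω') := fun j => by
    rw [hrange]; exact shiftFrac_image c j
  let σ : ℕ → Ω' ≃+* Ω' := fun j => (shiftFrac c j).toRingEquiv
  have hσξ' : ∀ j, σ j ξ = ξ + T j • η := hσξ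
  have hσk' : ∀ j, σ j '' Set.range (algebraMap k₀ Ω') = Set.range (algebraMap k₀ Ω') := hσk
  have hsc : ∀ b : Ω', IsSeparable k₀ b → b ∈ Set.range (algebraMap k₀ Ω') := sepClosedIn_base hK
  clear_value σ
  have hmem : ι a ∈ k₀⟮ξ⟯ :=
    Pencil.pencil (k₀ := k₀) hsc ξ η hind' T hT σ hσk' hσξ' (ι a) haS
  -- back to `k(x, ξ)`
  let _ : Algebra L Ω' := (ι.toRingHom.comp (algebraMap L Ω)).toAlgebra
  let F : IntermediateField L Ω' := adjoin L {(gen none : Ω')}
  have hLF : ∀ y ∈ L, ιk y ∈ F := fun y hy => F.algebraMap_mem ⟨y, hy⟩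
  have haF : ι a ∈ F := by
    have h0 : (k₀ : Set Ω') ⊆ F := by
      intro y hy
      induction hy using adjoin_induction with
      | mem y hy =>
        obtain ⟨o | i, rfl⟩ := hy
        · exact subset_adjoin L _ rfl
        · show gen (some i) ∈ F
          rw [← incl_X (K := K) i]
          exact hLF _ (subset_adjoin k _ (Or.inl ⟨i, rfl⟩))
      | algebraMap r =>
        rw [← ιk.commutes]
        exact hLF _ (L.algebraMap_mem r)
      | add x y _ _ hx hy => exact add_mem hx hy
      | inv x _ hx => exact inv_mem hx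
      | mul x y _ _ hx hy => exact mul_mem hx hy
    have : k₀⟮ξ⟯.toSubfield ≤ F.toSubfield := by
      rw [Pencil.adjoin_toSubfield, Subfield.closure_le]
      rintro y (hy | rfl)
      · exact h0 (hrange.le hy)
      · exact hLF _ (subset_adjoin k _ (Or.inr rfl))
    exact this hmem
  obtain ⟨p, q, hpq⟩ := (mem_adjoin_simple_iff L _).mp haF
  by_cases hq : Polynomial.aeval (gen none : Ω') q = 0
  · rw [hq, div_zero] at hpq
    rw [ι.injective (hpq.trans (map_zero ι).symm)]
    exact zero_mem _
  have h : Polynomial.C a * q.map (algebraMap L Ω) - p.map (algebraMap L Ω) = 0 := hY _ (by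
    rw [Polynomial.eval₂_sub, Polynomial.eval₂_mul, Polynomial.eval₂_C, Polynomial.eval₂_map,
      Polynomial.eval₂_map]
    show ι a * Polynomial.aeval (gen none : Ω') q - Polynomial.aeval (gen none : Ω') p = 0
    rw [hpq, div_mul_cancel₀ _ hq, sub_self])
  obtain ⟨i, hi⟩ : ∃ i, q.coeff i ≠ 0 := by
    by_contra! hall
    exact hq (by rw [show q = 0 from Polynomial.ext hall, map_zero])
  have := congrArg (Polynomial.coeff · i) h
  simp only [Polynomial.coeff_sub, Polynomial.coeff_C_mul, Polynomial.coeff_map,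
    Polynomial.coeff_zero, sub_eq_zero] at this
  rw [show a = (p.coeff i : Ω) / (q.coeff i : Ω) from
    (eq_div_iff fun h => hi (Subtype.ext h)).mpr this]
  exact div_mem (p.coeff i).2 (q.coeff i).2

end Main

end Groth.FlatmorThree.GenericSection
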