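import Groth.Prelude.Def_SheafNL
import Mathlib.RingTheory.TensorProduct.MvPolynomial
import Mathlib.RingTheory.Flat.Stability
import Mathlib.RingTheory.Extension.Cotangent.Basis
import Mathlib.RingTheory.IsTensorProduct
import Mathlib.RingTheory.RingHom.Flat
import Mathlib.Algebra.Homology.Homotopy

/-! Base change of the naive cotangent complex of a presentation. -/

set_option autoImplicit false
universe u

open CategoryTheory TensorProduct

namespace Groth.FlatmorThree.NL

open Algebra Algebra.Extension

variable {R S R' S' : Type u} [CommRing R] [CommRing S] [CommRing R'] [CommRing S'] [Algebra R S]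
  [Algebra R' S'] [Algebra R R'] [Algebra S S'] [Algebra R S'] [IsScalarTower R R' S'] [IsScalarTower R S S']
  {ι : Type u} (G : Generators R S ι) (G' : Generators R' S' ι) (h : ∀ i, G'.val i = algebraMap S S' (G.val i))

/-- The `S'`-linear extension of the cotangent map. -/
noncomputable abbrev cotMap {P : Extension.{u} R S} {P' : Extension.{u} R' S'} (f : P.Hom P') :
    S' ⊗[S] P.Cotangent →ₗ[S'] P'.Cotangent :=
  LinearMap.liftBaseChange S' (Cotangent.map f)

/-- The `S'`-linear extension of the map of cotangent spaces. -/
noncomputable abbrev spaceMap {P : Extension.{u} R S} {P' : Extension.{u} R' S'} (f : P.Hom P') :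
    S' ⊗[S] P.CotangentSpace →ₗ[S'] P'.CotangentSpace :=
  LinearMap.liftBaseChange S' (CotangentSpace.map f)

theorem spaceMap_cotMap {P : Extension.{u} R S} {P' : Extension.{u} R' S'} (f : P.Hom P')
    (x : S' ⊗[S] P.Cotangent) :
    spaceMap f (P.cotangentComplex.baseChange S' x) = P'.cotangentComplex (cotMap f x) := by
  induction x using TensorProduct.induction_on with
  | zero => simp
  | tmul a y => simp [CotangentSpace.map_cotangentComplex]
  | add a b ha hb => simp only [map_add, ha, hb]

theorem toRingHom_eq :
    (NLCx.sameVarsHom G G' h).toExtensionHom.toRingHom = MvPolynomial.map (algebraMap R R') := by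
  apply MvPolynomial.ringHom_ext
  · intro r
    show (MvPolynomial.aeval (NLCx.sameVarsHom G G' h).val) (MvPolynomial.C r) = _
    rw [MvPolynomial.aeval_C]
    exact (MvPolynomial.map_C (algebraMap R R') r).symm
  · intro i
    show (MvPolynomial.aeval (NLCx.sameVarsHom G G' h).val) (MvPolynomial.X i) = _
    rw [MvPolynomial.aeval_X]
    exact (MvPolynomial.map_X (algebraMap R R') i).symm

theorem spaceMap_bijective : Function.Bijective (spaceMap (NLCx.sameVarsHom G G' h).toExtensionHom) := by
  classical
  let b := G.cotangentSpaceBasis.baseChange S'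
  let b' := G'.cotangentSpaceBasis
  let e := b.equiv b' (Equiv.refl ι)
  have : spaceMap (NLCx.sameVarsHom G G' h).toExtensionHom = e.toLinearMap := by
    apply b.ext
    intro i
    rw [LinearEquiv.coe_coe, Module.Basis.equiv_apply, Equiv.refl_apply]
    simp only [b, Module.Basis.baseChange_apply, LinearMap.liftBaseChange_tmul, one_smul]
    apply b'.repr.injective
    ext j
    rw [Generators.repr_CotangentSpaceMap, Module.Basis.repr_self]
    show MvPolynomial.aeval G'.val (MvPolynomial.pderiv j (MvPolynomial.X i)) = _
    rw [MvPolynomial.pderiv_X]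
    by_cases hij : j = i
    · subst hij; simp
    · simp [Ne.symm hij]
  rw [this]; exact e.bijective

variable [Algebra.IsPushout R R' S S']

theorem map_ker_le {P : Extension.{u} R S} {P' : Extension.{u} R' S'} (f : P.Hom P') :
    P.ker.map f.toRingHom ≤ P'.ker := by
  rw [Ideal.map_le_iff_le_comap]
  intro x hx
  have e := f.algebraMap_toRingHom x
  rw [show algebraMap P.Ring S x = 0 from hx, map_zero] at e
  exact e

include h in
theorem map_ker_le' :
    G.toExtension.ker.map (MvPolynomial.map (algebraMap R R')) ≤ G'.toExtension.ker := by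
  have := map_ker_le (NLCx.sameVarsHom G G' h).toExtensionHom
  rw [toRingHom_eq] at this
  exact this

include h in
/-- The kernel of the base-changed presentation is generated by the kernel of the original one. -/
theorem ker_le_map :
    G'.toExtension.ker ≤ G.toExtension.ker.map (MvPolynomial.map (algebraMap R R')) := by
  let P₀ := MvPolynomial ι R
  let I₀ : Ideal P₀ := G.toExtension.ker
  let J : Ideal (MvPolynomial ι R') := I₀.map (MvPolynomial.map (σ := ι) (algebraMap R R'))
  let Q := MvPolynomial ι R' ⧸ J
  let a : R' →ₐ[R] Q := IsScalarTower.toAlgHom R R' Q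
  let q₀ : MvPolynomial ι R →ₐ[R] Q := MvPolynomial.aeval fun i => Ideal.Quotient.mk J (MvPolynomial.X i)
  have hq₀ : ∀ p, q₀ p = Ideal.Quotient.mk J (MvPolynomial.map (algebraMap R R') p) := by
    intro p
    induction p using MvPolynomial.induction_on with
    | C r => simp [q₀]; rfl
    | add p q hp hq => simp [hp, hq]
    | mul_X p i hp => simp [q₀, hp]
  have hker : ∀ p, MvPolynomial.aeval G.val p = 0 → q₀ p = 0 := by
    intro p hp
    rw [hq₀, Ideal.Quotient.eq_zero_iff_mem]
    refine Ideal.mem_map_of_mem _ ?_
    show algebraMap G.Ring S p = 0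
    rw [G.algebraMap_apply]; exact hp
  have hsurj : Function.Surjective (MvPolynomial.aeval (R := R) G.val) := fun s => ⟨G.σ s, G.aeval_val_σ s⟩
  let b : S →ₐ[R] Q :=
    (Ideal.Quotient.liftₐ (RingHom.ker (MvPolynomial.aeval (R := R) G.val)) q₀ hker).comp
      (Ideal.quotientKerAlgEquivOfSurjective hsurj).symm.toAlgHom
  have hb : ∀ i, b (G.val i) = Ideal.Quotient.mk J (MvPolynomial.X i) := by
    intro i
    have e : (Ideal.quotientKerAlgEquivOfSurjective hsurj).symm (G.val i) = Ideal.Quotient.mk _ (MvPolynomial.X i) := by
      rw [AlgEquiv.symm_apply_eq]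
      exact (MvPolynomial.aeval_X _ i).symm
    show Ideal.Quotient.liftₐ _ q₀ hker ((Ideal.quotientKerAlgEquivOfSurjective hsurj).symm (G.val i)) = _
    rw [e]
    exact MvPolynomial.aeval_X _ i
  let L : S' →ₐ[R] Q := Algebra.pushoutDesc S' a b (fun _ _ => mul_comm _ _)
  have hL1 : ∀ r, L (algebraMap R' S' r) = a r := fun r => Algebra.pushoutDesc_left ..
  have hL2 : ∀ x, L (algebraMap S S' x) = b x := fun x => Algebra.pushoutDesc_right ..
  have key : ∀ p, L (MvPolynomial.aeval G'.val p) = Ideal.Quotient.mk J p := by
    intro p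
    induction p using MvPolynomial.induction_on with
    | C r =>
      rw [MvPolynomial.aeval_C]
      exact hL1 r
    | add p q hp hq => simp [hp, hq]
    | mul_X p i hp =>
      have := hL2 (G.val i)
      rw [map_mul, map_mul, map_mul, hp, MvPolynomial.aeval_X, h, this, hb]
  intro p hp
  have hp' : MvPolynomial.aeval G'.val p = 0 := (G'.algebraMap_apply (p : G'.Ring)).symm.trans hp
  have : Ideal.Quotient.mk J p = 0 := ((key p).symm.trans (congrArg L hp')).trans (map_zero L)
  exact (Submodule.Quotient.mk_eq_zero J).mp this

theorem cotMap_surjective : Function.Surjective (cotMap (NLCx.sameVarsHom G G' h).toExtensionHom) := by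
  intro y
  obtain ⟨⟨p, hp⟩, rfl⟩ := Cotangent.mk_surjective y
  set f := (NLCx.sameVarsHom G G' h).toExtensionHom
  have hp' : p ∈ G.toExtension.ker.map f.toRingHom := by
    have hp' := ker_le_map G G' h hp
    rw [toRingHom_eq]; exact hp'
  suffices ∀ q ∈ G.toExtension.ker.map f.toRingHom, ∀ hq : q ∈ G'.toExtension.ker,
      Cotangent.mk ⟨q, hq⟩ ∈ LinearMap.range (cotMap f) from this p hp' hp
  intro q hq
  induction hq using Submodule.span_induction with
  | mem q hq =>
    obtain ⟨x, hx, rfl⟩ := hq
    intro hq
    refine ⟨1 ⊗ₜ Cotangent.mk ⟨x, hx⟩, ?_⟩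
    rw [LinearMap.liftBaseChange_tmul, one_smul, Cotangent.map_mk]
    congr 1
  | zero =>
    intro hq
    exact ⟨0, by rw [map_zero]; exact ((congrArg _ (Subtype.ext rfl)).trans (map_zero Cotangent.mk)).symm⟩
  | add q r hq hr ihq ihr =>
    intro hqr
    have hle := map_ker_le f
    have := add_mem (ihq (hle hq)) (ihr (hle hr))
    rw [← map_add] at this
    exact this
  | smul c q hq ih =>
    intro hcq
    have hle := map_ker_le f
    have := Submodule.smul_mem _ (algebraMap G'.toExtension.Ring S' (c : G'.toExtension.Ring)) (ih (hle hq))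
    have e : algebraMap G'.toExtension.Ring S' c • Cotangent.mk (P := G'.toExtension) ⟨q, hle hq⟩ =
        Cotangent.mk (P := G'.toExtension) ⟨c • q, hcq⟩ :=
      (algebraMap_smul S' (c : G'.toExtension.Ring) _).trans (map_smul Cotangent.mk _ _).symm
    exact e ▸ this

theorem cotMap_injective_of_tor
    (hT : letI := (NLCx.sameVarsHom G G' h).toExtensionHom.toRingHom.toAlgebra
      Function.Injective ((Submodule.subtype G.toExtension.ker).lTensor G'.toExtension.Ring)) :
    Function.Injective (cotMap (NLCx.sameVarsHom G G' h).toExtensionHom) := by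
  set f := (NLCx.sameVarsHom G G' h).toExtensionHom
  let P := G.toExtension.Ring
  let P' := G'.toExtension.Ring
  let _alg : Algebra P P' := f.toRingHom.toAlgebra
  let I : Ideal P := G.toExtension.ker
  have hmul : ∀ (p : P) (x : P'), algebraMap P' S' (p • x) =
      algebraMap S S' (algebraMap P S p) * algebraMap P' S' x := by
    intro p x
    rw [Algebra.smul_def, map_mul]
    congr 1
    exact f.algebraMap_toRingHom p
  let π : P' ⊗[P] I →+ S' ⊗[S] G.toExtension.Cotangent :=
    TensorProduct.liftAddHom
      (AddMonoidHom.mk' (fun p' => AddMonoidHom.mk'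
          (fun x : I => algebraMap P' S' p' ⊗ₜ[S] Cotangent.mk (P := G.toExtension) x)
          (fun a b => by rw [map_add, TensorProduct.tmul_add]))
        (fun a b => by ext x; simp [TensorProduct.add_tmul]))
      (fun p p' x => by
        show algebraMap P' S' (p • p') ⊗ₜ[S] Cotangent.mk (P := G.toExtension) x =
          algebraMap P' S' p' ⊗ₜ[S] Cotangent.mk (P := G.toExtension) (p • x)
        rw [hmul, map_smul, ← algebraMap_smul S (p : G.toExtension.Ring), TensorProduct.tmul_smul,
          TensorProduct.smul_tmul', Algebra.smul_def])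
  have hπ : ∀ (a : P') (x : I), π (a ⊗ₜ x) = algebraMap P' S' a ⊗ₜ[S] Cotangent.mk (P := G.toExtension) x :=
    fun a x => rfl
  have hπsurj : Function.Surjective π := by
    intro w
    induction w using TensorProduct.induction_on with
    | zero => exact ⟨0, map_zero π⟩
    | tmul s y =>
      obtain ⟨x, rfl⟩ := Cotangent.mk_surjective y
      obtain ⟨a, rfl⟩ := G'.algebraMap_surjective s
      exact ⟨a ⊗ₜ[P] (x : I), hπ a x⟩
    | add a b ha hb =>
      obtain ⟨a, rfl⟩ := ha
      obtain ⟨b, rfl⟩ := hb
      exact ⟨a + b, map_add π a b⟩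
  let μ : P' ⊗[P] I →ₗ[P] P' := TensorProduct.lift (LinearMap.lsmul P P').flip ∘ₗ (Submodule.subtype I).lTensor P'
  have hμ : ∀ (a : P') (x : I), μ (a ⊗ₜ x) = (x : P) • a := fun a x => rfl
  have hμinj : Function.Injective μ := by
    have e : (TensorProduct.lift (LinearMap.lsmul P P').flip) = (TensorProduct.rid P P').toLinearMap := by
      apply TensorProduct.ext'
      intro a p
      simp
    show Function.Injective (TensorProduct.lift (LinearMap.lsmul P P').flip ∘ₗ (Submodule.subtype I).lTensor P')
    rw [e]
    exact (TensorProduct.rid P P').injective.comp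
      hT
  have hle : I.map (algebraMap P P') ≤ G'.toExtension.ker := map_ker_le f
  have hμker : ∀ w, μ w ∈ G'.toExtension.ker := by
    intro w
    induction w using TensorProduct.induction_on with
    | zero => rw [map_zero]; exact zero_mem _
    | tmul a x =>
      rw [hμ, Algebra.smul_def]
      exact Ideal.mul_mem_right _ _ (hle (Ideal.mem_map_of_mem _ x.2))
    | add a b ha hb => rw [map_add]; exact add_mem ha hb
  have hcomp : ∀ w, cotMap f (π w) = Cotangent.mk ⟨μ w, hμker w⟩ := by
    intro w
    induction w using TensorProduct.induction_on with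
    | zero => simp only [map_zero]; exact ((congrArg _ (Subtype.ext rfl)).trans (map_zero Cotangent.mk)).symm
    | tmul a x =>
      rw [hπ, LinearMap.liftBaseChange_tmul, Cotangent.map_mk]
      refine (algebraMap_smul S' (a : G'.toExtension.Ring) _).trans ?_
      rw [← map_smul]
      congr 1
      apply Subtype.ext
      show a * f.toAlgHom (x : P) = μ (a ⊗ₜ x)
      rw [hμ, Algebra.smul_def, mul_comm]
      rfl
    | add a b ha hb =>
      rw [map_add, map_add, ha, hb, ← map_add]
      congr 1
      exact Subtype.ext (map_add μ a b).symm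
  rw [← LinearMap.ker_eq_bot, eq_bot_iff]
  intro w hw
  obtain ⟨w, rfl⟩ := hπsurj w
  have h0 : μ w ∈ G'.toExtension.ker ^ 2 := by
    have : Cotangent.mk (P := G'.toExtension) ⟨μ w, hμker w⟩ = 0 := (hcomp w).symm.trans hw
    exact (Cotangent.mk_eq_zero_iff _).mp this
  -- the square of the kernel comes from `P' ⊗ I²`
  have hI2 : ∀ q ∈ G'.toExtension.ker ^ 2, ∃ v : P' ⊗[P] I, μ v = q ∧ π v = 0 := by
    have hsq : G'.toExtension.ker ^ 2 ≤ (I ^ 2).map (algebraMap P P') := by
      rw [Ideal.map_pow]
      have hk : G'.toExtension.ker ≤ I.map (algebraMap P P') := by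
        show G'.toExtension.ker ≤ G.toExtension.ker.map f.toRingHom
        rw [toRingHom_eq]; exact ker_le_map G G' h
      exact Ideal.pow_right_mono hk 2
    intro q hq
    have hq' := hsq hq
    clear hq
    induction hq' using Submodule.span_induction with
    | mem q hq =>
      obtain ⟨x, hx, rfl⟩ := hq
      refine ⟨1 ⊗ₜ ⟨x, Ideal.pow_le_self two_ne_zero hx⟩, ?_, ?_⟩
      · rw [hμ, Algebra.smul_def, mul_one]
      · rw [hπ]
        have : Cotangent.mk (P := G.toExtension) ⟨x, Ideal.pow_le_self two_ne_zero hx⟩ = 0 :=
          (Cotangent.mk_eq_zero_iff _).mpr hx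
        rw [this, TensorProduct.tmul_zero]
    | zero => exact ⟨0, map_zero μ, map_zero π⟩
    | add a b _ _ ha hb =>
      obtain ⟨v, h1, h2⟩ := ha
      obtain ⟨v', h1', h2'⟩ := hb
      exact ⟨v + v', by rw [map_add, h1, h1'], by rw [map_add, h2, h2', add_zero]⟩
    | smul c a _ ha =>
      obtain ⟨v, h1, h2⟩ := ha
      refine ⟨(LinearMap.mulLeft P c).rTensor I v, ?_, ?_⟩
      · rw [← h1]
        clear h1 h2
        induction v using TensorProduct.induction_on with
        | zero => simp
        | tmul b x => rw [LinearMap.rTensor_tmul, hμ, hμ]; simp [mul_smul_comm]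
        | add b d hb hd => rw [map_add, map_add, hb, hd, map_add, smul_add]
      · have : π ((LinearMap.mulLeft P c).rTensor I v) = algebraMap P' S' c • π v := by
          clear h1 h2
          induction v using TensorProduct.induction_on with
          | zero => simp
          | tmul b x =>
            rw [LinearMap.rTensor_tmul, hπ, hπ, TensorProduct.smul_tmul', smul_eq_mul, LinearMap.mulLeft_apply, map_mul]
          | add b d hb hd => rw [map_add, map_add, hb, hd, map_add, smul_add]
        rw [this, h2, smul_zero]
  obtain ⟨v, hv1, hv2⟩ := hI2 _ h0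
  rw [Submodule.mem_bot, ← hv2, hμinj hv1]

theorem cotMap_injective [Module.Flat R R'] :
    Function.Injective (cotMap (NLCx.sameVarsHom G G' h).toExtensionHom) := by
  refine cotMap_injective_of_tor G G' h ?_
  set f := (NLCx.sameVarsHom G G' h).toExtensionHom
  let P := G.toExtension.Ring
  let P' := G'.toExtension.Ring
  let _alg : Algebra P P' := f.toRingHom.toAlgebra
  have hflat : Module.Flat P P' := by
    have : (MvPolynomial.map (σ := ι) (algebraMap R R')).Flat := by
      let _a : Algebra (MvPolynomial ι R) (MvPolynomial ι R') := MvPolynomial.algebraMvPolynomial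
      have : Algebra.IsPushout R (MvPolynomial ι R) R' (MvPolynomial ι R') := inferInstance
      show (algebraMap (MvPolynomial ι R) (MvPolynomial ι R')).Flat
      rw [RingHom.flat_algebraMap_iff]
      exact Module.Flat.isBaseChange R (MvPolynomial ι R) R' (MvPolynomial ι R')
        (Algebra.IsPushout.out (R := R) (S := MvPolynomial ι R) (R' := R') (S' := MvPolynomial ι R'))
    have h2 : f.toRingHom.Flat := by rw [toRingHom_eq]; exact this
    exact h2
  exact Module.Flat.lTensor_preserves_injective_linearMap _ Subtype.val_injective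

end Groth.FlatmorThree.NL
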