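import Groth.Agent.FlatmorThree.NLBase

/-! Chain maps, homotopies and isomorphisms between naive cotangent complexes. -/

set_option autoImplicit false
universe u

open CategoryTheory CategoryTheory.Limits TensorProduct HomologicalComplex

namespace Groth.FlatmorThree.NL

section Double

variable {A : Type u} [CommRing A] {X₀ X₁ Y₀ Y₁ : ModuleCat.{u} A} (d : X₀ ⟶ X₁) (e : Y₀ ⟶ Y₁)

theorem rel_neg_one : (ComplexShape.up ℤ).Rel (-1) 0 := by simp

noncomputable def iX₀ : (double d rel_neg_one).X (-1) ≅ X₀ := doubleXIso₀ d rel_neg_one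
noncomputable def iX₁ : (double d rel_neg_one).X 0 ≅ X₁ := doubleXIso₁ d rel_neg_one (by decide)

/-- The candidate homotopy given by a map from degree `0` to degree `-1`. -/
noncomputable def dHom (s : X₁ ⟶ Y₀) (i j : ℤ) (_ : (ComplexShape.up ℤ).Rel j i) :
    (double d rel_neg_one).X i ⟶ (double e rel_neg_one).X j :=
  if hij : i = 0 ∧ j = -1 then
    eqToHom (by rw [hij.1]) ≫ (iX₁ d).hom ≫ s ≫ (iX₀ e).inv ≫ eqToHom (by rw [hij.2])
  else 0

/-- Two maps of two-term complexes differing by `s` are homotopic. -/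
noncomputable def homotopyOfMap (F G : double d rel_neg_one ⟶ double e rel_neg_one) (s : X₁ ⟶ Y₀)
    (h₀ : (iX₀ d).inv ≫ F.f (-1) ≫ (iX₀ e).hom = d ≫ s + (iX₀ d).inv ≫ G.f (-1) ≫ (iX₀ e).hom)
    (h₁ : (iX₁ d).inv ≫ F.f 0 ≫ (iX₁ e).hom = s ≫ e + (iX₁ d).inv ≫ G.f 0 ≫ (iX₁ e).hom) :
    Homotopy F G := by
  have r₁ : (ComplexShape.up ℤ).Rel (-2) (-1) := by simp
  have r₂ : (ComplexShape.up ℤ).Rel 0 1 := by simp
  have e₀ : (iX₀ d).inv ≫ (Homotopy.nullHomotopicMap' (dHom d e s)).f (-1) ≫ (iX₀ e).hom = d ≫ s := by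
    rw [Homotopy.nullHomotopicMap'_f r₁ rel_neg_one, double_d d rel_neg_one (by decide)]
    simp [dHom, iX₀, iX₁]
  have e₁ : (iX₁ d).inv ≫ (Homotopy.nullHomotopicMap' (dHom d e s)).f 0 ≫ (iX₁ e).hom = s ≫ e := by
    rw [Homotopy.nullHomotopicMap'_f rel_neg_one r₂, double_d e rel_neg_one (by decide)]
    simp [dHom, iX₀, iX₁]
  have key : F - G = Homotopy.nullHomotopicMap' (dHom d e s) := by
    refine from_double_hom_ext ?_ ?_
    · rw [← cancel_epi (iX₀ d).inv, ← cancel_mono (iX₀ e).hom]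
      simp only [Category.assoc, e₀, HomologicalComplex.sub_f_apply, Preadditive.sub_comp, Preadditive.comp_sub]
      rw [h₀]; abel
    · rw [← cancel_epi (iX₁ d).inv, ← cancel_mono (iX₁ e).hom]
      simp only [Category.assoc, e₁, HomologicalComplex.sub_f_apply, Preadditive.sub_comp, Preadditive.comp_sub]
      rw [h₁]; abel
  exact Homotopy.equivSubZero.symm ((Homotopy.ofEq key).trans (Homotopy.nullHomotopy' _))

theorem mk_f₀ (φ₀ : X₀ ⟶ Y₀) (φ₁ : X₁ ⟶ Y₁) (comm hφ) :
    (iX₀ d).inv ≫ (mkHomFromDouble (f := d) (K := double e rel_neg_one) rel_neg_one (by decide)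
      (φ₀ ≫ (iX₀ e).inv) (φ₁ ≫ (iX₁ e).inv) comm hφ).f (-1) ≫ (iX₀ e).hom = φ₀ := by
  rw [mkHomFromDouble_f₀]
  simp [iX₀]

theorem mk_f₁ (φ₀ : X₀ ⟶ Y₀) (φ₁ : X₁ ⟶ Y₁) (comm hφ) :
    (iX₁ d).inv ≫ (mkHomFromDouble (f := d) (K := double e rel_neg_one) rel_neg_one (by decide)
      (φ₀ ≫ (iX₀ e).inv) (φ₁ ≫ (iX₁ e).inv) comm hφ).f 0 ≫ (iX₁ e).hom = φ₁ := by
  rw [mkHomFromDouble_f₁]
  simp [iX₁]

/-- A map of doubles is determined by its two components. -/
theorem hom_ext' {F G : double d rel_neg_one ⟶ double e rel_neg_one}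
    (h₀ : (iX₀ d).inv ≫ F.f (-1) ≫ (iX₀ e).hom = (iX₀ d).inv ≫ G.f (-1) ≫ (iX₀ e).hom)
    (h₁ : (iX₁ d).inv ≫ F.f 0 ≫ (iX₁ e).hom = (iX₁ d).inv ≫ G.f 0 ≫ (iX₁ e).hom) : F = G := by
  refine from_double_hom_ext ?_ ?_
  · rwa [cancel_epi, cancel_mono] at h₀
  · rwa [cancel_epi, cancel_mono] at h₁

theorem comp_f₀ {Z₀ Z₁ : ModuleCat.{u} A} (g : Z₀ ⟶ Z₁) (F : double d rel_neg_one ⟶ double e rel_neg_one)
    (G : double e rel_neg_one ⟶ double g rel_neg_one) :
    (iX₀ d).inv ≫ (F ≫ G).f (-1) ≫ (iX₀ g).hom =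
      ((iX₀ d).inv ≫ F.f (-1) ≫ (iX₀ e).hom) ≫ ((iX₀ e).inv ≫ G.f (-1) ≫ (iX₀ g).hom) := by
  simp

theorem comp_f₁ {Z₀ Z₁ : ModuleCat.{u} A} (g : Z₀ ⟶ Z₁) (F : double d rel_neg_one ⟶ double e rel_neg_one)
    (G : double e rel_neg_one ⟶ double g rel_neg_one) :
    (iX₁ d).inv ≫ (F ≫ G).f 0 ≫ (iX₁ g).hom =
      ((iX₁ d).inv ≫ F.f 0 ≫ (iX₁ e).hom) ≫ ((iX₁ e).inv ≫ G.f 0 ≫ (iX₁ g).hom) := by
  simp

theorem isIso_of_comps (F : double d rel_neg_one ⟶ double e rel_neg_one)
    (h₀ : IsIso ((iX₀ d).inv ≫ F.f (-1) ≫ (iX₀ e).hom))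
    (h₁ : IsIso ((iX₁ d).inv ≫ F.f 0 ≫ (iX₁ e).hom)) : IsIso F := by
  have : ∀ i, IsIso (F.f i) := fun i => by
    by_cases h : i = -1 ∨ i = 0
    · obtain rfl | rfl := h
      · have := IsIso.of_isIso_comp_left (iX₀ d).inv (F.f (-1) ≫ (iX₀ e).hom)
        exact IsIso.of_isIso_comp_right (F.f (-1)) (iX₀ e).hom
      · have := IsIso.of_isIso_comp_left (iX₁ d).inv (F.f 0 ≫ (iX₁ e).hom)
        exact IsIso.of_isIso_comp_right (F.f 0) (iX₁ e).hom
    · simp only [not_or] at h
      exact isIso_of_source_target_iso_zero _ (isZero_double_X d rel_neg_one i h.1 h.2).isoZero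
        (isZero_double_X e rel_neg_one i h.1 h.2).isoZero
  exact HomologicalComplex.Hom.isIso_of_components F

end Double

open Algebra Algebra.Extension

variable {R S R' S' : Type u} [CommRing R] [CommRing S] [CommRing R'] [CommRing S'] [Algebra R S]
  [Algebra R' S'] [Algebra R R'] [Algebra S S'] [Algebra R S'] [IsScalarTower R R' S'] [IsScalarTower R S S']

section

variable {P : Extension.{u} R S} {P' : Extension.{u} R' S'} (f : P.Hom P')

/-- `NLCx.bcMap`, typed as a map of doubles. -/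
noncomputable abbrev bcM :
    double (ModuleCat.ofHom (P.cotangentComplex.baseChange S')) rel_neg_one ⟶
      double (ModuleCat.ofHom P'.cotangentComplex) rel_neg_one := NLCx.bcMap f

theorem bcMap_f₀ : (iX₀ _).inv ≫ (bcM f).f (-1) ≫ (iX₀ _).hom = ModuleCat.ofHom (cotMap f) :=
  mk_f₀ _ _ (ModuleCat.ofHom (cotMap f)) (ModuleCat.ofHom (spaceMap f)) _ _

theorem bcMap_f₁ : (iX₁ _).inv ≫ (bcM f).f 0 ≫ (iX₁ _).hom = ModuleCat.ofHom (spaceMap f) :=
  mk_f₁ _ _ (ModuleCat.ofHom (cotMap f)) (ModuleCat.ofHom (spaceMap f)) _ _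

theorem bcMap_isIso (h₀ : Function.Bijective (cotMap f)) (h₁ : Function.Bijective (spaceMap f)) :
    IsIso (NLCx.bcMap f) :=
  isIso_of_comps _ _ (bcM f)
    (by rw [bcMap_f₀]; exact (LinearEquiv.ofBijective _ h₀).toModuleIso.isIso_hom)
    (by rw [bcMap_f₁]; exact (LinearEquiv.ofBijective _ h₁).toModuleIso.isIso_hom)

/-- Base-change maps along any two morphisms of extensions are homotopic. -/
noncomputable def bcMapHomotopy (g : P.Hom P') : Homotopy (NLCx.bcMap f) (NLCx.bcMap g) :=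
  homotopyOfMap _ _ (bcM f) (bcM g) (ModuleCat.ofHom (LinearMap.liftBaseChange S' (f.sub g)))
    (by
      rw [bcMap_f₀, bcMap_f₀]
      ext x
      show (1 : S') • Cotangent.map f x = _ + (1 : S') • Cotangent.map g x
      simp only [one_smul]
      have := LinearMap.congr_fun (Cotangent.map_sub_map f g) x
      simp only [LinearMap.sub_apply, LinearMap.comp_apply] at this
      rw [← sub_eq_iff_eq_add, this]
      show _ = LinearMap.liftBaseChange S' (f.sub g) (P.cotangentComplex.baseChange S' (1 ⊗ₜ x))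
      simp)
    (by
      rw [bcMap_f₁, bcMap_f₁]
      ext x
      show (1 : S') • CotangentSpace.map f x = _ + (1 : S') • CotangentSpace.map g x
      simp only [one_smul]
      have := LinearMap.congr_fun (CotangentSpace.map_sub_map f g) x
      simp only [LinearMap.sub_apply, LinearMap.comp_apply, LinearMap.coe_restrictScalars] at this
      rw [← sub_eq_iff_eq_add, this]
      show _ = P'.cotangentComplex (LinearMap.liftBaseChange S' (f.sub g) (1 ⊗ₜ x))
      simp)

end

section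

variable {R'' : Type u} [CommRing R''] [Algebra R'' S'] [Algebra R' R''] [IsScalarTower R' R'' S']
  {Q : Extension.{u} R' S'} {Q' : Extension.{u} R'' S'} (f : Q.Hom Q')

/-- `NLCx.map`, typed as a map of doubles. -/
noncomputable abbrev mM :
    double (ModuleCat.ofHom Q.cotangentComplex) rel_neg_one ⟶
      double (ModuleCat.ofHom Q'.cotangentComplex) rel_neg_one := NLCx.map f

theorem map_f₀ : (iX₀ _).inv ≫ (mM f).f (-1) ≫ (iX₀ _).hom = ModuleCat.ofHom (Cotangent.map f) :=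
  mk_f₀ _ _ (ModuleCat.ofHom (Cotangent.map f)) (ModuleCat.ofHom (CotangentSpace.map f)) _ _

theorem map_f₁ : (iX₁ _).inv ≫ (mM f).f 0 ≫ (iX₁ _).hom = ModuleCat.ofHom (CotangentSpace.map f) :=
  mk_f₁ _ _ (ModuleCat.ofHom (Cotangent.map f)) (ModuleCat.ofHom (CotangentSpace.map f)) _ _

theorem map_isIso (h₀ : Function.Bijective (Cotangent.map f)) (h₁ : Function.Bijective (CotangentSpace.map f)) :
    IsIso (NLCx.map f) :=
  isIso_of_comps _ _ (mM f)
    (by rw [map_f₀]; exact (LinearEquiv.ofBijective _ h₀).toModuleIso.isIso_hom)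
    (by rw [map_f₁]; exact (LinearEquiv.ofBijective _ h₁).toModuleIso.isIso_hom)

end

section

variable {Q Q' Q'' : Extension.{u} R' S'}

theorem map_id : NLCx.map (Extension.Hom.id Q) = 𝟙 (NLCx.cx Q) :=
  hom_ext' _ _ (F := mM (Extension.Hom.id Q)) (G := 𝟙 _)
    (by rw [map_f₀]; simp [iX₀]) (by rw [map_f₁]; simp [iX₁])

theorem map_comp (f : Q.Hom Q') (g : Q'.Hom Q'') : NLCx.map f ≫ NLCx.map g = NLCx.map (g.comp f) :=
  hom_ext' _ _ (F := mM f ≫ mM g) (G := mM (g.comp f))
    (by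
      rw [comp_f₀, map_f₀, map_f₀, map_f₀]
      apply ModuleCat.hom_ext
      apply LinearMap.ext
      intro x
      exact (LinearMap.congr_fun (Cotangent.map_comp (f := f) (g := g)) x).symm)
    (by
      rw [comp_f₁, map_f₁, map_f₁, map_f₁]
      apply ModuleCat.hom_ext
      apply LinearMap.ext
      intro x
      exact (CotangentSpace.map_comp_apply f g x).symm)

theorem bcMap_comp_map {P : Extension.{u} R S} (f : P.Hom Q) (g : Q.Hom Q') :
    NLCx.bcMap f ≫ NLCx.map g = NLCx.bcMap (g.comp f) :=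
  hom_ext' _ _ (F := bcM f ≫ mM g) (G := bcM (g.comp f))
    (by
      rw [comp_f₀, bcMap_f₀, map_f₀, bcMap_f₀]
      ext x
      show Cotangent.map g ((1 : S') • Cotangent.map f x) = (1 : S') • Cotangent.map (g.comp f) x
      simp [Cotangent.map_comp])
    (by
      rw [comp_f₁, bcMap_f₁, map_f₁, bcMap_f₁]
      ext x
      show CotangentSpace.map g ((1 : S') • CotangentSpace.map f x) = (1 : S') • CotangentSpace.map (g.comp f) x
      simp [CotangentSpace.map_comp_apply])

/-- Maps along any two morphisms of presentations of the same ring are homotopic. -/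
noncomputable def mapHomotopy (f g : Q.Hom Q') : Homotopy (NLCx.map f) (NLCx.map g) :=
  homotopyOfMap _ _ (mM f) (mM g) (ModuleCat.ofHom (f.sub g))
    (by
      rw [map_f₀, map_f₀]
      apply ModuleCat.hom_ext
      apply LinearMap.ext
      intro x
      have := LinearMap.congr_fun (Cotangent.map_sub_map f g) x
      simp only [LinearMap.sub_apply, LinearMap.comp_apply] at this
      show Cotangent.map f x = _ + Cotangent.map g x
      rw [← sub_eq_iff_eq_add, this]; rfl)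
    (by
      rw [map_f₁, map_f₁]
      apply ModuleCat.hom_ext
      apply LinearMap.ext
      intro x
      have := LinearMap.congr_fun (CotangentSpace.map_sub_map f g) x
      simp only [LinearMap.sub_apply, LinearMap.comp_apply, LinearMap.coe_restrictScalars] at this
      show CotangentSpace.map f x = _ + CotangentSpace.map g x
      rw [← sub_eq_iff_eq_add, this]; rfl)

end

end Groth.FlatmorThree.NL
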