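import Groth.Agent.FlatmorThree.NLSelf
import Groth.Agent.FlatCxBase.FlatAlg
import Groth.Agent.DAlg.BaseChange

/-! Base change of the naive cotangent complex when the algebra is flat; the complex `NL ⊗ S'`. -/

set_option autoImplicit false
universe u

open CategoryTheory CategoryTheory.Limits TensorProduct HomologicalComplex

namespace Groth.FlatmorThree.NL

open Algebra Algebra.Extension

/-- Tensoring an ideal with flat quotient along a pushout stays injective. -/
theorem lTensor_ideal_injective_of_isPushout {R P R' P' : Type u} [CommRing R] [CommRing P] [CommRing R']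
    [CommRing P'] [Algebra R P] [Algebra R R'] [Algebra P P'] [Algebra R' P'] [Algebra R P']
    [IsScalarTower R P P'] [IsScalarTower R R' P'] [Algebra.IsPushout R P R' P']
    (I : Ideal P) [Module.Flat R (P ⧸ I)] : Function.Injective ((Submodule.subtype I).lTensor P') := by
  let W : P' ≃ₗ[P] P ⊗[R] R' := (Algebra.IsPushout.equiv R P R' P').symm.toLinearEquiv
  let e : (P ⊗[R] R') ⊗[P] I ≃ₗ[R] I ⊗[R] R' :=
    ((TensorProduct.comm P (P ⊗[R] R') I).trans
      (TensorProduct.AlgebraTensorModule.cancelBaseChange R P P I R')).restrictScalars R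
  have h2 : Function.Injective ((I.subtype.restrictScalars R).rTensor R') :=
    Groth.FlatCxBase.rTensor_injective_of_flat (g := (Submodule.mkQ I).restrictScalars R)
      (Submodule.subtype_injective I) (Submodule.mkQ_surjective I) (LinearMap.exact_subtype_mkQ I) R'
  let r : (P ⊗[R] R') ⊗[P] P ≃ₗ[P] P ⊗[R] R' := TensorProduct.rid P (P ⊗[R] R')
  have h1 : ∀ z, r ((Submodule.subtype I).lTensor (P ⊗[R] R') z) =
      (I.subtype.restrictScalars R).rTensor R' (e z) := fun z => by
    induction z using TensorProduct.induction_on with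
    | zero => simp
    | add a b ha hb => simp only [map_add, ha, hb]
    | tmul a x =>
      induction a using TensorProduct.induction_on with
      | zero => simp
      | add a b ha hb => simp only [add_tmul, map_add, ha, hb]
      | tmul p k =>
        show (x : P) • (p ⊗ₜ[R] k) = ((p • x : I) : P) ⊗ₜ[R] k
        rw [TensorProduct.smul_tmul', Submodule.coe_smul, smul_eq_mul, smul_eq_mul, mul_comm]
  have hinj : Function.Injective ((Submodule.subtype I).lTensor (P ⊗[R] R')) := fun a b hab => by
    apply e.injective
    apply h2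
    rw [← h1, ← h1, hab]
  have h3 : ∀ z, TensorProduct.congr W (LinearEquiv.refl P P) ((Submodule.subtype I).lTensor P' z) =
      (Submodule.subtype I).lTensor (P ⊗[R] R') (TensorProduct.congr W (LinearEquiv.refl P I) z) := fun z => by
    induction z using TensorProduct.induction_on with
    | zero => simp
    | add a b ha hb => simp only [map_add, ha, hb]
    | tmul a x => simp
  intro a b hab
  exact (TensorProduct.congr W (LinearEquiv.refl P I)).injective (hinj (by rw [← h3, ← h3, hab]))

section

variable {R S R' S' : Type u} [CommRing R] [CommRing S] [CommRing R'] [CommRing S'] [Algebra R S]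
  [Algebra R' S'] [Algebra R R'] [Algebra S S'] [Algebra R S'] [IsScalarTower R R' S'] [IsScalarTower R S S']
  [Algebra.IsPushout R R' S S'] {ι : Type u} (G : Generators R S ι) (G' : Generators R' S' ι)
  (h : ∀ i, G'.val i = algebraMap S S' (G.val i))

theorem cotMap_injective_of_flat_target [Module.Flat R S] :
    Function.Injective (cotMap (NLCx.sameVarsHom G G' h).toExtensionHom) := by
  refine cotMap_injective_of_tor G G' h ?_
  let φ : MvPolynomial ι R →ₐ[R] S := MvPolynomial.aeval G.val
  have hs : Function.Surjective φ := fun s => ⟨G.σ s, G.aeval_val_σ s⟩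
  have : Module.Flat R (MvPolynomial ι R ⧸ RingHom.ker φ) :=
    Module.Flat.of_linearEquiv (Ideal.quotientKerAlgEquivOfSurjective hs).toLinearEquiv
  have hk : ∀ J : Ideal (MvPolynomial ι R), J = RingHom.ker φ →
      letI : Algebra (MvPolynomial ι R) (MvPolynomial ι R') := MvPolynomial.algebraMvPolynomial
      Function.Injective ((Submodule.subtype J).lTensor (MvPolynomial ι R')) := by
    rintro _ rfl
    let _ : Algebra (MvPolynomial ι R) (MvPolynomial ι R') := MvPolynomial.algebraMvPolynomial
    exact lTensor_ideal_injective_of_isPushout (R := R) (R' := R') (RingHom.ker φ)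
  have := hk G.toExtension.ker (Ideal.ext fun p => Iff.of_eq (congrArg (· = 0) (G.algebraMap_apply p)))
  have e : (NLCx.sameVarsHom G G' h).toExtensionHom.toRingHom.toAlgebra =
      (MvPolynomial.algebraMvPolynomial : Algebra (MvPolynomial ι R) (MvPolynomial ι R')) :=
    Algebra.algebra_ext _ _ fun p => RingHom.congr_fun (toRingHom_eq G G' h) p
  rw [e]
  exact this

end

section

variable (R S R' S' : Type u) [CommRing R] [CommRing S] [CommRing R'] [CommRing S'] [Algebra R S]
  [Algebra R' S'] [Algebra R R'] [Algebra S S'] [Algebra R S'] [IsScalarTower R R' S'] [IsScalarTower R S S']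
  [Algebra.IsPushout R R' S S']

/-- Base change of the naive cotangent complex of a flat algebra is a homotopy equivalence. -/
theorem exists_homotopyEquiv_of_flat_target [Module.Flat R S] :
    ∃ e : HomotopyEquiv (NLCx.bcCx (Generators.self R S).toExtension S')
      (NLCx.cx (Generators.self R' S').toExtension), e.hom = NLCx.bcMapSelf R S R' S' := by
  let i := NLCx.bcMap (S' := S') (toImage R S R' S')
  have : IsIso i := bcMap_isIso _ ⟨cotMap_injective_of_flat_target _ _ _, cotMap_surjective _ _ _⟩
    (spaceMap_bijective _ _ _)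
  let g := NLCx.map (fromImage R S R' S')
  let g' := NLCx.map (backImage R S R' S')
  have H : Homotopy (NLCx.bcMapSelf R S R' S') (i ≫ g) :=
    (bcMapHomotopy _ ((fromImage R S R' S').comp (toImage R S R' S'))).trans
      (Homotopy.ofEq (bcMap_comp_map _ _).symm)
  have H₁ : Homotopy (g ≫ g') (𝟙 _) :=
    ((Homotopy.ofEq (map_comp _ _)).trans (mapHomotopy _ (Extension.Hom.id _))).trans (Homotopy.ofEq map_id)
  have H₂ : Homotopy (g' ≫ g) (𝟙 _) :=
    ((Homotopy.ofEq (map_comp _ _)).trans (mapHomotopy _ (Extension.Hom.id _))).trans (Homotopy.ofEq map_id)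
  refine ⟨{ hom := NLCx.bcMapSelf R S R' S', inv := g' ≫ inv i, homotopyHomInvId := ?_, homotopyInvHomId := ?_ }, rfl⟩
  · refine (H.compRight _).trans ?_
    refine (Homotopy.ofEq (by simp : (i ≫ g) ≫ g' ≫ inv i = i ≫ (g ≫ g') ≫ inv i)).trans ?_
    exact ((H₁.compRight (inv i)).compLeft i).trans (Homotopy.ofEq (by simp))
  · refine (H.compLeft _).trans ?_
    exact (Homotopy.ofEq (by simp : (g' ≫ inv i) ≫ i ≫ g = g' ≫ g)).trans H₂

end

section

open Groth.FlatCxBase Groth.DAlg

variable {A : Type u} [CommRing A] {B : Type u} [CommRing B] [Algebra A B] {X₀ X₁ : ModuleCat.{u} A} (d : X₀ ⟶ X₁)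

set_option backward.isDefEq.respectTransparency false in
set_option backward.isDefEq.respectTransparency.types false in
/-- Extension of scalars of a two-term complex. -/
theorem nonempty_extCx_double :
    Nonempty (double (ModuleCat.ofHom (d.hom.baseChange B)) rel_neg_one ≅
      extCx (algebraMap A B) (double d rel_neg_one)) := by
  let F := ModuleCat.extendScalars.{u, u, u} (algebraMap A B)
  let K := extCx (algebraMap A B) (double d rel_neg_one)
  let φ₀ : ModuleCat.of B (B ⊗[A] X₀) ⟶ K.X (-1) :=
    (extendEquiv B X₀).symm.toModuleIso.hom ≫ F.map (iX₀ d).inv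
  let φ₁ : ModuleCat.of B (B ⊗[A] X₁) ⟶ K.X 0 :=
    (extendEquiv B X₁).symm.toModuleIso.hom ≫ F.map (iX₁ d).inv
  have hK : K.d (-1) 0 = F.map ((double d rel_neg_one).d (-1) 0) := rfl
  have comm : φ₀ ≫ K.d (-1) 0 = ModuleCat.ofHom (d.hom.baseChange B) ≫ φ₁ := by
    have h1 : (iX₀ d).inv ≫ (double d rel_neg_one).d (-1) 0 = d ≫ (iX₁ d).inv := by
      rw [double_d d rel_neg_one (by decide)]
      simp [iX₀, iX₁]
    rw [hK, Category.assoc, ← F.map_comp, h1, F.map_comp, ← Category.assoc, ← Category.assoc]
    congr 1
    ext z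
    apply (extendEquiv B X₁).injective
    show extendEquiv B X₁ (F.map d ((extendEquiv B X₀).symm _)) = extendEquiv B X₁ ((extendEquiv B X₁).symm _)
    rw [extendEquiv_map, LinearEquiv.apply_symm_apply, LinearEquiv.apply_symm_apply]
    rfl
  have hz : ∀ i : ℤ, i ≠ -1 → i ≠ 0 → IsZero (K.X i) := fun i h h' =>
    F.map_isZero (isZero_double_X d rel_neg_one i h h')
  have : IsIso φ₀ := by dsimp only [φ₀]; infer_instance
  have : IsIso φ₁ := by dsimp only [φ₁]; infer_instance
  let f := mkHomFromDouble (f := ModuleCat.ofHom (d.hom.baseChange B)) (K := K) rel_neg_one (by decide) φ₀ φ₁ comm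
    (fun k hk => (hz k (by simp at hk; omega) (by simp at hk; omega)).eq_of_tgt _ _)
  have : ∀ i, IsIso (f.f i) := fun i => by
    by_cases h : i = -1
    · subst h
      rw [mkHomFromDouble_f₀]
      infer_instance
    by_cases h' : i = 0
    · subst h'
      rw [mkHomFromDouble_f₁]
      infer_instance
    · exact isIso_of_source_target_iso_zero _ (isZero_double_X _ rel_neg_one i h h').isoZero (hz i h h').isoZero
  have := HomologicalComplex.Hom.isIso_of_components f
  exact ⟨asIso f⟩

end

end Groth.FlatmorThree.NL
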