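import Groth.Agent.FlatmorThree.NLComplex

/-! Consequences for the presentations on all elements. -/

set_option autoImplicit false
universe u

open CategoryTheory TensorProduct

namespace Groth.FlatmorThree.NL

open Algebra Algebra.Extension

variable (R S R' S' : Type u) [CommRing R] [CommRing S] [CommRing R'] [CommRing S'] [Algebra R S]
  [Algebra R' S'] [Algebra R R'] [Algebra S S'] [Algebra R S'] [IsScalarTower R R' S'] [IsScalarTower R S S']
  [Algebra.IsPushout R R' S S']

include R in
theorem aeval_selfImage_surjective :
    Function.Surjective (MvPolynomial.aeval (R := R') (fun s : S => algebraMap S S' s)) := by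
  intro y
  refine IsBaseChange.inductionOn (Algebra.IsPushout.out (R := R) (S := R') (R' := S) (S' := S')) y
    (fun z => ∃ p, MvPolynomial.aeval (R := R') (fun s : S => algebraMap S S' s) p = z)
    ⟨0, map_zero _⟩ ?_ ?_ ?_
  · intro s
    exact ⟨MvPolynomial.X s, MvPolynomial.aeval_X _ _⟩
  · rintro r z ⟨p, rfl⟩
    exact ⟨r • p, map_smul _ _ _⟩
  · rintro z w ⟨p, rfl⟩ ⟨q, rfl⟩
    exact ⟨p + q, map_add _ _ _⟩

/-- The base change of the presentation on all elements. -/
noncomputable def selfImage : Generators R' S' S :=
  Generators.ofSurjective _ (aeval_selfImage_surjective R S R' S')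

theorem selfImage_val (i : S) :
    (selfImage R S R' S').val i = algebraMap S S' ((Generators.self R S).val i) := rfl

noncomputable abbrev toImage : (Generators.self R S).toExtension.Hom (selfImage R S R' S').toExtension :=
  (NLCx.sameVarsHom (Generators.self R S) (selfImage R S R' S') (selfImage_val R S R' S')).toExtensionHom

noncomputable abbrev fromImage : (selfImage R S R' S').toExtension.Hom (Generators.self R' S').toExtension :=
  ((selfImage R S R' S').defaultHom (Generators.self R' S')).toExtensionHom

noncomputable abbrev backImage : (Generators.self R' S').toExtension.Hom (selfImage R S R' S').toExtension :=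
  ((Generators.self R' S').defaultHom (selfImage R S R' S')).toExtensionHom

/-- Flat base change for the naive cotangent complex, as a homotopy equivalence. -/
theorem exists_homotopyEquiv [Module.Flat R R'] :
    ∃ e : HomotopyEquiv (NLCx.bcCx (Generators.self R S).toExtension S')
      (NLCx.cx (Generators.self R' S').toExtension), e.hom = NLCx.bcMapSelf R S R' S' := by
  let i := NLCx.bcMap (S' := S') (toImage R S R' S')
  have : IsIso i := bcMap_isIso _ ⟨cotMap_injective _ _ _, cotMap_surjective _ _ _⟩ (spaceMap_bijective _ _ _)
  let g := NLCx.map (fromImage R S R' S')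
  let g' := NLCx.map (backImage R S R' S')
  have H : Homotopy (NLCx.bcMapSelf R S R' S') (i ≫ g) :=
    (bcMapHomotopy _ ((fromImage R S R' S').comp (toImage R S R' S'))).trans
      (Homotopy.ofEq (bcMap_comp_map _ _).symm)
  have H₁ : Homotopy (g ≫ g') (𝟙 _) :=
    ((Homotopy.ofEq (map_comp _ _)).trans (mapHomotopy _ (Extension.Hom.id _))).trans (Homotopy.ofEq map_id)
  have H₂ : Homotopy (g' ≫ g) (𝟙 _) :=
    ((Homotopy.ofEq (map_comp _ _)).trans (mapHomotopy _ (Extension.Hom.id _))).trans (Homotopy.ofEq map_id)
  refine ⟨{ hom := NLCx.bcMapSelf R S R' S', inv := g' ≫ inv i, homotopyHomInvId := ?_, homotopyInvHomId := ?_ }, rfl⟩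
  · refine (H.compRight _).trans ?_
    refine (Homotopy.ofEq (by simp : (i ≫ g) ≫ g' ≫ inv i = i ≫ (g ≫ g') ≫ inv i)).trans ?_
    exact ((H₁.compRight (inv i)).compLeft i).trans (Homotopy.ofEq (by simp))
  · refine (H.compLeft _).trans ?_
    exact (Homotopy.ofEq (by simp : (g' ≫ inv i) ≫ i ≫ g = g' ≫ g)).trans H₂

theorem bcH1Map_surjective_of_generators {ι : Type u} (G : Generators R S ι) (G' : Generators R' S' ι)
    (h : ∀ i, G'.val i = algebraMap S S' (G.val i)) :
    Function.Surjective (NLCx.bcH1Map (NLCx.sameVarsHom G G' h).toExtensionHom) := by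
  intro y
  obtain ⟨x, hx⟩ := cotMap_surjective G G' h y.1
  refine ⟨⟨x, ?_⟩, Subtype.ext hx⟩
  show G.toExtension.cotangentComplex.baseChange S' x = 0
  apply (spaceMap_bijective G G' h).1
  rw [spaceMap_cotMap, hx, map_zero]
  exact y.2

omit [Algebra.IsPushout R R' S S'] in
theorem bcH1Map_congr {P : Extension.{u} R S} {P' : Extension.{u} R' S'} (f g : P.Hom P') :
    NLCx.bcH1Map f = NLCx.bcH1Map g := by
  apply LinearMap.ext
  intro x
  apply Subtype.ext
  have hx : P.cotangentComplex.baseChange S' x.1 = 0 := x.2
  have e : ∀ z : S' ⊗[S] P.Cotangent, cotMap f z - cotMap g z =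
      LinearMap.liftBaseChange S' (f.sub g) (P.cotangentComplex.baseChange S' z) := by
    intro z
    induction z using TensorProduct.induction_on with
    | zero => simp
    | tmul a y =>
      simp only [LinearMap.liftBaseChange_tmul, LinearMap.baseChange_tmul]
      rw [← smul_sub]
      congr 1
      exact LinearMap.congr_fun (Cotangent.map_sub_map f g) y
    | add a b ha hb => simp only [map_add]; rw [← ha, ← hb]; abel
  show cotMap f x.1 = cotMap g x.1
  rw [← sub_eq_zero, e, hx, map_zero]

theorem bcH1Map_surjective_self :
    Function.Surjective (NLCx.bcH1Map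
      ((Generators.self R S).defaultHom (Generators.self R' S')).toExtensionHom) := by
  rw [bcH1Map_congr R S R' S' _ ((fromImage R S R' S').comp (toImage R S R' S'))]
  intro y
  obtain ⟨x, hx⟩ := bcH1Map_surjective_of_generators R S R' S' _ _ (selfImage_val R S R' S')
    (Extension.H1Cotangent.map (backImage R S R' S') y)
  refine ⟨x, Subtype.ext ?_⟩
  have h1 : cotMap (toImage R S R' S') x.1 = Cotangent.map (backImage R S R' S') y.1 := congrArg Subtype.val hx
  show cotMap ((fromImage R S R' S').comp (toImage R S R' S')) x.1 = y.1
  have e : ∀ z, cotMap ((fromImage R S R' S').comp (toImage R S R' S')) z =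
      Cotangent.map (fromImage R S R' S') (cotMap (toImage R S R' S') z) := by
    intro z
    induction z using TensorProduct.induction_on with
    | zero => simp
    | tmul a w =>
      simp only [LinearMap.liftBaseChange_tmul, map_smul]
      congr 1
      exact LinearMap.congr_fun (Cotangent.map_comp (f := toImage R S R' S') (g := fromImage R S R' S')) w
    | add a b ha hb => simp only [map_add, ha, hb]
  rw [e, h1]
  have h2 : (Extension.H1Cotangent.map (fromImage R S R' S')) (Extension.H1Cotangent.map (backImage R S R' S') y) = y := by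
    rw [← Extension.H1Cotangent.map_comp_apply, Extension.H1Cotangent.map_eq _ (Extension.Hom.id _),
      Extension.H1Cotangent.map_id]
    rfl
  exact congrArg Subtype.val h2

end Groth.FlatmorThree.NL
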