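import Groth.Prelude.Def_DRing2
import Mathlib.Algebra.Homology.ShortComplex.ModuleCat
import Mathlib.Algebra.Homology.DerivedCategory.HomologySequence
import Mathlib.Algebra.Category.ModuleCat.Projective
import Mathlib.Algebra.Module.FinitePresentation
import Mathlib.Algebra.Module.Projective
import Mathlib.RingTheory.Finiteness.Basic

/-!
# Pseudo-coherent modules are finitely presented
-/

universe u
open CategoryTheory Limits

attribute [local instance] HasDerivedCategory.standard

namespace Groth.FlatmorThree.PCohModule

variable {R : Type u} [CommRing R] (E : CochainComplex (ModuleCat.{u} R) ℤ)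

/-- Exactness in a degree, elementwise. -/
lemma exists_eq_of_isZero_homology (i : ℤ) (h : IsZero (E.homology i)) (x : E.X i)
    (hx : (E.d i (i + 1)).hom x = 0) : ∃ y, (E.d (i - 1) i).hom y = x := by
  rw [← HomologicalComplex.exactAt_iff_isZero_homology,
    HomologicalComplex.exactAt_iff' E (i - 1) i (i + 1) (by simp) (by simp),
    ShortComplex.moduleCat_exact_iff] at h
  exact h x hx

/-- A finite projective kernel, from exactness above. -/
lemma ker_finite_projective (b : ℤ) (hb : ∀ i : ℤ, b < i → IsZero (E.X i))
    (hfree : ∀ i, Module.Finite R (E.X i) ∧ Module.Free R (E.X i))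
    (hex : ∀ i : ℤ, 0 < i → IsZero (E.homology i)) :
    ∀ (n : ℕ) (i : ℤ), 0 ≤ i → b < i + n →
      Module.Finite R (LinearMap.ker (E.d i (i + 1)).hom) ∧
        Module.Projective R (LinearMap.ker (E.d i (i + 1)).hom) := by
  intro n
  induction n with
  | zero =>
    intro i _ hbi
    have := ModuleCat.subsingleton_of_isZero (hb i (by simpa using hbi))
    exact ⟨inferInstance, Module.Projective.of_free⟩
  | succ n ih =>
    intro i hi hbi
    obtain ⟨hf, hp⟩ := ih (i + 1) (by omega) (by push_cast at hbi; omega)
    obtain ⟨hXf, hXfree⟩ := hfree i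
    have hdd : ∀ x : E.X i, (E.d i (i + 1)).hom x ∈ LinearMap.ker (E.d (i + 1) (i + 1 + 1)).hom :=
      fun x => congr(($(E.d_comp_d i (i + 1) (i + 1 + 1))).hom x)
    let p := (E.d i (i + 1)).hom.codRestrict _ hdd
    have hp' : Function.Surjective p := by
      rintro ⟨y, hy⟩
      obtain ⟨x, hx⟩ := exists_eq_of_isZero_homology E (i + 1) (hex (i + 1) (by omega)) y hy
      have key : ∀ (j : ℤ) (_ : j = i) (x : E.X j), (E.d j (i + 1)).hom x = y → ∃ x' : E.X i, p x' = ⟨y, hy⟩ := by
        rintro j rfl x hx
        exact ⟨x, Subtype.ext hx⟩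
      exact key _ (by omega) x hx
    obtain ⟨s, hs⟩ := Module.projective_lifting_property p LinearMap.id hp'
    let r : E.X i →ₗ[R] LinearMap.ker (E.d i (i + 1)).hom :=
      (LinearMap.id - s ∘ₗ p).codRestrict _ fun x => by
        show (E.d i (i + 1)).hom (x - s (p x)) = 0
        have := congrArg Subtype.val (LinearMap.congr_fun hs (p x))
        rw [map_sub, sub_eq_zero]
        exact this.symm
    have hr : r ∘ₗ (LinearMap.ker (E.d i (i + 1)).hom).subtype = LinearMap.id := by
      refine LinearMap.ext fun x => Subtype.ext ?_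
      have : p x.1 = 0 := Subtype.ext x.2
      show (x.1 - s (p x.1)) = x.1
      rw [this, map_zero, sub_zero]
    exact ⟨Module.Finite.of_surjective r fun x => ⟨x.1, LinearMap.congr_fun hr x⟩,
      Module.Projective.of_split _ r hr⟩

/-- The homology in degree zero of a bounded above complex of finite free modules which is exact in
positive degrees is finitely presented. -/
lemma finitePresentation_homology_zero (b : ℤ) (hb : ∀ i : ℤ, b < i → IsZero (E.X i))
    (hfree : ∀ i, Module.Finite R (E.X i) ∧ Module.Free R (E.X i))
    (hex : ∀ i : ℤ, 0 < i → IsZero (E.homology i)) :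
    Module.FinitePresentation R (E.homology 0) := by
  obtain ⟨hf, hp⟩ := ker_finite_projective E b hb hfree hex (b.toNat + 1) 0 le_rfl (by omega)
  let S := E.sc' (-1) 0 (0 + 1)
  let e : (LinearMap.ker S.g.hom ⧸ LinearMap.range S.moduleCatToCycles) ≃ₗ[R] (E.homology 0 : _) :=
    (S.moduleCatHomologyIso.symm ≪≫
      (E.homologyIsoSc' (-1) 0 (0 + 1) (by simp) (by simp)).symm).toLinearEquiv
  have hfp : Module.FinitePresentation R (LinearMap.ker S.g.hom) :=
    @Module.finitePresentation_of_projective R (LinearMap.ker (E.d 0 (0 + 1)).hom) _ _ _ hp hf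
  have hfg : Module.Finite R S.X₁ := (hfree (-1)).1
  have := Module.finitePresentation_of_surjective (LinearMap.range S.moduleCatToCycles).mkQ
    (Submodule.mkQ_surjective _)
    (by rw [Submodule.ker_mkQ]; exact Submodule.fg_range _)
  exact Module.FinitePresentation.of_equiv e

/-- A pseudo-coherent module is finitely presented. -/
theorem finitePresentation_of_isPseudoCoherentModule' (M : Type u) [AddCommGroup M] [Module R M]
    (h : DRing.IsPseudoCoherentModule' R M) : Module.FinitePresentation R M := by
  obtain ⟨E, b, hb, hfree, ⟨iso⟩⟩ := h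
  let S := (CochainComplex.singleFunctor (ModuleCat.{u} R) 0).obj (ModuleCat.of R M)
  let e : ∀ i : ℤ, E.homology i ≅ S.homology i := fun i =>
    ((DerivedCategory.homologyFunctorFactors (ModuleCat.{u} R) i).app E).symm ≪≫
      (DerivedCategory.homologyFunctor _ i).mapIso
        (iso ≪≫ (DerivedCategory.singleFunctorIsoCompQ (ModuleCat.{u} R) 0).app _) ≪≫
      (DerivedCategory.homologyFunctorFactors (ModuleCat.{u} R) i).app S
  have hfp := finitePresentation_homology_zero E b hb hfree fun i hi =>
    IsZero.of_iso (HomologicalComplex.isZero_single_obj_homology _ _ _ _ (by omega)) (e i)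
  exact Module.FinitePresentation.of_equiv
    (e 0 ≪≫ HomologicalComplex.singleObjHomologySelfIso (ComplexShape.up ℤ) 0
      (ModuleCat.of R M)).toLinearEquiv

end Groth.FlatmorThree.PCohModule
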