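import Groth.Prelude.Def_FlatCA
import Mathlib.RingTheory.IsTensorProduct
import Mathlib.Algebra.Module.Projective
import Mathlib.RingTheory.Nakayama
import Mathlib.RingTheory.Localization.FractionRing
import Mathlib.RingTheory.LocalRing.ResidueField.Ideal

set_option autoImplicit false
universe u

namespace Groth.FlatmorThree

open scoped TensorProduct
attribute [local instance] Algebra.TensorProduct.rightAlgebra

variable {A B : Type u} [CommRing A] [CommRing B] [Algebra A B]

/-- Every element of `κ(p) ⊗ M` is, up to a unit, in the image of `M`. -/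
theorem exists_smul_eq_one_tmul (p : Ideal A) [p.IsPrime] {M : Type u} [AddCommGroup M] [Module A M]
    (z : p.ResidueField ⊗[A] M) :
    ∃ (s : A) (x : M), s ∉ p ∧ algebraMap A p.ResidueField s • z = 1 ⊗ₜ[A] x := by
  induction z using TensorProduct.induction_on with
  | zero => exact ⟨1, 0, p.one_notMem, by simp⟩
  | tmul c y =>
    obtain ⟨a, b, hb, rfl⟩ := IsFractionRing.div_surjective (A ⧸ p) c
    obtain ⟨a, rfl⟩ := Ideal.Quotient.mk_surjective a
    obtain ⟨b, rfl⟩ := Ideal.Quotient.mk_surjective b
    have hb' : b ∉ p := fun h => nonZeroDivisors.ne_zero hb (Ideal.Quotient.eq_zero_iff_mem.mpr h)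
    refine ⟨b, a • y, hb', ?_⟩
    rw [TensorProduct.smul_tmul', TensorProduct.tmul_smul, TensorProduct.smul_tmul', smul_eq_mul,
      ← Algebra.algebraMap_eq_smul_one]
    congr 1
    have hb0 : algebraMap A p.ResidueField b ≠ 0 := fun h => hb' (Ideal.algebraMap_residueField_eq_zero.mp h)
    exact mul_div_cancel₀ _ hb0
  | add z w hz hw =>
    obtain ⟨s, x, hs, hz⟩ := hz
    obtain ⟨t, y, ht, hw⟩ := hw
    refine ⟨s * t, t • x + s • y, fun h => (Ideal.IsPrime.mem_or_mem ‹p.IsPrime› h).elim hs ht, ?_⟩
    rw [TensorProduct.tmul_add, TensorProduct.tmul_smul, TensorProduct.tmul_smul,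
      ← algebraMap_smul p.ResidueField t, ← algebraMap_smul p.ResidueField s, ← hz, ← hw,
      smul_smul, smul_smul, smul_add, map_mul, mul_comm (algebraMap A p.ResidueField t)]

/-- An `A`-projective module has no impurity. -/
theorem isUnivPure_of_projective_aux (N : Type u) [AddCommGroup N] [Module B N] [Module A N]
    [IsScalarTower A B N] [Module.Projective A N] (p : Ideal A) [p.IsPrime] :
    FlatCA.IsUnivPureAlong A B N p := by
  intro A' B' N' _ _ _ _ _ _ _ _ _ _ _ _ _ _ f t' t _ _ P _ ⟨hpush, hbc, htt, _, _, hass, hno⟩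
  have : Algebra.IsPushout A A' B B' := Algebra.IsPushout.symm hpush
  -- coordinates
  let e₀ : N' ≃ₗ[A'] A' ⊗[A] N :=
    (hbc.equiv.symm.restrictScalars A').trans (Algebra.IsPushout.cancelBaseChange A A' B B' N)
  have : Module.Projective A' N' := Module.Projective.of_equiv e₀.symm
  obtain ⟨ι, hι⟩ := Module.projective_def.mp ‹Module.Projective A' N'›
  let K := t'.ResidueField
  let F := t'.Fiber B'
  -- a point above `t` is impossible, so some element outside `t` lies in `P + t B'`
  obtain ⟨a, hat, ha⟩ : ∃ a, a ∉ t ∧ algebraMap A' B' a ∈ P ⊔ t.map (algebraMap A' B') := by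
    by_contra! hcon
    obtain ⟨P', hP', hle, hdis⟩ := Ideal.exists_le_prime_disjoint (P ⊔ t.map (algebraMap A' B'))
      (Algebra.algebraMapSubmonoid B' t.primeCompl) (Set.disjoint_left.mpr (by
        rintro _ hx ⟨a, ha, rfl⟩; exact hcon a ha hx))
    refine hno P' (le_sup_left.trans hle) ⟨le_antisymm ?_ ?_⟩
    · exact Ideal.map_le_iff_le_comap.mp (le_sup_right.trans hle)
    · intro a ha
      by_contra hat
      exact Set.disjoint_left.mp hdis ha ⟨a, hat, rfl⟩
  obtain ⟨g, hg, τ, hτ, hgτ⟩ := Submodule.mem_sup.mp ha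
  -- the associated point
  obtain ⟨hprime, z, hz⟩ := hass
  let ρ : (F ⊗[B'] N') ≃ₗ[K] K ⊗[A'] N' := Algebra.IsPushout.cancelBaseChange A' K B' F N'
  obtain ⟨s, x, hs, hsx⟩ := exists_smul_eq_one_tmul t' (ρ z)
  have hsz : algebraMap A' K s • (show F ⊗[B'] N' from z) = 1 ⊗ₜ[B'] x := by
    apply ρ.injective
    rw [map_smul, hsx, Algebra.IsPushout.cancelBaseChange_tmul]
  have hzne : (show F ⊗[B'] N' from z) ≠ 0 := by
    intro h0
    apply hprime.ne_top
    rw [eq_top_iff]
    intro w _
    rw [hz]
    refine Ideal.le_radical ?_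
    rw [Submodule.mem_colon_singleton, Submodule.mem_bot]
    show w • (show F ⊗[B'] N' from z) = 0
    rw [h0, smul_zero]
  have hx0 : (1 : K) ⊗ₜ[A'] x ≠ 0 := by
    rw [← hsx]
    exact smul_ne_zero (fun h => hs (Ideal.algebraMap_residueField_eq_zero.mp h))
      (fun h => hzne (ρ.injective (h.trans (map_zero ρ).symm)))
  -- some power of `g` kills `x` in the fibre
  obtain ⟨k, hk⟩ : ∃ k : ℕ, (1 : K) ⊗ₜ[A'] (g ^ k • x) = 0 := by
    have : algebraMap B' F g ∈ FlatCA.fiberIdeal t' P := Ideal.mem_map_of_mem _ hg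
    rw [hz] at this
    obtain ⟨k, hk⟩ := this
    rw [Submodule.mem_colon_singleton, Submodule.mem_bot] at hk
    have hk' : algebraMap B' F g ^ k • (show F ⊗[B'] N' from z) = 0 := hk
    refine ⟨k, ?_⟩
    rw [← Algebra.IsPushout.cancelBaseChange_tmul A' K B' F N' (g ^ k • x)]
    rw [TensorProduct.tmul_smul, ← hsz, ← algebraMap_smul F (g ^ k), map_pow, smul_comm, hk',
      smul_zero, map_zero]
  -- coordinates in `K`
  let c : N' → (N' → K) := fun y i => algebraMap A' K (ι y i)
  let C : Submodule A' K := Submodule.span A' (Set.range (c x))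
  have hker : ∀ y, (1 : K) ⊗ₜ[A'] y = 0 → c y = 0 := by
    intro y hy
    funext i
    let l : K ⊗[A'] N' →ₗ[K] K :=
      LinearMap.liftBaseChange K (Algebra.linearMap A' K ∘ₗ (Finsupp.lapply i ∘ₗ ι))
    have := congrArg l hy
    simpa [l, c] using this
  have hC0 : C ≠ ⊥ := by
    intro h
    apply hx0
    rw [← hι x, Finsupp.linearCombination_apply, Finsupp.sum, TensorProduct.tmul_sum]
    refine Finset.sum_eq_zero fun i _ => ?_
    have : c x i = 0 := by
      have := Submodule.subset_span (R := A') (Set.mem_range_self (f := c x) i)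
      rw [show Submodule.span A' (Set.range (c x)) = ⊥ from h] at this
      exact this
    have h2 : algebraMap A' K (ι x i) = 0 := this
    rw [id_eq, TensorProduct.tmul_smul, ← algebraMap_smul K (ι x i), h2, zero_smul]
  have hCfg : C.FG := by
    classical
    refine ⟨(ι x).support.image (c x) ∪ {0}, le_antisymm ?_ ?_⟩
    · rw [Submodule.span_le]
      intro w hw
      simp only [Finset.coe_union, Finset.coe_image, Finset.coe_singleton, Set.mem_union,
        Set.mem_image, Set.mem_singleton_iff] at hw
      rcases hw with ⟨i, _, rfl⟩ | rfl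
      · exact Submodule.subset_span ⟨i, rfl⟩
      · exact zero_mem _
    · rw [Submodule.span_le]
      rintro _ ⟨i, rfl⟩
      by_cases hi : i ∈ (ι x).support
      · exact Submodule.subset_span (by simp only [Finset.coe_union, Finset.coe_image]; exact Or.inl ⟨i, hi, rfl⟩)
      · have : c x i = 0 := by simp [c, Finsupp.notMem_support_iff.mp hi]
        rw [this]; exact zero_mem _
  have hbx : ∀ (b : B') (i : N'), c (b • x) i ∈ C := by
    intro b i
    have : b • x = ∑ j ∈ (ι x).support, ι x j • (b • j) := by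
      conv_lhs => rw [← hι x]
      rw [Finsupp.linearCombination_apply, Finsupp.sum, Finset.smul_sum]
      exact Finset.sum_congr rfl fun j _ => smul_comm _ _ _
    show algebraMap A' K (ι (b • x) i) ∈ C
    rw [this, map_sum, Finsupp.finsetSum_apply, map_sum]
    refine sum_mem fun j _ => ?_
    rw [map_smul, Finsupp.smul_apply, smul_eq_mul, map_mul, mul_comm, ← Algebra.smul_def]
    exact Submodule.smul_mem _ _ (Submodule.subset_span ⟨j, rfl⟩)
  have hτC : ∀ w ∈ t.map (algebraMap A' B'), ∀ i, c (w • x) i ∈ t • C := by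
    intro w hw
    induction hw using Submodule.span_induction with
    | mem w hw =>
      obtain ⟨m, hm, rfl⟩ := hw
      intro i
      rw [algebraMap_smul]
      show algebraMap A' K (ι (m • x) i) ∈ _
      rw [map_smul, Finsupp.smul_apply, smul_eq_mul, map_mul, ← Algebra.smul_def]
      exact Submodule.smul_mem_smul hm (Submodule.subset_span ⟨i, rfl⟩)
    | zero => intro i; simp [c]
    | add u v _ _ hu hv =>
      intro i
      have : c ((u + v) • x) i = c (u • x) i + c (v • x) i := by simp [c, add_smul]
      rw [this]; exact add_mem (hu i) (hv i)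
    | smul b u _ hu =>
      intro i
      have e : (b • u) • x = b • (u • x) := smul_assoc b u x
      rw [e]
      conv in b • (u • x) => rw [← hι (u • x), Finsupp.linearCombination_apply, Finsupp.sum, Finset.smul_sum]
      show algebraMap A' K (ι _ i) ∈ _
      rw [map_sum, Finsupp.finsetSum_apply, map_sum]
      refine sum_mem fun j _ => ?_
      rw [id_eq, smul_comm b, map_smul, Finsupp.smul_apply, smul_eq_mul, map_mul, mul_comm, ← Algebra.smul_def]
      exact Submodule.smul_mem _ _ (hu j)
  -- `a ^ k` maps `C` into `t • C`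
  have haC : ∀ i, algebraMap A' K (a ^ k) * c x i ∈ t • C := by
    intro i
    obtain ⟨d, hd⟩ : ∃ d ∈ t.map (algebraMap A' B'), algebraMap A' B' (a ^ k) = g ^ k + d := by
      refine ⟨algebraMap A' B' (a ^ k) - g ^ k, ?_, by ring⟩
      rw [map_pow, ← Ideal.Quotient.eq, map_pow, map_pow]
      congr 1
      rw [Ideal.Quotient.eq, ← hgτ, add_sub_cancel_left]
      exact hτ
    have h1 : c (g ^ k • x) i = 0 := congrFun (hker _ hk) i
    have h2 : algebraMap A' K (a ^ k) * c x i = c (g ^ k • x) i + c (d • x) i := by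
      simp only [c]
      rw [← map_mul, ← map_add, ← Finsupp.add_apply, ← map_add, ← add_smul, ← hd.2, algebraMap_smul,
        map_smul, Finsupp.smul_apply, smul_eq_mul]
    rw [h2, h1, zero_add]
    exact hτC d hd.1 i
  -- Nakayama
  let φ : Module.End A' C := algebraMap A' (Module.End A' C) (a ^ k)
  have hrange : LinearMap.range φ ≤ t • (⊤ : Submodule A' C) := by
    have : (t • (⊤ : Submodule A' C)) = Submodule.comap C.subtype (t • C) := by
      apply Submodule.map_injective_of_injective C.injective_subtype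
      rw [Submodule.map_smul'', Submodule.map_top, Submodule.range_subtype,
        Submodule.map_comap_eq_of_le]
      rw [Submodule.range_subtype]
      exact Submodule.smul_le_right
    rw [this]
    rintro _ ⟨⟨w, hw⟩, rfl⟩
    show a ^ k • w ∈ t • C
    have : C ≤ Submodule.comap (LinearMap.lsmul A' K (a ^ k)) (t • C) := by
      rw [Submodule.span_le]
      rintro _ ⟨i, rfl⟩
      show a ^ k • c x i ∈ t • C
      rw [Algebra.smul_def (a ^ k) (c x i)]
      exact haC i
    exact this hw
  have : Module.Finite A' C := Module.Finite.iff_fg.mpr hCfg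
  obtain ⟨q, hq, _, hqc, hq0⟩ :=
    LinearMap.exists_monic_and_natDegree_eq_and_coeff_mem_pow_and_aeval_eq_zero (R := A') (M := C) φ t hrange
  have hu : q.eval (a ^ k) ∉ t := by
    intro h
    rw [Polynomial.eval_eq_sum_range, Finset.sum_range_succ, hq.coeff_natDegree, one_mul] at h
    have h' : ∑ i ∈ Finset.range q.natDegree, q.coeff i * (a ^ k) ^ i ∈ t :=
      sum_mem fun i hi => t.mul_mem_right _ (Ideal.pow_le_self (by
        have := Finset.mem_range.mp hi; omega) (hqc i))
    exact hat (Ideal.IsPrime.mem_of_pow_mem ‹_› k (Ideal.IsPrime.mem_of_pow_mem ‹_› q.natDegree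
      ((Ideal.add_mem_iff_right t h').mp h)))
  apply hC0
  rw [eq_bot_iff]
  intro w hw
  have hφ : Polynomial.aeval φ q = algebraMap A' (Module.End A' C) (q.eval (a ^ k)) :=
    Polynomial.aeval_algebraMap_apply_eq_algebraMap_eval (a ^ k) q
  rw [hφ] at hq0
  have h3 : algebraMap A' K (q.eval (a ^ k)) * w = 0 := by
    rw [← Algebra.smul_def]
    exact congrArg Subtype.val (LinearMap.congr_fun hq0 ⟨w, hw⟩)
  have hne : algebraMap A' K (q.eval (a ^ k)) ≠ 0 := fun h =>
    hu (htt (Ideal.algebraMap_residueField_eq_zero.mp h))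
  exact (mul_eq_zero.mp h3).resolve_left hne

end Groth.FlatmorThree
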