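import Mathlib.RingTheory.Flat.Basic
import Mathlib.RingTheory.Flat.Localization
import Mathlib.RingTheory.Flat.Stability
import Mathlib.RingTheory.QuasiFinite.Basic
import Mathlib.RingTheory.IntegralClosure.IsIntegralClosure.Basic
import Mathlib.RingTheory.Localization.Free
import Mathlib.RingTheory.Localization.Away.Basic
import Mathlib.RingTheory.Localization.Integer
import Mathlib.RingTheory.Finiteness.ModuleFinitePresentation
import Mathlib.RingTheory.LocalRing.Module
import Mathlib.Algebra.Polynomial.Lifts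

/-! Tools for `S1480`: sections of flat quasi-finite algebras. -/

set_option autoImplicit false

universe u

open scoped TensorProduct
open Polynomial

namespace Groth.FlatmorThree.QFSection

/-- If every prime above `I` that misses `S` contains `a`, then `s * a ^ n ∈ I` for some `s ∈ S`. -/
theorem exists_mul_pow_mem {R : Type u} [CommRing R] (I : Ideal R) (S : Submonoid R) (a : R)
    (h : ∀ Q : Ideal R, Q.IsPrime → I ≤ Q → Disjoint (Q : Set R) S → a ∈ Q) :
    ∃ s ∈ S, ∃ n : ℕ, s * a ^ n ∈ I := by
  by_contra hcon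
  have hd : Disjoint (I : Set R) ↑(S ⊔ Submonoid.powers a) := by
    rw [Set.disjoint_left]
    intro x hx hx'
    obtain ⟨s, hs, t, ⟨n, rfl⟩, rfl⟩ := Submonoid.mem_sup.mp hx'
    exact hcon ⟨s, hs, n, hx⟩
  obtain ⟨Q, hQ, hIQ, hQd⟩ := Ideal.exists_le_prime_disjoint I _ hd
  refine Set.disjoint_left.mp hQd (h Q hQ hIQ (Set.disjoint_of_subset_right ?_ hQd)) ?_
  · exact SetLike.coe_subset_coe.mpr le_sup_left
  · exact SetLike.le_def.mp le_sup_right (Submonoid.mem_powers a)

/-- Elements of a flat algebra killed by `I` come from `Ann(I)`, coordinatewise in a basis mod `I`. -/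
theorem core {A B : Type u} [CommRing A] [CommRing B] [Algebra A B] [Module.Flat A B]
    (I : Ideal A) (hI : I.FG) (r : ℕ) (b : Fin r → B)
    (hgen : ∀ x : B, ∃ c : Fin r → A, x - ∑ i, c i • b i ∈ I.map (algebraMap A B))
    (hind : ∀ c : Fin r → A, ∑ i, c i • b i ∈ I.map (algebraMap A B) → ∀ i, c i ∈ I)
    (g : B) (hg : ∀ a ∈ I, a • g = 0) :
    ∃ (F : Ideal A) (φ : (Fin r → ↥F) →ₗ[A] B),
      Function.Injective φ ∧ g ∈ LinearMap.range φ := by
  classical
  let T : Ideal A := Submodule.annihilator (I : Submodule A A)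
  have hT : ∀ t : T, ∀ a ∈ I, (t : A) * a = 0 := fun t a ha =>
    Submodule.mem_annihilator.mp t.2 a ha
  choose c hc using hgen
  have hwd : ∀ (d : Fin r → A) (x : B), x - ∑ i, d i • b i ∈ I.map (algebraMap A B) →
      ∀ (t : T) i, d i • t = c x i • t := by
    intro d x hd t i
    have h1 : ∑ i, (c x i - d i) • b i ∈ I.map (algebraMap A B) := by
      simp only [sub_smul, Finset.sum_sub_distrib]
      convert Ideal.sub_mem _ hd (hc x) using 1
      abel
    apply Subtype.ext
    have := hT t _ (hind _ h1 i)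
    rw [mul_sub, sub_eq_zero] at this
    simpa [mul_comm] using this.symm
  let Ψ₀ : T →ₗ[A] B →ₗ[A] (Fin r → T) := LinearMap.mk₂ A (fun t x i => c x i • t)
    (fun t t' x => by funext i; exact smul_add _ _ _)
    (fun a t x => by funext i; exact smul_comm _ _ _)
    (fun t x x' => by
      funext i
      show c (x + x') i • t = c x i • t + c x' i • t
      rw [← add_smul]
      refine (hwd (fun i => c x i + c x' i) (x + x') ?_ t i).symm
      convert Ideal.add_mem _ (hc x) (hc x') using 1
      simp only [add_smul, Finset.sum_add_distrib]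
      abel)
    (fun a t x => by
      funext i
      show c (a • x) i • t = a • (c x i • t)
      rw [smul_smul]
      refine (hwd (fun i => a * c x i) (a • x) ?_ t i).symm
      convert Submodule.smul_of_tower_mem (I.map (algebraMap A B)) a (hc x) using 1
      simp only [smul_sub, Finset.smul_sum, smul_smul])
  let Ψ := TensorProduct.lift Ψ₀
  let Φ : (Fin r → T) →ₗ[A] T ⊗[A] B :=
    ∑ i, ((TensorProduct.mk A T B).flip (b i)) ∘ₗ LinearMap.proj i
  have hΦ : ∀ x, Φ x = ∑ i, x i ⊗ₜ[A] b i := fun x => by simp [Φ]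
  have hΨΦ : ∀ x, Ψ (Φ x) = x := by
    intro x
    rw [hΦ, map_sum]
    funext j
    rw [Finset.sum_apply]
    have : ∀ i, Ψ (x i ⊗ₜ[A] b i) j = (if i = j then (1 : A) else 0) • x i := fun i => by
      show c (b i) j • x i = _
      refine (hwd (fun k => if i = k then 1 else 0) (b i) ?_ (x i) j).symm
      simp
    simp [this]
  have hzero : ∀ (t : T), ∀ w ∈ I.map (algebraMap A B), t ⊗ₜ[A] w = (0 : T ⊗[A] B) := by
    intro t w hw
    have hw' : w ∈ (I • ⊤ : Submodule A B) := by
      rw [Ideal.smul_top_eq_map]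
      exact hw
    refine Submodule.smul_induction_on hw' (fun a ha y _ => ?_) fun y z hy hz => by
      rw [TensorProduct.tmul_add, hy, hz, add_zero]
    rw [← TensorProduct.smul_tmul, show a • t = 0 from Subtype.ext (by
      simpa [mul_comm] using hT t a ha), TensorProduct.zero_tmul]
  have hΦΨ : ∀ z, Φ (Ψ z) = z := by
    intro z
    induction z with
    | zero => simp
    | tmul t x =>
      rw [hΦ]
      show ∑ i, (c x i • t) ⊗ₜ[A] b i = t ⊗ₜ[A] x
      simp only [TensorProduct.smul_tmul, ← TensorProduct.tmul_sum]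
      rw [eq_comm, ← sub_eq_zero, ← TensorProduct.tmul_sub]
      exact hzero t _ (hc x)
    | add x y hx hy => rw [map_add, map_add, hx, hy]
  let μ : T ⊗[A] B →ₗ[A] B :=
    (TensorProduct.lid A B).toLinearMap ∘ₗ (Submodule.subtype T).rTensor B
  refine ⟨T, μ ∘ₗ Φ, ?_, ?_⟩
  · exact ((TensorProduct.lid A B).injective.comp
      (Module.Flat.rTensor_preserves_injective_linearMap _ Subtype.val_injective)).comp
      (Function.LeftInverse.injective hΨΦ)
  · obtain ⟨n, a, ha⟩ := Submodule.fg_iff_exists_fin_generating_family.mp hI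
    let m : A →ₗ[A] (Fin n → A) := LinearMap.pi fun k => LinearMap.mulRight A (a k)
    have hex : Function.Exact (Submodule.subtype T) m := by
      intro x
      refine ⟨fun hx => ⟨⟨x, ?_⟩, rfl⟩, ?_⟩
      · rw [Submodule.mem_annihilator, ← ha]
        intro y hy
        induction hy using Submodule.span_induction with
        | mem y hy => obtain ⟨k, rfl⟩ := hy; exact congrFun hx k
        | zero => simp
        | add y z _ _ hy hz => rw [smul_add, hy, hz, add_zero]
        | smul d y _ hy => rw [smul_comm, hy, smul_zero]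
      · rintro ⟨t, rfl⟩
        funext k
        exact hT t _ (ha ▸ Submodule.subset_span ⟨k, rfl⟩)
    have h0 : m.rTensor B ((1 : A) ⊗ₜ[A] g) = 0 := by
      rw [LinearMap.rTensor_tmul, show m 1 = ∑ k, a k • (Pi.single k (1 : A) : Fin n → A) from
        (funext fun j => by simp [m, Pi.single_apply]), TensorProduct.sum_tmul]
      refine Finset.sum_eq_zero fun k _ => ?_
      rw [TensorProduct.smul_tmul, hg _ (ha ▸ Submodule.subset_span ⟨k, rfl⟩),
        TensorProduct.tmul_zero]
    obtain ⟨z, hz⟩ := ((Module.Flat.rTensor_exact B hex) _).mp h0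
    refine ⟨Ψ z, ?_⟩
    rw [LinearMap.comp_apply, hΦΨ, LinearMap.comp_apply, hz]
    simp

theorem isIntegral_of_isNilpotent_aeval {R M : Type u} [CommRing R] [CommRing M] [Algebra R M]
    (x : M) (q : R[X]) (hq : IsUnit q.leadingCoeff) (h : IsNilpotent (aeval x q)) :
    IsIntegral R x := by
  obtain ⟨n, hn⟩ := h
  obtain ⟨v, hv⟩ := hq.exists_right_inv
  refine ⟨(C v * q) ^ n, (monic_C_mul_of_mul_leadingCoeff_eq_one (by rw [mul_comm]; exact hv)).pow n, ?_⟩
  rw [← aeval_def, map_pow, map_mul, mul_pow, hn, mul_zero]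

/-- Polynomials over `κ(P)` are defined over `A` up to a denominator outside `P`. -/
theorem exists_lift_mul {A : Type u} [CommRing A] (P : Ideal A) [P.IsPrime]
    (p : P.ResidueField[X]) :
    ∃ d : A, d ∉ P ∧ C (algebraMap A P.ResidueField d) * p ∈ lifts (algebraMap A P.ResidueField) := by
  induction p using Polynomial.induction_on' with
  | add p q hp hq =>
    obtain ⟨d, hd, hp⟩ := hp
    obtain ⟨e, he, hq⟩ := hq
    refine ⟨d * e, fun h => (Ideal.IsPrime.mem_or_mem ‹P.IsPrime› h).elim hd he, ?_⟩
    rw [map_mul, C_mul, mul_add]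
    refine add_mem ?_ ?_
    · rw [mul_comm (C (algebraMap A P.ResidueField d)), mul_assoc]
      exact mul_mem (C_mem_lifts _ e) hp
    · rw [mul_assoc]
      exact mul_mem (C_mem_lifts _ d) hq
  | monomial n a =>
    obtain ⟨x, y, hy, rfl⟩ := IsFractionRing.div_surjective (A ⧸ P) a
    obtain ⟨x, rfl⟩ := Ideal.Quotient.mk_surjective x
    obtain ⟨y, rfl⟩ := Ideal.Quotient.mk_surjective y
    have hy' : y ∉ P := fun h => nonZeroDivisors.ne_zero hy (Ideal.Quotient.eq_zero_iff_mem.mpr h)
    refine ⟨y, hy', ⟨monomial n x, ?_⟩⟩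
    rw [coe_mapRingHom, map_monomial, C_mul_monomial]
    congr 1
    exact (mul_div_cancel₀ (G₀ := P.ResidueField) _
      (fun h => hy' (Ideal.algebraMap_residueField_eq_zero.mp h))).symm

/-- A polynomial with leading coefficient outside `P` sending `x` into all primes over `P`. -/
theorem exists_poly {A B : Type u} [CommRing A] [CommRing B] [Algebra A B] [Algebra.QuasiFinite A B]
    (P : Ideal A) [P.IsPrime] (x : B) :
    ∃ q : A[X], q.leadingCoeff ∉ P ∧
      ∀ Q : Ideal B, Q.IsPrime → Q.comap (algebraMap A B) = P → aeval x q ∈ Q := by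
  let F := P.ResidueField ⊗[A] B
  have : Module.Finite P.ResidueField F := Algebra.QuasiFinite.finite_fiber P
  obtain ⟨p, hp, hp0⟩ := Algebra.IsIntegral.isIntegral (R := P.ResidueField) ((1 : P.ResidueField) ⊗ₜ[A] x : F)
  obtain ⟨d, hd, q, hq⟩ := exists_lift_mul P p
  rw [coe_mapRingHom] at hq
  have hd0 : algebraMap A P.ResidueField d ≠ 0 := fun h =>
    hd (Ideal.algebraMap_residueField_eq_zero.mp h)
  let N := p.natDegree
  let q' : A[X] := ∑ i ∈ Finset.range (N + 1), monomial i (q.coeff i)
  have hcoeff : ∀ i, q'.coeff i = if i ≤ N then q.coeff i else 0 := fun i => by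
    simp [q', finsetSum_coeff, coeff_monomial]
  have hmap : q'.map (algebraMap A P.ResidueField) = C (algebraMap A P.ResidueField d) * p := by
    ext i
    rw [coeff_map, hcoeff]
    split_ifs with h
    · rw [← coeff_map, hq]
    · rw [map_zero, coeff_C_mul, coeff_eq_zero_of_natDegree_lt (not_le.mp h), mul_zero]
  have hN : algebraMap A P.ResidueField (q'.coeff N) = algebraMap A P.ResidueField d := by
    rw [← coeff_map, hmap, coeff_C_mul, coeff_natDegree, hp.leadingCoeff, mul_one]
  have hlead : q'.leadingCoeff = q'.coeff N := by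
    rw [leadingCoeff, natDegree_eq_of_le_of_coeff_ne_zero
      (natDegree_le_iff_coeff_eq_zero.mpr fun i hi => by rw [hcoeff, if_neg (not_le.mpr hi)])
      (fun h => hd0 (by rw [← hN, h, map_zero]))]
  refine ⟨q', fun h => hd0 ?_, fun Q hQ hQP => ?_⟩
  · rw [← hN, ← hlead]
    exact Ideal.algebraMap_residueField_eq_zero.mpr h
  · have h0 : aeval ((1 : P.ResidueField) ⊗ₜ[A] x : F) q' = 0 := by
      rw [← aeval_map_algebraMap P.ResidueField, hmap, map_mul, aeval_def (p := p), hp0, mul_zero]
    let Λ : F →ₐ[A] Q.ResidueField := Algebra.TensorProduct.lift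
      (Ideal.ResidueField.mapₐ P Q (Algebra.ofId A B) hQP.symm)
      (IsScalarTower.toAlgHom A B Q.ResidueField) (fun _ _ => mul_comm _ _)
    have h1 := congrArg Λ h0
    rw [map_zero, ← aeval_algHom_apply,
      show Λ ((1 : P.ResidueField) ⊗ₜ[A] x) = algebraMap B Q.ResidueField x from
        (Algebra.TensorProduct.lift_tmul _ _ _ _ _).trans (by rw [map_one, one_mul]; rfl),
      aeval_algebraMap_apply] at h1
    exact Ideal.algebraMap_residueField_eq_zero.mp h1

/-- Separate a point of a finite fibre from the others. -/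
theorem exists_separate {A B : Type u} [CommRing A] [CommRing B] [Algebra A B]
    [Algebra.QuasiFinite A B] (Q : Ideal B) [Q.IsPrime] :
    ∃ (e : B) (u : A), e ∉ Q ∧ u ∉ Q.comap (algebraMap A B) ∧ e - algebraMap A B u ∈ Q ∧
      ∀ Q' : Ideal B, Q'.IsPrime → Q'.comap (algebraMap A B) = Q.comap (algebraMap A B) →
        Q' ≠ Q → e ∈ Q' := by
  classical
  let P := Q.comap (algebraMap A B)
  have hfin : ((P.primesOver B) \ {Q}).Finite :=
    (Algebra.QuasiFinite.finite_primesOver P).subset Set.sdiff_subset
  let O := hfin.toFinset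
  let E : Ideal B := O.inf id
  obtain ⟨u, hu, huP⟩ : ∃ u ∈ (Q ⊔ E).comap (algebraMap A B), u ∉ P := by
    by_contra! hcon
    obtain ⟨Q'', hQ'', hle, hd⟩ := Ideal.exists_le_prime_disjoint (Q ⊔ E)
      (P.primeCompl.map (algebraMap A B)) (by
        rw [Set.disjoint_left]
        rintro _ hx ⟨a, ha, rfl⟩
        exact ha (hcon a hx))
    have hP'' : Q''.comap (algebraMap A B) = P := le_antisymm (fun a ha => by
      by_contra h
      exact Set.disjoint_left.mp hd ha ⟨a, h, rfl⟩) (Ideal.comap_mono (le_sup_left.trans hle))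
    have heq : Q = Q'' := Algebra.QuasiFinite.eq_of_le_of_under_eq (R := A) Q Q''
      (le_sup_left.trans hle) hP''.symm
    subst heq
    obtain ⟨Q', hQ', hle'⟩ := (Ideal.IsPrime.inf_le' hQ'').mp
      (show O.inf id ≤ Q from le_sup_right.trans hle)
    rw [Set.Finite.mem_toFinset] at hQ'
    have : Q'.IsPrime := hQ'.1.1
    exact hQ'.2 (Algebra.QuasiFinite.eq_of_le_of_under_eq (R := A) Q' Q hle' hQ'.1.2.over.symm)
  obtain ⟨w, hw, e, he, hwe⟩ := Submodule.mem_sup.mp (Ideal.mem_comap.mp hu)
  have heu : e - algebraMap A B u ∈ Q := by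
    rw [← hwe, sub_add_cancel_right]
    exact neg_mem hw
  refine ⟨e, u, fun h => huP ?_, huP, heu, fun Q' hQ' hQ'P hne => ?_⟩
  · show algebraMap A B u ∈ Q
    simpa using sub_mem h heu
  · exact Finset.inf_le (f := id) (hfin.mem_toFinset.mpr ⟨⟨hQ', ⟨hQ'P.symm⟩⟩, hne⟩) he

end Groth.FlatmorThree.QFSection

namespace Groth.FlatmorThree.QFSection

/-- A finitely presented flat module is free near `P`, elementwise. -/
theorem exists_basis_elems {R M : Type u} [CommRing R] [AddCommGroup M] [Module R M]
    [Module.FinitePresentation R M] [Module.Flat R M] (P : Ideal R) [P.IsPrime] :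
    ∃ (f : R) (_ : f ∉ P) (n : ℕ) (m : Fin n → M),
      (∀ x : M, ∃ (k : ℕ) (c : Fin n → R), f ^ k • x = ∑ i, c i • m i) ∧
      ∀ c : Fin n → R, ∑ i, c i • m i = 0 → ∃ k : ℕ, ∀ i, f ^ k * c i = 0 := by
  classical
  let M' := LocalizedModule P.primeCompl M
  have : Module.Finite (Localization P.primeCompl) M' :=
    Module.Finite.of_isLocalizedModule P.primeCompl (Rₚ := Localization P.primeCompl)
      (LocalizedModule.mkLinearMap P.primeCompl M)
  have : Module.Flat (Localization P.primeCompl) M' :=
    Module.Flat.of_linearEquiv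
      (IsLocalizedModule.isBaseChange P.primeCompl (Localization P.primeCompl)
        (LocalizedModule.mkLinearMap P.primeCompl M)).equiv.symm
  have : IsLocalRing (Localization P.primeCompl) := inferInstanceAs (IsLocalRing (Localization.AtPrime P))
  have : Module.Free (Localization P.primeCompl) M' := Module.free_of_flat_of_isLocalRing
  let b := Module.Free.chooseBasis (Localization P.primeCompl) M'
  let e := Fintype.equivFin (Module.Free.ChooseBasisIndex (Localization P.primeCompl) M')
  obtain ⟨f, hf, b', -⟩ := Module.FinitePresentation.exists_basis_localizedModule_powers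
    P.primeCompl (LocalizedModule.mkLinearMap P.primeCompl M) (Localization P.primeCompl) (b.reindex e)
  let L := LocalizedModule.mkLinearMap (Submonoid.powers f) M
  choose ms hms using fun i => IsLocalizedModule.surj (Submonoid.powers f) L (b' i)
  let Rf := Localization (Submonoid.powers f)
  have hunit : ∀ i, IsUnit (algebraMap R Rf (ms i).2) := fun i => IsLocalization.map_units Rf (ms i).2
  let b'' := b'.unitsSMul fun i => (hunit i).unit
  have hb : ∀ i, b'' i = L (ms i).1 := fun i => by
    rw [← hms i, Module.Basis.unitsSMul_apply]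
    show ((hunit i).unit : Rf) • b' i = _
    rw [IsUnit.unit_spec, algebraMap_smul]
    rfl
  refine ⟨f, hf, _, fun i => (ms i).1, fun x => ?_, fun c hc => ?_⟩
  · obtain ⟨⟨_, k, rfl⟩, hk⟩ := IsLocalization.exist_integer_multiples_of_finite
      (Submonoid.powers f) (S := Rf) fun i => b''.repr (L x) i
    choose a ha using hk
    have : L (f ^ k • x) = L (∑ i, a i • (ms i).1) := by
      rw [map_smul, map_sum, ← b''.sum_repr (L x), Finset.smul_sum]
      refine Finset.sum_congr rfl fun i _ => ?_
      rw [map_smul, ← hb, ← smul_assoc, ← algebraMap_smul Rf (a i)]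
      exact congrArg (· • b'' i) (ha i).symm
    obtain ⟨⟨_, j, rfl⟩, hj⟩ := IsLocalizedModule.exists_of_eq (S := Submonoid.powers f) this
    refine ⟨j + k, fun i => f ^ j * a i, ?_⟩
    rw [pow_add, mul_smul]
    refine hj.trans ?_
    show (f ^ j) • (∑ i, a i • (ms i).1) = ∑ i, (f ^ j * a i) • (ms i).1
    rw [Finset.smul_sum]
    exact Finset.sum_congr rfl fun i _ => by rw [mul_smul]
  · have h1 : ∑ i, algebraMap R Rf (c i) • b'' i = 0 := by
      simp only [hb, algebraMap_smul, ← map_smul, ← map_sum]
      rw [hc, map_zero]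
    have h2 := fun i => (IsLocalization.map_eq_zero_iff (Submonoid.powers f) Rf (c i)).mp
      (Fintype.linearIndependent_iff.mp b''.linearIndependent _ h1 i)
    choose t ht using h2
    choose k hk using fun i => (t i).2
    refine ⟨∑ i, k i, fun i => ?_⟩
    rw [← Finset.sum_erase_add _ _ (Finset.mem_univ i), pow_add, mul_assoc,
      show f ^ k i = (t i : R) from hk i, ht i, mul_zero]

end Groth.FlatmorThree.QFSection
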