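import Groth.Agent.FlatmorThree.QFSectionCore
import Mathlib.RingTheory.IntegralClosure.IntegrallyClosed
import Mathlib.RingTheory.Ideal.GoingUp
import Mathlib.RingTheory.Ideal.Over
import Mathlib.LinearAlgebra.TensorProduct.Quotient
import Mathlib.RingTheory.Localization.Ideal
import Mathlib.RingTheory.Localization.Away.AdjoinRoot

/-! The algebra behind `S1480`. -/

set_option autoImplicit false

universe u

open scoped TensorProduct
open Polynomial

namespace Groth.FlatmorThree.QFSection

section Generic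

variable {A B A' B' : Type u} [CommRing A] [CommRing B] [CommRing A'] [CommRing B'] [Algebra A B]
  [Algebra A A'] [Algebra B B'] [Algebra A' B'] [Algebra A B'] [IsScalarTower A A' B']
  [IsScalarTower A B B']

theorem flat_localization (S : Submonoid A) [IsLocalization S A'] (T : Submonoid B)
    [IsLocalization T B'] [Module.Flat A B] : Module.Flat A' B' := by
  have : Module.Flat B B' := IsLocalization.flat B' T
  exact (Module.flat_iff_of_isLocalization A' S B').mpr (Module.Flat.trans A B B')

omit [Algebra A B] [IsScalarTower A B B'] in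
theorem flat_quotient (J : Ideal A') [Module.Flat A' B'] :
    Module.Flat (A' ⧸ J) (B' ⧸ J.map (algebraMap A' B')) := by
  let e₀ : (A' ⧸ J) ⊗[A'] B' ≃ₗ[A'] B' ⧸ (J • ⊤ : Submodule A' B') :=
    TensorProduct.quotTensorEquivQuotSMul B' J
  let e₁ : (B' ⧸ (J • ⊤ : Submodule A' B')) ≃ₗ[A'] B' ⧸ J.map (algebraMap A' B') :=
    (Submodule.quotEquivOfEq _ _ (Ideal.smul_top_eq_map J)).trans
      (Submodule.Quotient.restrictScalarsEquiv A' _)
  let e := e₀.trans e₁
  let e' : (A' ⧸ J) ⊗[A'] B' ≃ₗ[A' ⧸ J] B' ⧸ J.map (algebraMap A' B') :=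
    { e.toAddEquiv with
      map_smul' := fun x y => by
        obtain ⟨x, rfl⟩ := Ideal.Quotient.mk_surjective x
        show e (algebraMap A' (A' ⧸ J) x • y) = algebraMap A' (A' ⧸ J) x • e y
        rw [algebraMap_smul, algebraMap_smul, map_smul] }
  exact Module.Flat.of_linearEquiv e'.symm

theorem finitePresentation_quotient (s : A) [IsLocalization.Away s A'] (w : B)
    [IsLocalization.Away w B'] [Algebra.FinitePresentation A B] (J : Ideal A') (hJ : J.FG)
    [Module.Finite (A' ⧸ J) (B' ⧸ J.map (algebraMap A' B'))] :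
    Module.FinitePresentation (A' ⧸ J) (B' ⧸ J.map (algebraMap A' B')) := by
  have : Algebra.FinitePresentation B B' := IsLocalization.Away.finitePresentation w
  have : Algebra.FinitePresentation A B' := .trans A B B'
  have : Algebra.FinitePresentation A A' := IsLocalization.Away.finitePresentation s
  have : Algebra.FinitePresentation A' B' :=
    .of_restrict_scalars_finitePresentation A A' B'
  have : Algebra.FinitePresentation A' (B' ⧸ J.map (algebraMap A' B')) :=
    Algebra.FinitePresentation.quotient (hJ.map _)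
  have : Algebra.FiniteType A' (A' ⧸ J) :=
    Algebra.FiniteType.of_surjective (Ideal.Quotient.mkₐ A' J) Ideal.Quotient.mk_surjective
  have : Algebra.FinitePresentation (A' ⧸ J) (B' ⧸ J.map (algebraMap A' B')) :=
    .of_restrict_scalars_finitePresentation A' (A' ⧸ J) _
  exact Module.FinitePresentation.of_finite_of_finitePresentation _ _

omit [IsScalarTower A B B'] [Algebra B B'] [Algebra A B] in
theorem tower_quotient (J : Ideal A') :
    IsScalarTower A (A' ⧸ J) (B' ⧸ J.map (algebraMap A' B')) :=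
  .of_algebraMap_eq fun x =>
    congrArg (Ideal.Quotient.mk _) (IsScalarTower.algebraMap_apply A A' B' x)

theorem finite_stage (s : A) [IsLocalization.Away s A'] (w : B) [IsLocalization.Away w B']
    [Algebra.FiniteType A B] (I : Ideal A) (S : Finset B) (hS : Algebra.adjoin A (S : Set B) = ⊤)
    (q : B → A[X]) (hlead : ∀ x ∈ S, (q x).leadingCoeff ∣ s)
    (hnil : ∀ x ∈ S, ∃ n : ℕ, algebraMap A B s * aeval x (q x) ^ n ∈ I.map (algebraMap A B))
    (hws : algebraMap A B s ∣ w)
    (hw : ∀ v : B' ⧸ (I.map (algebraMap A A')).map (algebraMap A' B'),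
      (∀ b : B, IsIntegral (A' ⧸ I.map (algebraMap A A'))
        (Ideal.Quotient.mk ((I.map (algebraMap A A')).map (algebraMap A' B')) (algebraMap B B' b))) →
      v * Ideal.Quotient.mk _ (algebraMap B B' w) = 1 →
      IsIntegral (A' ⧸ I.map (algebraMap A A')) v) :
    Module.Finite (A' ⧸ I.map (algebraMap A A'))
      (B' ⧸ (I.map (algebraMap A A')).map (algebraMap A' B')) := by
  let J := I.map (algebraMap A A')
  let M := B' ⧸ J.map (algebraMap A' B')
  have : IsScalarTower A (A' ⧸ J) M := tower_quotient J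
  let π : B →ₐ[A] M := (Ideal.Quotient.mkₐ A (J.map (algebraMap A' B'))).comp
    (IsScalarTower.toAlgHom A B B')
  have hI : ∀ y ∈ I.map (algebraMap A B), π y = 0 := fun y hy => by
    have := Ideal.mem_map_of_mem (algebraMap B B') hy
    rw [Ideal.map_map, ← IsScalarTower.algebraMap_eq, IsScalarTower.algebraMap_eq A A' B',
      ← Ideal.map_map] at this
    exact Ideal.Quotient.eq_zero_iff_mem.mpr this
  have hsB : IsUnit (π (algebraMap A B s)) :=
    (isUnit_of_dvd_unit (map_dvd (algebraMap B B') hws)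
      (IsLocalization.Away.algebraMap_isUnit w)).map (Ideal.Quotient.mk _)
  have hall : ∀ b : B, IsIntegral (A' ⧸ J) (π b) := by
    intro b
    have hb : b ∈ Algebra.adjoin A (S : Set B) := hS ▸ Algebra.mem_top
    induction hb using Algebra.adjoin_induction with
    | mem x hx =>
      obtain ⟨n, hn⟩ := hnil x hx
      refine isIntegral_of_isNilpotent_aeval _ ((q x).map (algebraMap A (A' ⧸ J))) ?_ ?_
      · have hu : IsUnit (algebraMap A (A' ⧸ J) (q x).leadingCoeff) := by
          refine isUnit_of_dvd_unit (map_dvd _ (hlead x hx)) ?_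
          rw [IsScalarTower.algebraMap_apply A A' (A' ⧸ J)]
          exact (IsLocalization.Away.algebraMap_isUnit s).map _
        by_cases hM : (1 : A' ⧸ J) = 0
        · have := subsingleton_of_zero_eq_one hM.symm
          exact isUnit_of_subsingleton _
        · have : Nontrivial (A' ⧸ J) := nontrivial_of_ne _ _ hM
          rwa [leadingCoeff_map_of_leadingCoeff_ne_zero _ hu.ne_zero]
      · rw [aeval_map_algebraMap, aeval_algHom_apply]
        exact ⟨n, hsB.mul_right_eq_zero.mp (by rw [← map_pow, ← map_mul]; exact hI _ hn)⟩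
    | algebraMap r =>
      rw [AlgHom.commutes, IsScalarTower.algebraMap_apply A (A' ⧸ J) M]
      exact isIntegral_algebraMap
    | add x y _ _ hx hy => rw [map_add]; exact hx.add hy
    | mul x y _ _ hx hy => rw [map_mul]; exact hx.mul hy
  obtain ⟨v, hv⟩ := ((IsLocalization.Away.algebraMap_isUnit w).map
    (Ideal.Quotient.mk (J.map (algebraMap A' B')))).exists_left_inv
  have hvint := hw v hall hv
  have : Algebra.IsIntegral (A' ⧸ J) M := ⟨fun m => by
    obtain ⟨y, rfl⟩ := Ideal.Quotient.mk_surjective m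
    obtain ⟨⟨b, ⟨_, k, rfl⟩⟩, hy⟩ := IsLocalization.surj (Submonoid.powers w) y
    have h := congrArg (Ideal.Quotient.mk (J.map (algebraMap A' B'))) hy
    rw [map_mul, map_pow, map_pow] at h
    have : Ideal.Quotient.mk (J.map (algebraMap A' B')) y = π b * v ^ k := by
      show _ = Ideal.Quotient.mk _ (algebraMap B B' b) * v ^ k
      rw [← h, mul_assoc, ← mul_pow, mul_comm _ v, hv, one_pow, mul_one]
    rw [this]
    exact (hall b).mul (hvint.pow k)⟩
  have : Algebra.FinitePresentation B B' := IsLocalization.Away.finitePresentation w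
  have : Algebra.FiniteType A B' := .trans (S := B) inferInstance inferInstance
  have : Algebra.FiniteType A M := .trans (S := B') inferInstance
    (Algebra.FiniteType.of_surjective (Ideal.Quotient.mkₐ B' _) Ideal.Quotient.mk_surjective)
  have : Algebra.FiniteType (A' ⧸ J) M := .of_restrictScalars_finiteType A (A' ⧸ J) M
  exact Algebra.IsIntegral.finite

end Generic

variable {A B : Type u} [CommRing A] [CommRing B] [Algebra A B]

/-- The stage over which the section is killed by `I` and the algebra is finite modulo `I`. -/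
theorem exists_stage [Algebra.FinitePresentation A B] [Algebra.QuasiFinite A B] (g : B) (hg : g ≠ 0) :
    ∃ (s : A) (w : B) (I : Ideal A), I.FG ∧ algebraMap A B s ∣ w ∧
      ∀ (A' B' : Type u) [CommRing A'] [CommRing B'] [Algebra A A'] [Algebra B B'] [Algebra A' B']
        [Algebra A B'] [IsScalarTower A A' B'] [IsScalarTower A B B']
        [IsLocalization.Away s A'] [IsLocalization.Away w B'],
        Module.Finite (A' ⧸ I.map (algebraMap A A'))
          (B' ⧸ (I.map (algebraMap A A')).map (algebraMap A' B')) ∧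
        (∀ a ∈ I.map (algebraMap A A'), a • algebraMap B B' g = 0) ∧
        ∃ Q : Ideal B', Q.IsPrime ∧ (∀ x, x * algebraMap B B' g = 0 → x ∈ Q) ∧
          (I.map (algebraMap A A')).map (algebraMap A' B') ≤ Q := by
  classical
  -- a minimal point of the support of `g`
  let N : Ideal B := LinearMap.ker (LinearMap.toSpanSingleton B B g)
  have hN : ∀ x, x ∈ N ↔ x * g = 0 := fun x => Iff.rfl
  obtain ⟨m, hm, hNm⟩ := Ideal.exists_le_maximal N (fun h => hg (by
    simpa using (hN 1).mp (h ▸ Submodule.mem_top)))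
  obtain ⟨Q, hQmin, -⟩ := Ideal.exists_minimalPrimes_le hNm
  have hQ : Q.IsPrime := hQmin.1.1
  let P := Q.comap (algebraMap A B)
  let J : Ideal A :=
    { carrier := {a | ∃ h, h ∉ Q ∧ h * algebraMap A B a ∈ N}
      zero_mem' := ⟨1, Q.one_notMem, by simp⟩
      add_mem' := by
        rintro a b ⟨h, hh, ha⟩ ⟨k, hk, hb⟩
        refine ⟨h * k, fun h' => (hQ.mem_or_mem h').elim hh hk, ?_⟩
        rw [map_add, mul_add]
        exact add_mem (by rw [mul_right_comm]; exact N.mul_mem_right _ ha)
          (by rw [mul_assoc]; exact N.mul_mem_left _ hb)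
      smul_mem' := by
        rintro r a ⟨h, hh, ha⟩
        refine ⟨h, hh, ?_⟩
        rw [smul_eq_mul, map_mul, mul_left_comm]
        exact N.mul_mem_left _ ha }
  have hJP : J ≤ P := by
    rintro a ⟨h, hh, ha⟩
    exact (hQ.mem_or_mem (hQmin.1.2 ha)).resolve_left hh
  have hJrad : ∀ a ∈ P, ∃ n : ℕ, a ^ n ∈ J := by
    intro a ha
    obtain ⟨h, hh, n, hn⟩ := exists_mul_pow_mem N Q.primeCompl (algebraMap A B a)
      (fun Q' hQ' hle hd => by
        have hQ'Q : Q' ≤ Q := fun x hx => by
          by_contra h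
          exact Set.disjoint_left.mp hd hx h
        exact hQmin.2 ⟨hQ', hle⟩ hQ'Q ha)
    exact ⟨n, h, hh, by rwa [map_pow]⟩
  -- elements lying in all primes over `P` are nilpotent mod `J`
  have hnilJ : ∀ y : B, (∀ Q' : Ideal B, Q'.IsPrime → Q'.comap (algebraMap A B) = P → y ∈ Q') →
      ∃ t : A, t ∉ P ∧ ∃ n : ℕ, algebraMap A B t * y ^ n ∈ J.map (algebraMap A B) := by
    intro y hy
    obtain ⟨_, ⟨t, ht, rfl⟩, n, hn⟩ := exists_mul_pow_mem (J.map (algebraMap A B))
      (P.primeCompl.map (algebraMap A B)) y fun Q' hQ' hle hd => hy Q' hQ' (le_antisymm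
        (fun a ha => by
          by_contra h
          exact Set.disjoint_left.mp hd ha ⟨a, h, rfl⟩)
        (fun a ha => by
          obtain ⟨k, hk⟩ := hJrad a ha
          exact hQ'.mem_of_pow_mem k (map_pow (algebraMap A B) a k ▸
            (Ideal.map_le_iff_le_comap.mp hle hk))))
    exact ⟨t, ht, n, hn⟩
  obtain ⟨S, hS⟩ := (inferInstance : Algebra.FiniteType A B).out
  choose q hq hqQ using fun x : B => exists_poly P x
  obtain ⟨e, u, heQ, huP, heu, heO⟩ := exists_separate (A := A) Q
  have hz : ∀ Q' : Ideal B, Q'.IsPrime → Q'.comap (algebraMap A B) = P →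
      e * (e - algebraMap A B u) ∈ Q' := fun Q' hQ' hQ'P => by
    by_cases h : Q' = Q
    · exact h ▸ Q.mul_mem_left _ heu
    · exact Q'.mul_mem_right _ (heO Q' hQ' hQ'P h)
  let Z : Finset B := insert (e * (e - algebraMap A B u)) (S.image fun x => aeval x (q x))
  have hZ : ∀ y ∈ Z, ∀ Q' : Ideal B, Q'.IsPrime → Q'.comap (algebraMap A B) = P → y ∈ Q' := by
    intro y hy
    rcases Finset.mem_insert.mp hy with rfl | hy
    · exact hz
    · obtain ⟨x, -, rfl⟩ := Finset.mem_image.mp hy
      exact hqQ x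
  choose t ht n hn using fun y : Z => hnilJ y.1 (hZ y.1 y.2)
  have hfin := fun y : Z => Submodule.mem_span_finite_of_mem_span (R := B) (M := B)
    (S := algebraMap A B '' (J : Set A)) (hn y)
  choose T hT hTn using hfin
  choose a ha haT using fun y : Z => fun z : (T y : Finset B) => hT y z.2
  let G : Finset A := Finset.univ.biUnion fun y : Z => Finset.univ.image (a y)
  let I : Ideal A := Ideal.span (G : Set A)
  have hIJ : I ≤ J := Ideal.span_le.mpr fun c hc => by
    simp only [G, Finset.coe_biUnion, Finset.coe_image, Set.mem_iUnion, Set.mem_image] at hc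
    obtain ⟨y, -, z, -, rfl⟩ := hc
    exact ha y z
  have hnI : ∀ y : Z, algebraMap A B (t y) * y.1 ^ n y ∈ I.map (algebraMap A B) := fun y => by
    refine Submodule.span_le.mpr (fun z hz => ?_) (hTn y)
    rw [show z = algebraMap A B (a y ⟨z, hz⟩) from (haT y ⟨z, hz⟩).symm]
    exact Ideal.mem_map_of_mem _ (Ideal.subset_span
      (Finset.mem_biUnion.mpr ⟨y, Finset.mem_univ _, Finset.mem_image.mpr ⟨⟨z, hz⟩, Finset.mem_univ _, rfl⟩⟩))
  -- an element killing `I g`
  choose hh hhQ hhN using fun c : G => hIJ (Ideal.subset_span c.2)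
  let h : B := ∏ c, hh c
  have hhQ' : h ∉ Q := fun h' => by
    obtain ⟨c, -, hc⟩ := (Ideal.IsPrime.prod_mem_iff).mp h'
    exact hhQ c hc
  have hkill : ∀ c ∈ I, h * algebraMap A B c * g = 0 := by
    intro c hc
    induction hc using Submodule.span_induction with
    | mem c hc =>
      obtain ⟨d, hd⟩ := Finset.dvd_prod_of_mem hh (Finset.mem_univ (⟨c, hc⟩ : G))
      show h * algebraMap A B c * g = 0
      rw [show h = hh ⟨c, hc⟩ * d from hd, mul_comm (hh _), mul_assoc d, mul_assoc d,
        (hN _).mp (hhN ⟨c, hc⟩), mul_zero]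
    | zero => simp
    | add c d _ _ hc hd => rw [map_add, mul_add, add_mul, hc, hd, add_zero]
    | smul r c _ hc =>
      rw [smul_eq_mul, map_mul, mul_left_comm, mul_assoc, hc, mul_zero]
  -- first stage
  let s₀ : A := (∏ y : Z, t y) * (∏ x ∈ S, (q x).leadingCoeff) * u
  have hs₀ : s₀ ∉ P := fun hmem => by
    rcases (Ideal.IsPrime.mem_or_mem inferInstance hmem) with hmem | hmem
    · rcases (Ideal.IsPrime.mem_or_mem inferInstance hmem) with hmem | hmem
      · obtain ⟨y, -, hy⟩ := Ideal.IsPrime.prod_mem_iff.mp hmem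
        exact ht y hy
      · obtain ⟨x, -, hx⟩ := Ideal.IsPrime.prod_mem_iff.mp hmem
        exact hq x hx
    · exact huP hmem
  have hnil : ∀ (s : A), s₀ ∣ s → ∀ y (hy : y ∈ Z),
      ∃ k : ℕ, algebraMap A B s * y ^ k ∈ I.map (algebraMap A B) := by
    intro s hs y hy
    obtain ⟨d, hd⟩ := ((Finset.dvd_prod_of_mem t (Finset.mem_univ (⟨y, hy⟩ : Z))).trans
      ((dvd_mul_right _ _).trans (dvd_mul_right _ _))).trans hs
    exact ⟨n ⟨y, hy⟩, by rw [hd, map_mul, mul_right_comm]; exact Ideal.mul_mem_right _ _ (hnI ⟨y, hy⟩)⟩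
  have hfinite : ∀ (s : A) (w : B), s₀ ∣ s → algebraMap A B s ∣ w → e ∣ w →
      ∀ (A' B' : Type u) [CommRing A'] [CommRing B'] [Algebra A A'] [Algebra B B'] [Algebra A' B']
        [Algebra A B'] [IsScalarTower A A' B'] [IsScalarTower A B B']
        [IsLocalization.Away s A'] [IsLocalization.Away w B'],
        (∀ v, (∀ b : B, IsIntegral (A' ⧸ I.map (algebraMap A A'))
            (Ideal.Quotient.mk ((I.map (algebraMap A A')).map (algebraMap A' B')) (algebraMap B B' b))) →
          (∀ v', v' * Ideal.Quotient.mk ((I.map (algebraMap A A')).map (algebraMap A' B')) (algebraMap B B' (e * algebraMap A B s)) = 1 →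
            IsIntegral (A' ⧸ I.map (algebraMap A A')) v') →
          v * Ideal.Quotient.mk ((I.map (algebraMap A A')).map (algebraMap A' B')) (algebraMap B B' w) = 1 →
          IsIntegral (A' ⧸ I.map (algebraMap A A')) v) →
        Module.Finite (A' ⧸ I.map (algebraMap A A'))
          (B' ⧸ (I.map (algebraMap A A')).map (algebraMap A' B')) := by
    intro s w hs₀s hsw hew A' B' _ _ _ _ _ _ _ _ _ _ H
    refine finite_stage s w I S hS q
      (fun x hx => ((Finset.dvd_prod_of_mem _ hx).trans
        ((dvd_mul_left _ _).trans (dvd_mul_right _ _))).trans hs₀s)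
      (fun x hx => hnil s hs₀s _ (Finset.mem_insert_of_mem (Finset.mem_image_of_mem _ hx))) hsw
      (fun v hall hv => H v hall (fun v' hv' => ?_) hv)
    let M := B' ⧸ (I.map (algebraMap A A')).map (algebraMap A' B')
    let R := A' ⧸ I.map (algebraMap A A')
    have : IsScalarTower A R M := tower_quotient _
    let π : B →ₐ[A] M := (Ideal.Quotient.mkₐ A _).comp (IsScalarTower.toAlgHom A B B')
    obtain ⟨k, hk⟩ := hnil s hs₀s _ (Finset.mem_insert_self _ _)
    have hI : π (algebraMap A B s * (e * (e - algebraMap A B u)) ^ k) = 0 := by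
      have := Ideal.mem_map_of_mem (algebraMap B B') hk
      rw [Ideal.map_map, ← IsScalarTower.algebraMap_eq, IsScalarTower.algebraMap_eq A A' B',
        ← Ideal.map_map] at this
      exact Ideal.Quotient.eq_zero_iff_mem.mpr this
    have hv'' : v' * (π e * π (algebraMap A B s)) = 1 := by rw [← map_mul]; exact hv'
    have hsU : IsUnit (algebraMap A R s) := by
      rw [IsScalarTower.algebraMap_apply A A' R]
      exact (IsLocalization.Away.algebraMap_isUnit s).map _
    have huU : IsUnit (algebraMap A R u) :=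
      isUnit_of_dvd_unit (map_dvd _ ((dvd_mul_left u _).trans hs₀s)) hsU
    -- `z` is the inverse of `e`
    let z := v' * π (algebraMap A B s)
    have hze : z * π e = 1 := by rw [← hv'']; ring
    have hint : IsIntegral R z := by
      refine isIntegral_of_isNilpotent_aeval z (C (-(algebraMap A R u)) * X + C 1) ?_ ⟨k, ?_⟩
      · by_cases hR : (1 : R) = 0
        · have := subsingleton_of_zero_eq_one hR.symm
          exact isUnit_of_subsingleton _
        · have : Nontrivial R := nontrivial_of_ne _ _ hR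
          rw [leadingCoeff_linear huU.neg.ne_zero]
          exact huU.neg
      · have hsu : IsUnit (π (algebraMap A B s)) := IsUnit.of_mul_eq_one_right (v' * π e) (by rw [← hv'']; ring)
        have h0 : (π e * (π e - π (algebraMap A B u))) ^ k = 0 := by
          rw [map_mul, map_pow, map_mul, map_sub] at hI
          exact hsu.mul_right_eq_zero.mp hI
        have hu' : algebraMap R M (algebraMap A R u) = π (algebraMap A B u) := by
          rw [AlgHom.commutes, ← IsScalarTower.algebraMap_apply]
        have : aeval z (C (-(algebraMap A R u)) * X + C 1) =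
            z * z * (π e * (π e - π (algebraMap A B u))) := by
          simp only [map_add, map_mul, aeval_C, aeval_X, map_one, map_neg]
          linear_combination -(1 + z * π e - π (algebraMap A B u) * z) * hze - z * hu'
        rw [this, mul_pow, h0, mul_zero]
    have : v' = z * algebraMap R M (hsU.unit⁻¹ : Rˣ) := by
      have hs' : π (algebraMap A B s) = algebraMap R M (algebraMap A R s) := by
        rw [AlgHom.commutes, ← IsScalarTower.algebraMap_apply]
      show v' = v' * π (algebraMap A B s) * _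
      rw [hs', mul_assoc, ← map_mul, IsUnit.mul_val_inv, map_one, mul_one]
    rw [this]
    exact hint.mul isIntegral_algebraMap
  -- the first stage gives `a` with `a = h v` near `Q`
  obtain ⟨a₁, b₁, l, ha₁, hab⟩ : ∃ (a : A) (b : B) (l : ℕ), a ∉ P ∧
      algebraMap A B a * (e * algebraMap A B s₀) ^ l - h * b ∈ I.map (algebraMap A B) := by
    let w₁ := e * algebraMap A B s₀
    let A' := Localization.Away s₀
    let B' := Localization.Away w₁
    have hu₁ : IsUnit (((algebraMap B B').comp (algebraMap A B)) s₀) :=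
      isUnit_of_dvd_unit (map_dvd (algebraMap B B') (dvd_mul_left _ _))
        (IsLocalization.Away.algebraMap_isUnit w₁)
    let φ : A' →+* B' := IsLocalization.Away.lift s₀ hu₁
    let _ : Algebra A' B' := φ.toAlgebra
    have : IsScalarTower A A' B' := .of_algebraMap_eq fun x =>
      ((IsScalarTower.algebraMap_apply A B B' x).trans
        (IsLocalization.Away.lift_eq s₀ hu₁ x).symm)
    have := hfinite s₀ w₁ dvd_rfl (dvd_mul_left _ _) (dvd_mul_right _ _) A' B'
      (fun v _ H hv => H v hv)
    let R := A' ⧸ I.map (algebraMap A A')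
    let M := B' ⧸ (I.map (algebraMap A A')).map (algebraMap A' B')
    have hw₁Q : w₁ ∉ Q := fun hm => (hQ.mem_or_mem hm).elim heQ hs₀
    have : IsScalarTower A R M := tower_quotient _
    let π : B →ₐ[A] M := (Ideal.Quotient.mkₐ A _).comp (IsScalarTower.toAlgHom A B B')
    let χ₀ : A' →+* P.ResidueField := IsLocalization.Away.lift s₀ (g := algebraMap A P.ResidueField)
      (isUnit_iff_ne_zero.mpr fun h => hs₀ (Ideal.algebraMap_residueField_eq_zero.mp h))
    have hχ₀ : ∀ x, χ₀ (algebraMap A A' x) = algebraMap A P.ResidueField x :=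
      fun x => IsLocalization.Away.lift_eq s₀ _ x
    let χ : R →+* P.ResidueField := Ideal.Quotient.lift _ χ₀ (fun x hx => by
      induction hx using Submodule.span_induction with
      | mem x hx =>
        obtain ⟨c, hc, rfl⟩ := hx
        rw [hχ₀]
        exact Ideal.algebraMap_residueField_eq_zero.mpr (hJP (hIJ hc))
      | zero => simp
      | add x y _ _ hx hy => rw [map_add, hx, hy, add_zero]
      | smul r x _ hx => rw [smul_eq_mul, map_mul, hx, mul_zero])
    have hχ : ∀ x, χ (algebraMap A R x) = algebraMap A P.ResidueField x := hχ₀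
    let C₁ : Ideal M := Ideal.span {π h}
    have : (RingHom.ker χ).IsPrime := RingHom.ker_isPrime χ
    obtain ⟨r, hr, hrP⟩ : ∃ r : R, r ∈ C₁.comap (algebraMap R M) ∧ χ r ≠ 0 := by
      by_contra! hcon
      obtain ⟨Q'', hle, hQ'', hQ''P⟩ := Ideal.exists_ideal_over_prime_of_isIntegral
        (RingHom.ker χ) C₁ (fun r hr => hcon r hr)
      have hQB : (Q''.comap π).comap (algebraMap A B) = P := by
        ext x
        rw [Ideal.mem_comap, Ideal.mem_comap, AlgHom.commutes,
          IsScalarTower.algebraMap_apply A R M, ← Ideal.mem_comap, hQ''P, RingHom.mem_ker, hχ,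
          Ideal.algebraMap_residueField_eq_zero]
      have hw : IsUnit (π w₁) :=
        (IsLocalization.Away.algebraMap_isUnit w₁).map (Ideal.Quotient.mk _)
      have heq : Q''.comap π = Q := by
        by_contra hne
        refine hQ''.ne_top (Ideal.eq_top_of_isUnit_mem _ ?_ hw)
        have : π e ∈ Q'' := heO _ (Ideal.comap_isPrime π Q'') hQB hne
        rw [show π w₁ = π e * π (algebraMap A B s₀) from map_mul _ _ _]
        exact Ideal.mul_mem_right _ _ this
      refine hhQ' ?_
      rw [← heq]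
      exact hle (Ideal.subset_span rfl)
    obtain ⟨r₀, rfl⟩ := Ideal.Quotient.mk_surjective r
    obtain ⟨⟨c, ⟨_, j, rfl⟩⟩, hc⟩ := IsLocalization.surj (Submonoid.powers s₀) r₀
    have hcr : algebraMap A R c = Ideal.Quotient.mk _ r₀ * algebraMap A R (s₀ ^ j) := by
      rw [IsScalarTower.algebraMap_apply A A' R, IsScalarTower.algebraMap_apply A A' R (s₀ ^ j),
        ← hc, map_mul]
      rfl
    have hcP : c ∉ P := fun hcP => by
      have := congrArg χ hcr
      rw [map_mul, hχ, hχ, Ideal.algebraMap_residueField_eq_zero.mpr hcP] at this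
      rcases mul_eq_zero.mp this.symm with h | h
      · exact hrP h
      · exact hs₀ (Ideal.IsPrime.mem_of_pow_mem inferInstance j
          (Ideal.algebraMap_residueField_eq_zero.mp h))
    obtain ⟨v, hv⟩ := Ideal.mem_span_singleton'.mp (show algebraMap R M (Ideal.Quotient.mk _ r₀) ∈ C₁ from hr)
    obtain ⟨v₀, rfl⟩ := Ideal.Quotient.mk_surjective v
    obtain ⟨⟨b, ⟨_, i, rfl⟩⟩, hb⟩ := IsLocalization.surj (Submonoid.powers w₁) v₀
    have h1 : π (algebraMap A B c * w₁ ^ i - h * (b * algebraMap A B (s₀ ^ j))) = 0 := by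
      rw [map_sub, sub_eq_zero, map_mul, map_mul, map_mul, AlgHom.commutes, AlgHom.commutes,
        IsScalarTower.algebraMap_apply A R M, IsScalarTower.algebraMap_apply A R M (s₀ ^ j), hcr,
        map_mul, ← hv, show π b = Ideal.Quotient.mk _ (algebraMap B B' b) from rfl, ← hb, map_mul]
      show _ = _ * (_ * π (w₁ ^ i) * _)
      ring
    have h2 := Ideal.Quotient.eq_zero_iff_mem.mp h1
    rw [Ideal.map_map, ← IsScalarTower.algebraMap_eq, IsScalarTower.algebraMap_eq A B B',
      ← Ideal.map_map] at h2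
    obtain ⟨_, ⟨i', rfl⟩, h3⟩ :=
      (IsLocalization.algebraMap_mem_map_algebraMap_iff (Submonoid.powers w₁) B' _ _).mp h2
    refine ⟨c, w₁ ^ i' * (b * algebraMap A B (s₀ ^ j)), i' + i, hcP, ?_⟩
    convert h3 using 1
    ring
  -- the second stage
  let s := s₀ * a₁
  let w := e * h * algebraMap A B s
  refine ⟨s, w, I, ⟨G, rfl⟩, dvd_mul_left _ _, fun A' B' _ _ _ _ _ _ _ _ _ _ => ?_⟩
  let J' := I.map (algebraMap A A')
  have hwQ : w ∉ Q := fun hm => (hQ.mem_or_mem hm).elim
    (fun hm => (hQ.mem_or_mem hm).elim heQ hhQ')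
    (fun hm => (Ideal.IsPrime.mem_or_mem (inferInstanceAs P.IsPrime) hm).elim hs₀ ha₁)
  refine ⟨hfinite s w (dvd_mul_right _ _) (dvd_mul_left _ _) ⟨h * algebraMap A B s, mul_assoc _ _ _⟩
    A' B' (fun v hall H hv => ?_), ?_, ?_⟩
  · let R := A' ⧸ J'
    let M := B' ⧸ J'.map (algebraMap A' B')
    have : IsScalarTower A R M := tower_quotient _
    let π : B →ₐ[A] M := (Ideal.Quotient.mkₐ A _).comp (IsScalarTower.toAlgHom A B B')
    let v' : M := v * π h
    have hv'' : v * π w = 1 := hv
    have hv' : v' * π (e * algebraMap A B s) = 1 := by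
      rw [← hv'']
      simp only [v', w, map_mul]
      ring
    have hI : π (algebraMap A B a₁) * π (e * algebraMap A B s₀) ^ l = π h * π b₁ := by
      have := Ideal.mem_map_of_mem (algebraMap B B') hab
      rw [Ideal.map_map, ← IsScalarTower.algebraMap_eq, IsScalarTower.algebraMap_eq A A' B',
        ← Ideal.map_map] at this
      have h0 : π (algebraMap A B a₁ * (e * algebraMap A B s₀) ^ l - h * b₁) = 0 :=
        Ideal.Quotient.eq_zero_iff_mem.mpr this
      rw [map_sub, sub_eq_zero, map_mul π (algebraMap A B a₁), map_pow, map_mul π h] at h0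
      exact h0
    have hv₁ : v' * π (algebraMap A B a₁) * π (e * algebraMap A B s₀) = 1 := by
      rw [← hv']
      simp only [s, map_mul]
      ring
    have hveq : v = v' * (π b₁ * ((v' * π (algebraMap A B a₁)) ^ l *
        (v' * π (e * algebraMap A B s₀)))) := by
      symm
      calc v' * (π b₁ * ((v' * π (algebraMap A B a₁)) ^ l * (v' * π (e * algebraMap A B s₀))))
          = v * (π h * π b₁) * (v' * π (algebraMap A B a₁)) ^ l *
              (v' * π (e * algebraMap A B s₀)) := by simp only [v']; ring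
        _ = v * (v' * π (algebraMap A B a₁) * π (e * algebraMap A B s₀)) ^ (l + 1) := by
              rw [← hI]; ring
        _ = v := by rw [hv₁, one_pow, mul_one]
    rw [hveq]
    have hv'int := H v' hv'
    exact hv'int.mul ((hall b₁).mul (((hv'int.mul (hall _)).pow l).mul (hv'int.mul (hall _))))
  · intro x hx
    induction hx using Submodule.span_induction with
    | mem x hx =>
      obtain ⟨c, hc, rfl⟩ := hx
      rw [algebraMap_smul, Algebra.smul_def, IsScalarTower.algebraMap_apply A B B', ← map_mul]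
      refine (IsLocalization.map_eq_zero_iff (Submonoid.powers w) B' _).mpr
        ⟨⟨w, Submonoid.mem_powers w⟩, ?_⟩
      show w * (algebraMap A B c * g) = 0
      linear_combination (e * algebraMap A B s) * hkill c hc
    | zero => simp
    | add x y _ _ hx hy => rw [add_smul, hx, hy, add_zero]
    | smul r x _ hx => rw [smul_eq_mul, mul_smul, hx, smul_zero]
  · have hd : Disjoint (Submonoid.powers w : Set B) Q := by
      rw [Set.disjoint_left]
      rintro _ ⟨k, rfl⟩ hk
      exact hwQ (hQ.mem_of_pow_mem k hk)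
    refine ⟨Q.map (algebraMap B B'),
      IsLocalization.isPrime_of_isPrime_disjoint (Submonoid.powers w) B' Q hQ hd, fun x hx => ?_, ?_⟩
    · obtain ⟨⟨y, m⟩, hy⟩ := IsLocalization.surj (Submonoid.powers w) x
      have h0 : algebraMap B B' (y * g) = 0 := by
        rw [map_mul, ← hy, mul_right_comm, hx, zero_mul]
      obtain ⟨m', hm'⟩ := (IsLocalization.map_eq_zero_iff (Submonoid.powers w) B' _).mp h0
      have hyQ : y ∈ Q := by
        have : (m' : B) * y ∈ N := by rw [hN, mul_assoc]; exact hm'
        exact (hQ.mem_or_mem (hQmin.1.2 this)).resolve_left (Set.disjoint_left.mp hd m'.2)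
      exact (Ideal.unit_mul_mem_iff_mem _ (IsLocalization.map_units B' m)).mp
        (by rw [mul_comm, hy]; exact Ideal.mem_map_of_mem _ hyQ)
    · rw [Ideal.map_map, ← IsScalarTower.algebraMap_eq, IsScalarTower.algebraMap_eq A B B',
        ← Ideal.map_map]
      exact Ideal.map_mono (Ideal.map_le_iff_le_comap.mpr (hIJ.trans hJP))

/-- The algebra behind `S1480`. -/
theorem exists_section [Module.Flat A B] [Algebra.FinitePresentation A B] [Algebra.QuasiFinite A B]
    (g : B) (hg : g ≠ 0) :
    ∃ (s : A) (w : B), algebraMap A B s ∣ w ∧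
      ∀ (A₂ B₂ : Type u) [CommRing A₂] [CommRing B₂] [Algebra A A₂] [Algebra B B₂] [Algebra A₂ B₂]
        [Algebra A B₂] [IsScalarTower A A₂ B₂] [IsScalarTower A B B₂]
        [IsLocalization.Away s A₂] [IsLocalization.Away w B₂],
        ∃ a : A₂, ∀ (A₃ B₃ : Type u) [CommRing A₃] [CommRing B₃] [Algebra A₂ A₃] [Algebra B₂ B₃]
          [Algebra A₃ B₃] [Algebra A₂ B₃] [IsScalarTower A₂ A₃ B₃] [IsScalarTower A₂ B₂ B₃]
          [IsLocalization.Away a A₃] [IsLocalization.Away (algebraMap A₂ B₂ a) B₃],
          algebraMap B₂ B₃ (algebraMap B B₂ g) ≠ 0 ∧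
          ∃ (F : Ideal A₃) (r : ℕ), 0 < r ∧ ∃ φ : (Fin r → ↥F) →ₗ[A₃] B₃,
            Function.Injective φ ∧ algebraMap B₂ B₃ (algebraMap B B₂ g) ∈ LinearMap.range φ := by
  obtain ⟨s, w, I, hI, hsw, hst⟩ := exists_stage (A := A) g hg
  refine ⟨s, w, hsw, fun A₂ B₂ _ _ _ _ _ _ _ _ _ _ => ?_⟩
  obtain ⟨hfin, hkill, Q, hQ, hann, hIQ⟩ := hst A₂ B₂
  have : Module.Flat A₂ B₂ := flat_localization (A := A) (B := B) (Submonoid.powers s) (Submonoid.powers w)
  let J := I.map (algebraMap A A₂)
  let M := B₂ ⧸ J.map (algebraMap A₂ B₂)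
  have : Module.Flat (A₂ ⧸ J) M := flat_quotient J
  have : Module.FinitePresentation (A₂ ⧸ J) M :=
    finitePresentation_quotient (A := A) (B := B) s w J (hI.map _)
  let QM : Ideal M := Q.map (Ideal.Quotient.mk _)
  have hQMc : QM.comap (Ideal.Quotient.mk _) = Q := by
    rw [Ideal.comap_map_of_surjective _ Ideal.Quotient.mk_surjective, ← RingHom.ker_eq_comap_bot,
      Ideal.mk_ker, sup_eq_left]
    exact hIQ
  have : QM.IsPrime := Ideal.map_isPrime_of_surjective Ideal.Quotient.mk_surjective
    (by rw [Ideal.mk_ker]; exact hIQ)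
  obtain ⟨f, hf, n, m, hgen, hind⟩ :=
    exists_basis_elems (M := M) (QM.comap (algebraMap (A₂ ⧸ J) M))
  obtain ⟨a, rfl⟩ := Ideal.Quotient.mk_surjective f
  choose b hb using fun i => Ideal.Quotient.mk_surjective (m i)
  have haQ : algebraMap A₂ B₂ a ∉ Q := fun h => hf (by
    rw [Ideal.mem_comap]
    exact Ideal.mem_map_of_mem (Ideal.Quotient.mk _) h)
  refine ⟨a, fun A₃ B₃ _ _ _ _ _ _ _ _ _ _ => ?_⟩
  have : Module.Flat A₃ B₃ := flat_localization (A := A₂) (B := B₂) (Submonoid.powers a)
    (Submonoid.powers (algebraMap A₂ B₂ a))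
  let J₃ := J.map (algebraMap A₂ A₃)
  have hJ₃ : J₃.map (algebraMap A₃ B₃) = (J.map (algebraMap A₂ B₂)).map (algebraMap B₂ B₃) := by
    exact (Ideal.map_map _ _).trans ((congrArg (fun φ => Ideal.map φ J)
      ((IsScalarTower.algebraMap_eq A₂ A₃ B₃).symm.trans (IsScalarTower.algebraMap_eq A₂ B₂ B₃))).trans
      (Ideal.map_map _ _).symm)
  have haU : IsUnit (algebraMap A₂ A₃ a) := IsLocalization.Away.algebraMap_isUnit a
  have hmk : ∀ (c : Fin n → A₂), Ideal.Quotient.mk (J.map (algebraMap A₂ B₂)) (∑ i, c i • b i) =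
      ∑ i, Ideal.Quotient.mk J (c i) • m i := fun c => by
    rw [map_sum]
    refine Finset.sum_congr rfl fun i _ => ?_
    rw [← hb, Algebra.smul_def, map_mul, Algebra.smul_def, Ideal.Quotient.algebraMap_quotient_map_quotient]
  have hne : algebraMap B₂ B₃ (algebraMap B B₂ g) ≠ 0 := by
    intro h0
    obtain ⟨⟨_, k, rfl⟩, hk⟩ :=
      (IsLocalization.map_eq_zero_iff (Submonoid.powers (algebraMap A₂ B₂ a)) B₃ _).mp h0
    exact haQ (hQ.mem_of_pow_mem k (hann _ hk))
  have hcore := core (A := A₃) (B := B₃) J₃ ((hI.map _).map _) n (fun i => algebraMap B₂ B₃ (b i))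
    ?_ ?_ (algebraMap B₂ B₃ (algebraMap B B₂ g)) ?_
  · obtain ⟨F, φ, hφ, hgφ⟩ := hcore
    refine ⟨hne, F, n, Nat.pos_of_ne_zero fun hn => hne ?_, φ, hφ, hgφ⟩
    subst hn
    obtain ⟨x, hx⟩ := hgφ
    rw [← hx, Subsingleton.elim x 0, map_zero]
  · intro x
    obtain ⟨⟨y, ⟨_, k, rfl⟩⟩, hy⟩ :=
      IsLocalization.surj (Submonoid.powers (algebraMap A₂ B₂ a)) x
    obtain ⟨j, c, hc⟩ := hgen (Ideal.Quotient.mk _ y)
    choose c₀ hc₀ using fun i => Ideal.Quotient.mk_surjective (c i)
    have h1 : algebraMap A₂ B₂ a ^ j * y - ∑ i, c₀ i • b i ∈ J.map (algebraMap A₂ B₂) := by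
      rw [← Ideal.Quotient.eq, map_mul, hmk, map_pow]
      simp only [hc₀]
      rw [← hc, Algebra.smul_def, map_pow]
      rfl
    have h2 := Ideal.mem_map_of_mem (algebraMap B₂ B₃) h1
    rw [← hJ₃, map_sub, map_mul, map_sum, ← hy, map_pow, map_pow,
      ← IsScalarTower.algebraMap_apply, IsScalarTower.algebraMap_apply A₂ A₃ B₃] at h2
    refine ⟨fun i => (haU.pow (j + k)).unit⁻¹.val * algebraMap A₂ A₃ (c₀ i), ?_⟩
    have h3 := (J₃.map (algebraMap A₃ B₃)).mul_mem_left
      (algebraMap A₃ B₃ (haU.pow (j + k)).unit⁻¹.val) h2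
    convert h3 using 1
    have hone : algebraMap A₃ B₃ (haU.pow (j + k)).unit⁻¹.val *
        (algebraMap A₃ B₃ (algebraMap A₂ A₃ a) ^ j * algebraMap A₃ B₃ (algebraMap A₂ A₃ a) ^ k) = 1 := by
      rw [← pow_add, ← map_pow (algebraMap A₃ B₃), ← map_mul, IsUnit.val_inv_mul, map_one]
    have hsum : algebraMap A₃ B₃ (haU.pow (j + k)).unit⁻¹.val *
        ∑ i, algebraMap B₂ B₃ (c₀ i • b i) =
        ∑ i, ((haU.pow (j + k)).unit⁻¹.val * algebraMap A₂ A₃ (c₀ i)) • algebraMap B₂ B₃ (b i) := by
      rw [Finset.mul_sum]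
      refine Finset.sum_congr rfl fun i _ => ?_
      rw [Algebra.smul_def, Algebra.smul_def, map_mul, map_mul, ← IsScalarTower.algebraMap_apply,
        IsScalarTower.algebraMap_apply A₂ A₃ B₃, mul_assoc]
    rw [mul_sub, hsum]
    linear_combination (-x) * hone
  · intro c hc i
    obtain ⟨⟨_, k, rfl⟩, hk⟩ :=
      IsLocalization.exist_integer_multiples_of_finite (Submonoid.powers a) c
    choose c₀ hc₀ using hk
    have hc₀' : ∀ i, algebraMap A₂ A₃ (c₀ i) = algebraMap A₂ A₃ a ^ k * c i := fun i => by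
      rw [hc₀ i, Algebra.smul_def, map_pow]
    have h1 : algebraMap B₂ B₃ (∑ i, c₀ i • b i) ∈ (J.map (algebraMap A₂ B₂)).map (algebraMap B₂ B₃) := by
      rw [← hJ₃, map_sum]
      convert (J₃.map (algebraMap A₃ B₃)).mul_mem_left (algebraMap A₃ B₃ (algebraMap A₂ A₃ a ^ k)) hc
        using 1
      rw [Finset.mul_sum]
      refine Finset.sum_congr rfl fun i _ => ?_
      rw [Algebra.smul_def, Algebra.smul_def, map_mul, ← IsScalarTower.algebraMap_apply,
        IsScalarTower.algebraMap_apply A₂ A₃ B₃, hc₀', map_mul, mul_assoc]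
    obtain ⟨_, ⟨l, rfl⟩, hl⟩ := (IsLocalization.algebraMap_mem_map_algebraMap_iff
      (Submonoid.powers (algebraMap A₂ B₂ a)) B₃ _ _).mp h1
    have h2 : ∑ i, Ideal.Quotient.mk J (a ^ l * c₀ i) • m i = 0 := by
      rw [← hmk, Ideal.Quotient.eq_zero_iff_mem]
      convert hl using 1
      simp only [← map_pow, Finset.mul_sum, Algebra.smul_def, map_mul, mul_assoc]
    obtain ⟨j, hj⟩ := hind _ h2
    have h3 := hj i
    rw [← map_pow, ← map_mul, Ideal.Quotient.eq_zero_iff_mem] at h3
    have h4 := Ideal.mem_map_of_mem (algebraMap A₂ A₃) h3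
    rw [map_mul, map_mul, map_pow, map_pow, hc₀', ← mul_assoc, ← mul_assoc] at h4
    exact (Ideal.unit_mul_mem_iff_mem _ (((haU.pow j).mul (haU.pow l)).mul (haU.pow k))).mp h4
  · intro x hx
    induction hx using Submodule.span_induction with
    | mem x hx =>
      obtain ⟨c, hc, rfl⟩ := hx
      rw [algebraMap_smul, Algebra.smul_def, IsScalarTower.algebraMap_apply A₂ B₂ B₃, ← map_mul,
        ← Algebra.smul_def, hkill c hc, map_zero]
    | zero => simp
    | add x y _ _ hx hy => rw [add_smul, hx, hy, add_zero]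
    | smul r x _ hx => rw [smul_eq_mul, mul_smul, hx, smul_zero]

end Groth.FlatmorThree.QFSection
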