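import Groth.Prelude.Def_FlatCA
import Mathlib.RingTheory.LocalRing.Module
import Mathlib.RingTheory.Localization.BaseChange
import Mathlib.RingTheory.IsTensorProduct
import Mathlib.Algebra.Module.Projective
import Mathlib.LinearAlgebra.DirectSum.Finsupp

set_option autoImplicit false
universe u

namespace Groth.FlatmorThree

open scoped TensorProduct
open IsLocalRing

variable {R : Type u} [CommRing R] [IsLocalRing R]

/-- A map of free modules over a local ring that is injective on the closed fibre is universally injective. -/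
theorem lTensor_injective_of_finsupp {ι κ : Type u} (g : (ι →₀ R) →ₗ[R] (κ →₀ R))
    (hg : Function.Injective (g.lTensor (ResidueField R))) (Q : Type u) [AddCommGroup Q] [Module R Q] :
    Function.Injective (g.lTensor Q) := by
  classical
  rw [← LinearMap.ker_eq_bot, eq_bot_iff]
  intro z hz
  -- `z` lives on a finite set of coordinates
  obtain ⟨J, w, rfl⟩ : ∃ (J : Finset ι) (w : Q ⊗[R] (J →₀ R)),
      (Finsupp.lmapDomain R R (Subtype.val : J → ι)).lTensor Q w = z := by
    clear hz
    have : z = (TensorProduct.finsuppScalarRight R R Q ι).symm (TensorProduct.finsuppScalarRight R R Q ι z) :=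
      (LinearEquiv.symm_apply_apply _ _).symm
    refine ⟨(TensorProduct.finsuppScalarRight R R Q ι z).support,
      ∑ i, (TensorProduct.finsuppScalarRight R R Q ι z i.1) ⊗ₜ[R] Finsupp.single i 1, ?_⟩
    rw [map_sum]
    conv_rhs => rw [this, ← Finsupp.sum_single (TensorProduct.finsuppScalarRight R R Q ι z), Finsupp.sum, map_sum]
    rw [← Finset.sum_coe_sort (s := (TensorProduct.finsuppScalarRight R R Q ι z).support)]
    refine Finset.sum_congr rfl fun i _ => ?_
    rw [LinearMap.lTensor_tmul, Finsupp.lmapDomain_apply, Finsupp.mapDomain_single,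
      TensorProduct.finsuppScalarRight_symm_apply_single]
  set incl : (J →₀ R) →ₗ[R] (ι →₀ R) := Finsupp.lmapDomain R R (Subtype.val : J → ι)
  -- the finite set of target coordinates
  let K : Finset κ := Finset.univ.biUnion fun i : J => (g (Finsupp.single i.1 1)).support
  let res : (κ →₀ R) →ₗ[R] (K →₀ R) := Finsupp.lcomapDomain _ Subtype.val_injective
  let emb : (K →₀ R) →ₗ[R] (κ →₀ R) := Finsupp.lmapDomain R R (Subtype.val : K → κ)
  let gJ : (J →₀ R) →ₗ[R] (K →₀ R) := res ∘ₗ g ∘ₗ incl
  have hemb : emb ∘ₗ gJ = g ∘ₗ incl := by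
    apply Finsupp.lhom_ext
    intro i r
    show Finsupp.mapDomain Subtype.val (Finsupp.comapDomain Subtype.val (g (incl (Finsupp.single i r)))
      Subtype.val_injective.injOn) = g (incl (Finsupp.single i r))
    refine Finsupp.mapDomain_comapDomain _ Subtype.val_injective _ ?_
    intro k hk
    have e : incl (Finsupp.single i r) = r • Finsupp.single i.1 1 := by
      simp [incl, Finsupp.mapDomain_single, Finsupp.smul_single]
    rw [e, map_smul] at hk
    exact ⟨⟨k, Finset.mem_biUnion.mpr ⟨i, Finset.mem_univ _, Finsupp.support_smul hk⟩⟩, rfl⟩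
  have hincl : ∀ (P : Type u) [AddCommGroup P] [Module R P], Function.Injective (incl.lTensor P) := by
    intro P _ _
    let back : (ι →₀ R) →ₗ[R] (J →₀ R) := Finsupp.lcomapDomain _ Subtype.val_injective
    have hb : back ∘ₗ incl = LinearMap.id := by
      apply LinearMap.ext
      intro x
      exact Finsupp.comapDomain_mapDomain Subtype.val Subtype.val_injective x
    refine Function.LeftInverse.injective (g := back.lTensor P) fun x => ?_
    rw [← LinearMap.lTensor_comp_apply, hb, LinearMap.lTensor_id, LinearMap.id_apply]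
  have hgJ : Function.Injective (gJ.lTensor (ResidueField R)) := by
    have h1 : Function.Injective ((emb ∘ₗ gJ).lTensor (ResidueField R)) := by
      rw [hemb, LinearMap.lTensor_comp]
      exact hg.comp (hincl _)
    rw [LinearMap.lTensor_comp, LinearMap.coe_comp] at h1
    exact h1.of_comp
  obtain ⟨l', hl'⟩ := (IsLocalRing.split_injective_iff_lTensor_residueField_injective gJ).mpr hgJ
  have h0 : (g ∘ₗ incl).lTensor Q w = 0 := by
    rw [LinearMap.lTensor_comp]; exact hz
  have : w = 0 := by
    have hl'' : (l' ∘ₗ res) ∘ₗ (g ∘ₗ incl) = LinearMap.id := by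
      rw [← hl']; rfl
    calc w = ((l' ∘ₗ res) ∘ₗ (g ∘ₗ incl)).lTensor Q w := by rw [hl'', LinearMap.lTensor_id, LinearMap.id_apply]
      _ = 0 := by rw [LinearMap.lTensor_comp_apply, h0, map_zero]
  simp [this]

/-- A map of projective modules over a local ring that is injective on the closed fibre is universally
injective. -/
theorem univInj_of_projective {M N : Type u} [AddCommGroup M] [Module R M] [AddCommGroup N] [Module R N]
    [Module.Projective R M] [Module.Projective R N] (f : M →ₗ[R] N)
    (hf : Function.Injective (f.lTensor (ResidueField R))) : FlatCA.UnivInj R f := by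
  obtain ⟨eM, heM⟩ := Module.projective_def.mp ‹Module.Projective R M›
  obtain ⟨eN, heN⟩ := Module.projective_def.mp ‹Module.Projective R N›
  set rM := Finsupp.linearCombination R (id : M → M)
  set rN := Finsupp.linearCombination R (id : N → N)
  let jN : (N →₀ R) →ₗ[R] (N ⊕ M →₀ R) := Finsupp.lmapDomain R R Sum.inl
  let jM : (M →₀ R) →ₗ[R] (N ⊕ M →₀ R) := Finsupp.lmapDomain R R Sum.inr
  let pN : (N ⊕ M →₀ R) →ₗ[R] (N →₀ R) := Finsupp.lcomapDomain _ Sum.inl_injective
  let pM : (N ⊕ M →₀ R) →ₗ[R] (M →₀ R) := Finsupp.lcomapDomain _ Sum.inr_injective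
  let g : (M →₀ R) →ₗ[R] (N ⊕ M →₀ R) :=
    jN ∘ₗ (eN ∘ₗ f ∘ₗ rM) + jM ∘ₗ (LinearMap.id - eM ∘ₗ rM)
  have hrM : rM ∘ₗ eM = LinearMap.id := LinearMap.ext heM
  have hrN : rN ∘ₗ eN = LinearMap.id := LinearMap.ext heN
  have hpNg : pN ∘ₗ g = eN ∘ₗ f ∘ₗ rM := by
    apply LinearMap.ext; intro x; ext i
    simp [g, pN, jN, jM, Finsupp.mapDomain_apply Sum.inl_injective, Finsupp.mapDomain_of_notMem_range]
  have hpMg : pM ∘ₗ g = LinearMap.id - eM ∘ₗ rM := by
    apply LinearMap.ext; intro x; ext i
    simp [g, pM, jN, jM, Finsupp.mapDomain_apply Sum.inr_injective, Finsupp.mapDomain_of_notMem_range]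
  have hg : Function.Injective (g.lTensor (ResidueField R)) := by
    rw [← LinearMap.ker_eq_bot, eq_bot_iff]
    intro x hx
    have hx' : g.lTensor (ResidueField R) x = 0 := hx
    have h1 : (pN ∘ₗ g).lTensor (ResidueField R) x = 0 := by
      rw [LinearMap.lTensor_comp_apply, hx', map_zero]
    have h2 : (pM ∘ₗ g).lTensor (ResidueField R) x = 0 := by
      rw [LinearMap.lTensor_comp_apply, hx', map_zero]
    rw [hpNg] at h1
    rw [hpMg] at h2
    have h3 : ((rN ∘ₗ eN) ∘ₗ f).lTensor (ResidueField R) (rM.lTensor (ResidueField R) x) = 0 := by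
      rw [← LinearMap.lTensor_comp_apply]
      rw [show ((rN ∘ₗ eN) ∘ₗ f) ∘ₗ rM = rN ∘ₗ (eN ∘ₗ f ∘ₗ rM) from rfl, LinearMap.lTensor_comp_apply, h1,
        map_zero]
    rw [hrN, LinearMap.id_comp] at h3
    have h4 : rM.lTensor (ResidueField R) x = 0 := hf (h3.trans (map_zero _).symm)
    rw [LinearMap.lTensor_sub, LinearMap.sub_apply, LinearMap.lTensor_id, LinearMap.id_apply,
      LinearMap.lTensor_comp_apply, h4, map_zero, sub_zero] at h2
    exact h2
  intro Q _ _
  have hinj := lTensor_injective_of_finsupp g hg Q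
  rw [← LinearMap.ker_eq_bot, eq_bot_iff]
  intro x hx
  have e1 : g ∘ₗ eM = jN ∘ₗ eN ∘ₗ f := by
    apply LinearMap.ext; intro m
    simp [g, show rM (eM m) = m from heM m]
  have : g.lTensor Q (eM.lTensor Q x) = 0 := by
    rw [← LinearMap.lTensor_comp_apply, e1, LinearMap.lTensor_comp_apply, LinearMap.lTensor_comp_apply,
      show f.lTensor Q x = 0 from hx, map_zero, map_zero]
  have h5 : eM.lTensor Q x = 0 := hinj (this.trans (map_zero _).symm)
  show x = 0
  calc x = (rM ∘ₗ eM).lTensor Q x := by rw [hrM, LinearMap.lTensor_id, LinearMap.id_apply]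
    _ = 0 := by rw [LinearMap.lTensor_comp_apply, h5, map_zero]

/-- If multiplication by every element of `T` is universally injective then so is localization at `T`. -/
theorem univInj_localization {R S : Type u} [CommRing R] [CommRing S] [Algebra R S] (N : Type u)
    [AddCommGroup N] [Module S N] [Module R N] [IsScalarTower R S N] (T : Submonoid S)
    (h : ∀ s ∈ T, FlatCA.UnivInj R ((LinearMap.lsmul S N s).restrictScalars R)) :
    FlatCA.UnivInj R ((LocalizedModule.mkLinearMap T N).restrictScalars R) := by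
  intro Q _ _
  rw [LinearMap.lTensor_inj_iff_rTensor_inj]
  let g' := TensorProduct.AlgebraTensorModule.rTensor R Q (LocalizedModule.mkLinearMap T N)
  suffices Function.Injective g' from this
  rw [← LinearMap.ker_eq_bot, eq_bot_iff]
  intro x hx
  obtain ⟨s, hs⟩ := (IsLocalizedModule.eq_iff_exists T g' (x₁ := x) (x₂ := 0)).mp (by
    rw [map_zero]; exact hx)
  rw [smul_zero] at hs
  have h1 := (LinearMap.lTensor_inj_iff_rTensor_inj _ _).mp (h s.1 s.2 Q)
  refine h1 ?_
  rw [map_zero, ← hs]
  clear hs hx h1
  induction x using TensorProduct.induction_on with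
  | zero => simp
  | tmul n q => rfl
  | add a b ha hb => rw [map_add, ha, hb, smul_add]

end Groth.FlatmorThree
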